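import Cfsg.Agent.H26.SingerMax.CharProfile
import Mathlib.GroupTheory.Complement
import Mathlib.GroupTheory.GroupAction.Quotient

/-!
There is no exceptional character of degree five.
-/

set_option autoImplicit false
set_option linter.unusedSectionVars false
set_option linter.style.longLine false
set_option linter.style.haveILetI false

namespace Cfsg.Agent.H26.SingerMax

open scoped ComplexConjugate
open MulAction
open scoped commutatorElement

universe u v

variable {Γ : Type u} [Group Γ] [Fintype Γ] {A : Subgroup Γ} {f : Γ}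

theorem linear_apply_commutator {χ : Γ → ℂ} (hχ : Cfsg.IsIrrCharacter Γ χ) (h1 : χ 1 = 1)
    (x y : Γ) : χ ⁅x, y⁆ = 1 := by
  obtain ⟨n, ρ, hρ, rfl⟩ := hχ
  have hn : n = 1 := by
    rw [Representation.char_one] at h1
    simpa using h1
  subst hn
  have key : ∀ g, ρ.character g = LinearMap.toMatrix' (ρ g) 0 0 := by
    intro g
    rw [Representation.character, LinearMap.trace_eq_matrix_trace ℂ (Pi.basisFun ℂ (Fin 1)),
      LinearMap.toMatrix_eq_toMatrix', Matrix.trace_fin_one]
  have hmul : ∀ a b, ρ.character (a * b) = ρ.character a * ρ.character b := fun a b => by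
    rw [key, key, key, map_mul, LinearMap.toMatrix'_mul, Matrix.mul_apply, Fin.sum_univ_one]
  rw [commutatorElement_def, hmul, hmul, hmul, mul_right_comm (ρ.character x), ← hmul x x⁻¹,
    mul_inv_cancel, h1, one_mul, ← hmul, mul_inv_cancel, h1]

/-- A normal subgroup containing `A` on which the character is constant on `A`. -/
theorem apply_eq_of_trivial_on {K : Subgroup Γ} {φ : Γ → ℂ} (hφ : Cfsg.IsCharacter Γ φ)
    (hK : K = Subgroup.normalClosure (A : Set Γ)) (htriv : ∀ a ∈ A, φ a = φ 1) :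
    ∀ k ∈ K, φ k = φ 1 := by
  obtain ⟨N, hN, hmem, -⟩ := CharBasic.IsChar.exists_kernel hφ
  intro k hk
  rw [hK] at hk
  exact (hmem k).1 (Subgroup.normalClosure_le_normal (fun a ha => (hmem a).2 (htriv a ha)) hk)

theorem SingerData.trivial_of_small [Fintype A] (h : SingerData A f) {ψ : Γ → ℂ}
    (hψ : Cfsg.IsIrrCharacter Γ ψ) {D : ℕ} (hD : ψ 1 = D) (hD25 : D ≤ 25) :
    mult ψ (trivA A) = 0 ∨ ∀ a ∈ A, ψ a = ψ 1 := by
  obtain ⟨P⟩ := h.exists_profile hψ
  have hbig : (121 : ℤ) ≤ Nat.card A := by exact_mod_cast h.big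
  have hDz : (D : ℤ) = (P.t : ℤ) * Nat.card A + P.β + 5 * P.ε := by
    have := P.hdeg
    rw [hD] at this
    exact_mod_cast this
  have hDz25 : (D : ℤ) ≤ 25 := by exact_mod_cast hD25
  have hor := P.hor
  obtain ⟨hb1, hb2⟩ := P.hβ
  obtain ⟨he1, he2⟩ := P.hε
  have ht : P.t = 0 := by
    by_contra ht
    have : (1 : ℤ) ≤ P.t := by exact_mod_cast Nat.pos_of_ne_zero ht
    nlinarith
  rcases hor with hb | he
  · left
    have := P.htriv
    rw [hb, ht] at this
    simpa using this
  · right
    have hzero : ∀ μ : Cfsg.IrrCharacter A, μ ≠ trivA A → mult ψ μ = 0 := by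
      intro μ hμ
      have := P.hval μ hμ
      rw [he, ht] at this
      simpa using this
    intro a ha
    have hch := CharBasic.IsIrr.isCharacter hψ
    have hexp := CharBasic.classFunction_expansion
      (CharBasic.IsChar.isClassFunction (χ := res A ψ) (CharInduce.IsChar.res hch A))
    have hval : ∀ b : A, res A ψ b = (mult ψ (trivA A) : ℂ) := by
      intro b
      rw [congrFun hexp b, Finset.sum_apply, Finset.sum_eq_single (trivA A)]
      · rw [Pi.smul_apply, classInner_res hch]
        simp [trivA]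
      · intro μ _ hμ
        rw [Pi.smul_apply, classInner_res hch, hzero μ hμ]
        simp
      · exact fun h0 => absurd (Finset.mem_univ _) h0
    exact (hval ⟨a, ha⟩).trans (hval 1).symm

theorem classInner_res_mul_conj {φ : Γ → ℂ} [Fintype A] :
    Cfsg.classInner (res A φ) (res A φ) =
      Cfsg.classInner (res A (φ * fun g => conj (φ g))) (trivA A : A → ℂ) := by
  simp [CharBasic.classInner_def, res, trivA]

/-- The norm of an exceptional character on the normal closure of `A`. -/
theorem SingerData.five_le_norm [Fintype A] (h : SingerData A f) {φ : Γ → ℂ}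
    (hφ : Cfsg.IsIrrCharacter Γ φ) (h5 : φ 1 = 5) (hle : ∀ μ : Cfsg.IrrCharacter A, mult φ μ ≤ 1)
    {K : Subgroup Γ} [Fintype K] (hK : K = Subgroup.normalClosure (A : Set Γ)) :
    5 ≤ ∑ θ : Cfsg.IrrCharacter K, mult φ θ ^ 2 := by
  have hch := CharBasic.IsIrr.isCharacter hφ
  have hA5 : ∑ μ : Cfsg.IrrCharacter A, mult φ μ ^ 2 = 5 := by
    have h1 := h.degree_eq_sum hch (D := 5) (by simpa using h5)
    rw [h1]
    refine Finset.sum_congr rfl fun μ _ => ?_
    have := hle μ
    interval_cases (mult φ μ) <;> rfl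
  obtain ⟨s, hs⟩ := CharBasic.IsChar.eq_multiset_sum
    (CharInduce.IsChar.mul hch (CharInduce.IsChar.conj hch))
  have hsA : (s.map fun ψ : Cfsg.IrrCharacter Γ => mult ψ.1 (trivA A)).sum = 5 := by
    rw [← mult_multiset_sum, ← hs]
    have h1 := classInner_res_mul_conj (A := A) (φ := φ)
    rw [classInner_res_self hch, hA5,
      classInner_res (CharInduce.IsChar.mul hch (CharInduce.IsChar.conj hch))] at h1
    exact_mod_cast h1.symm
  have hsK : ((s.map fun ψ : Cfsg.IrrCharacter Γ => mult ψ.1 (trivA K)).sum : ℂ) =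
      ((∑ θ : Cfsg.IrrCharacter K, mult φ θ ^ 2 : ℕ) : ℂ) := by
    rw [← mult_multiset_sum, ← hs, ← classInner_res_self hch, classInner_res_mul_conj,
      classInner_res (CharInduce.IsChar.mul hch (CharInduce.IsChar.conj hch))]
  have hle' : ∀ ψ ∈ s, mult ψ.1 (trivA A) ≤ mult ψ.1 (trivA K) := by
    intro ψ hψ
    obtain ⟨D, hD⟩ := CharBasic.IsChar.exists_degree (CharBasic.IsIrr.isCharacter ψ.2)
    have hD25 : D ≤ 25 := by
      have h1 := congrFun hs 1
      rw [← Multiset.cons_erase hψ, Multiset.map_cons, Multiset.sum_cons, Pi.add_apply] at h1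
      obtain ⟨R, hR⟩ := CharBasic.IsChar.exists_degree
        (CharBasic.IsChar.multiset_sum ((s.erase ψ).map Subtype.val) (fun g hg => by
          obtain ⟨η, -, rfl⟩ := Multiset.mem_map.1 hg
          exact CharBasic.IsIrr.isCharacter η.2))
      simp only [Pi.mul_apply, h5, hD, hR, map_ofNat] at h1
      have h2 : ((25 : ℕ) : ℂ) = ((D + R : ℕ) : ℂ) := by
        push_cast
        rw [← h1]
        norm_num
      have := Nat.cast_injective h2
      omega
    rcases h.trivial_of_small ψ.2 hD hD25 with h0 | h0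
    · omega
    · have hchψ := CharBasic.IsIrr.isCharacter ψ.2
      have hKval := apply_eq_of_trivial_on hchψ hK h0
      have e1 : Cfsg.classInner (res A ψ.1) (trivA A : A → ℂ) = ψ.1 1 := by
        have : res A ψ.1 = fun _ => ψ.1 1 := funext fun a => h0 a a.2
        rw [this]
        simp [CharBasic.classInner_def, trivA]
      have e2 : Cfsg.classInner (res K ψ.1) (trivA K : K → ℂ) = ψ.1 1 := by
        have : res K ψ.1 = fun _ => ψ.1 1 := funext fun k => hKval k k.2
        rw [this]
        simp [CharBasic.classInner_def, trivA]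
      rw [classInner_res hchψ, hD, Nat.cast_inj] at e1 e2
      rw [e1, e2]
  have hsKn := Nat.cast_injective (R := ℂ) hsK
  rw [← hsKn, ← hsA]
  exact Multiset.sum_map_le_sum_map _ _ hle'

/-- An exceptional character is trivial on commutators of the normal closure. -/
theorem SingerData.commutator_kernel [Fintype A] (h : SingerData A f) {φ : Γ → ℂ}
    (hφ : Cfsg.IsIrrCharacter Γ φ) (h5 : φ 1 = 5) (hle : ∀ μ : Cfsg.IrrCharacter A, mult φ μ ≤ 1)
    {K : Subgroup Γ} (hK : K = Subgroup.normalClosure (A : Set Γ)) :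
    ∀ x ∈ K, ∀ y ∈ K, φ ⁅x, y⁆ = φ 1 := by
  classical
  haveI : Fintype K := Fintype.ofFinite K
  have hch := CharBasic.IsIrr.isCharacter hφ
  have hAK : A ≤ K := hK ▸ Subgroup.subset_normalClosure
  have hexp := CharBasic.classFunction_expansion
    (CharBasic.IsChar.isClassFunction (χ := res K φ) (CharInduce.IsChar.res hch K))
  simp only [classInner_res hch] at hexp
  have hm1 : ∀ θ : Cfsg.IrrCharacter K, mult φ θ ≤ 1 := by
    intro θ
    obtain ⟨D, hD0, hD⟩ := CharBasic.IsIrr.exists_degree θ.2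
    have hθA : ∀ η : Cfsg.IrrCharacter K,
        Cfsg.IsCharacter A (fun a : A => η.1 (Subgroup.inclusion hAK a)) := fun η =>
      CharInduce.IsChar.comp (CharBasic.IsIrr.isCharacter η.2) (Subgroup.inclusion hAK)
    choose n hn using fun (η : Cfsg.IrrCharacter K) (μ : Cfsg.IrrCharacter A) =>
      CharBasic.classInner_isChar_nat (hθA η) (CharBasic.IsIrr.isCharacter μ.2)
    have hμ : ∀ μ : Cfsg.IrrCharacter A, mult φ θ * n θ μ ≤ 1 := by
      intro μ
      have h1 : res A φ = ∑ η : Cfsg.IrrCharacter K,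
          (mult φ η : ℂ) • (fun a : A => η.1 (Subgroup.inclusion hAK a)) := by
        funext a
        have h2 := congrFun hexp (Subgroup.inclusion hAK a)
        simp only [Finset.sum_apply, Pi.smul_apply] at h2 ⊢
        exact h2
      have h2 := classInner_res hch μ
      rw [h1, CharBasic.classInner_sum_left] at h2
      simp only [CharBasic.classInner_smul_left, hn] at h2
      have h3 : mult φ θ * n θ μ ≤ mult φ μ := by
        rw [show mult φ μ = ∑ η : Cfsg.IrrCharacter K, mult φ η * n η μ by exact_mod_cast h2.symm]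
        exact Finset.single_le_sum (fun η _ => Nat.zero_le _) (Finset.mem_univ θ)
          (f := fun η => mult φ η * n η μ)
      exact h3.trans (hle μ)
    obtain ⟨μ, hμ0⟩ : ∃ μ, n θ μ ≠ 0 := by
      by_contra hall
      push Not at hall
      have h1 := congrFun (CharBasic.classFunction_expansion
        (CharBasic.IsChar.isClassFunction (hθA θ))) 1
      simp only [hn, hall, Nat.cast_zero, zero_smul, Finset.sum_const_zero, map_one,
        Pi.zero_apply, hD] at h1
      exact hD0.ne' (by exact_mod_cast h1)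
    have := hμ μ
    nlinarith [Nat.pos_of_ne_zero hμ0]
  have hsq := h.five_le_norm hφ h5 hle hK
  choose D hD0 hD using fun θ : Cfsg.IrrCharacter K => CharBasic.IsIrr.exists_degree θ.2
  have hdeg : ∑ θ : Cfsg.IrrCharacter K, mult φ θ * D θ = 5 := by
    have h1 := congrFun hexp 1
    simp only [res, OneMemClass.coe_one, Finset.sum_apply, Pi.smul_apply, smul_eq_mul, hD, h5] at h1
    exact_mod_cast h1.symm
  have hlin : ∀ θ : Cfsg.IrrCharacter K, mult φ θ ≠ 0 → θ.1 1 = 1 := by
    intro θ hθ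
    have hterm : ∀ η : Cfsg.IrrCharacter K, mult φ η ^ 2 ≤ mult φ η * D η := fun η => by
      rw [sq]
      exact Nat.mul_le_mul_left _ ((hm1 η).trans (hD0 η))
    have heq : mult φ θ ^ 2 = mult φ θ * D θ := by
      refine (Finset.sum_eq_sum_iff_of_le fun η _ => hterm η).1 ?_ θ (Finset.mem_univ θ)
      refine le_antisymm (Finset.sum_le_sum fun η _ => hterm η) ?_
      rw [hdeg]
      exact hsq
    have h1 : mult φ θ = 1 := by
      have := hm1 θ
      omega
    rw [h1, one_pow, one_mul] at heq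
    rw [hD θ, ← heq, Nat.cast_one]
  intro x hx y hy
  have h1 := congrFun hexp ⁅(⟨x, hx⟩ : K), (⟨y, hy⟩ : K)⁆
  have h2 := congrFun hexp 1
  have : ∑ θ : Cfsg.IrrCharacter K, (mult φ θ : ℂ) • θ.1 ⁅(⟨x, hx⟩ : K), (⟨y, hy⟩ : K)⁆
      = ∑ θ : Cfsg.IrrCharacter K, (mult φ θ : ℂ) • θ.1 1 := by
    refine Finset.sum_congr rfl fun θ _ => ?_
    rcases eq_or_ne (mult φ θ) 0 with h0 | h0
    · simp [h0]
    · rw [linear_apply_commutator θ.2 (hlin θ h0), hlin θ h0]
  simp only [Finset.sum_apply, Pi.smul_apply] at h1 h2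
  exact h1.trans (this.trans h2.symm)

/-- An exceptional character keeps `f` out of the normal closure. -/
theorem SingerData.pow_not_mem [Fintype A] (h : SingerData A f) {φ : Γ → ℂ}
    (hφ : Cfsg.IsIrrCharacter Γ φ) (h5 : φ 1 = 5) (h0 : mult φ (trivA A) = 0)
    (hle : ∀ μ : Cfsg.IrrCharacter A, mult φ μ ≤ 1)
    {K : Subgroup Γ} (hK : K = Subgroup.normalClosure (A : Set Γ)) (i : ℕ) (hi : f ^ i ∈ K) :
    5 ∣ i := by
  by_contra h5i
  have hcop : Nat.Coprime i 5 := ((Nat.Prime.coprime_iff_not_dvd (by norm_num)).2 h5i).symm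
  have hfK : f ∈ K := by
    obtain ⟨j, hj⟩ := exists_pow_eq_self_of_coprime (x := f)
      (hcop.of_dvd_right (orderOf_dvd_of_pow_eq_one h.fpow))
    exact hj ▸ K.pow_mem hi j
  have hAK : A ≤ K := hK ▸ Subgroup.subset_normalClosure
  have hker := h.commutator_kernel hφ h5 hle hK
  have hconst : res A φ = fun _ => φ 1 := funext fun b => by
    obtain ⟨a, rfl⟩ := h.exists_comm_eq b
    have : ((a⁻¹ * h.conjA a : A) : Γ) = ⁅(a : Γ)⁻¹, f⁆ := by
      rw [commutatorElement_def]
      simp [h.coe_conjA, mul_assoc]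
    show φ ((a⁻¹ * h.conjA a : A) : Γ) = φ 1
    rw [this]
    exact hker _ (K.inv_mem (hAK a.2)) _ hfK
  have h1 := classInner_res (CharBasic.IsIrr.isCharacter hφ) (trivA A)
  rw [hconst, h0] at h1
  simp [CharBasic.classInner_def, trivA, h5] at h1

/-- The orbit of a normal subgroup divides the orbit of the whole group. -/
theorem orbit_normal_dvd {Ω : Type v} [MulAction Γ Ω] (R : Subgroup Γ) [R.Normal] (x : Ω) :
    (orbit R x).ncard ∣ (orbit Γ x).ncard := by
  set H := stabilizer Γ x
  rw [← index_stabilizer, ← index_stabilizer]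
  have e : (stabilizer R x).index = H.relIndex R := by
    rw [Subgroup.relIndex]
    congr 1
  rw [e]
  have h1 : (H ⊓ R).relIndex H * H.relIndex (H ⊔ R) = (H ⊓ R).relIndex R * R.relIndex (H ⊔ R) := by
    rw [Subgroup.relIndex_mul_relIndex _ _ _ inf_le_left le_sup_left,
      Subgroup.relIndex_mul_relIndex _ _ _ inf_le_right le_sup_right]
  rw [Subgroup.inf_relIndex_right, Subgroup.inf_relIndex_left, Subgroup.relIndex_sup_right,
    mul_comm (H.relIndex R)] at h1
  have h2 : H.relIndex (H ⊔ R) = H.relIndex R :=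
    Nat.eq_of_mul_eq_mul_left (Nat.pos_of_ne_zero Subgroup.index_ne_zero_of_finite) h1
  rw [← h2]
  exact Subgroup.relIndex_dvd_index_of_le le_sup_left

/-- An exceptional character cannot occur. -/
theorem SingerData.no_exceptional [Fintype A] (h : SingerData A f) {φ : Γ → ℂ}
    (hφ : Cfsg.IsIrrCharacter Γ φ) (h5 : φ 1 = 5) (h0 : mult φ (trivA A) = 0)
    (hle : ∀ μ : Cfsg.IrrCharacter A, mult φ μ ≤ 1)
    {Ω : Type v} [Fintype Ω] [MulAction Γ Ω] {d : ℕ} (hcard : Nat.card Ω = d * Nat.card A)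
    (hfree : ∀ a ∈ A, a ≠ 1 → ∀ x : Ω, a • x ≠ x)
    (hsmall : ∀ R : Subgroup Γ, R.Normal → Nat.Coprime (Nat.card R) (Nat.card A) →
      Nat.card A ∣ Nat.card R - 1 → (∀ x : Ω, (orbit R x).ncard ≤ d) → R = ⊥) : False := by
  classical
  set K := Subgroup.normalClosure (A : Set Γ) with hK
  have hAK : A ≤ K := Subgroup.subset_normalClosure
  have hpowK : ∀ i, f ^ i ∈ K → f ^ i = 1 := fun i hi => by
    obtain ⟨j, rfl⟩ := h.pow_not_mem hφ h5 h0 hle hK i hi
    rw [pow_mul, h.fpow, one_pow]
  -- the normal complement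
  have hcompl : ∀ r : ℕ, r.Prime → r ∣ Nat.card A → ∃ M : Subgroup K, ¬ r ∣ Nat.card M ∧
      (∀ g : K, Nat.Coprime (orderOf g) (Nat.card A) → g ∈ M) ∧ ∀ x y : K, ⁅x, y⁆ ∈ M := by
    intro r hr hrA
    haveI := Fact.mk hr
    obtain ⟨S, a, hSA, haS, hane⟩ := h.exists_sylow hrA
    have hSK := hSA.trans hAK
    set T : Sylow r K := S.subtype hSK with hT
    have hmemT : ∀ g : K, g ∈ (T : Subgroup K) ↔ (g : Γ) ∈ (S : Subgroup Γ) := fun g => Iff.rfl
    have hP : Subgroup.normalizer ((T : Subgroup K) : Set K) ≤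
        Subgroup.centralizer ((T : Subgroup K) : Set K) := by
      intro g hg
      have hga : (g : Γ) * a * (g : Γ)⁻¹ ∈ A :=
        hSA ((hmemT _).1 ((Subgroup.mem_normalizer_iff.1 hg ⟨a, hSK haS⟩).1 haS))
      obtain ⟨i, hi⟩ := h.norm _ (h.norm_of_conj (hSA haS) hane hga)
      have hfi : f ^ i ∈ K := by
        have := K.mul_mem (K.inv_mem g.2) (hAK hi)
        simpa using this
      rw [hpowK i hfi, mul_one] at hi
      rw [Subgroup.mem_centralizer_iff]
      intro b hb
      exact Subtype.ext (h.comm _ (hSA ((hmemT b).1 hb)) _ hi)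
    set M := (MonoidHom.transferSylow T hP).ker
    have hM := MonoidHom.ker_transferSylow_isComplement' T hP
    have hTA : Nat.card (T : Subgroup K) ∣ Nat.card A := by
      have h1 : Nat.card (T : Subgroup K) ∣ Nat.card A := by
        refine Subgroup.card_dvd_of_injective
          ((Subgroup.inclusion hSA).comp (MonoidHom.mk' (fun g : (T : Subgroup K) =>
            (⟨((g : K) : Γ), (hmemT _).1 g.2⟩ : (S : Subgroup Γ))) fun _ _ => rfl)) ?_
        intro g g' hgg
        exact Subtype.ext (Subtype.ext (congrArg (fun z : A => (z : Γ)) hgg :))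
      exact h1
    refine ⟨M, ?_, fun g hg => ?_, fun x y => ?_⟩
    · rw [← hM.index_eq_card]
      exact T.not_dvd_index
    · rw [MonoidHom.mem_ker, ← orderOf_eq_one_iff]
      exact Nat.eq_one_of_dvd_coprimes hg (orderOf_map_dvd _ g)
        ((orderOf_dvd_natCard _).trans hTA)
    · rw [MonoidHom.mem_ker, map_commutatorElement, commutatorElement_eq_one_iff_mul_comm]
      refine Subtype.ext (Subtype.ext ?_)
      exact h.comm _ (hSA ((hmemT _).1 (MonoidHom.transferSylow T hP x).2)) _
        (hSA ((hmemT _).1 (MonoidHom.transferSylow T hP y).2))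
  choose! M hMr hMmem hMcomm using hcompl
  have hall : ∀ g : K, (∀ r : ℕ, r.Prime → r ∣ Nat.card A → g ∈ M r) →
      Nat.Coprime (orderOf g) (Nat.card A) := by
    intro g hg
    refine Nat.coprime_of_dvd fun r hr hr1 hr2 => hMr r hr hr2 ?_
    exact hr1.trans (Subgroup.orderOf_dvd_natCard (M r) (hg r hr hr2))
  let R : Subgroup Γ :=
    { carrier := {g | g ∈ K ∧ Nat.Coprime (orderOf g) (Nat.card A)}
      one_mem' := ⟨K.one_mem, by simp⟩
      mul_mem' := by
        rintro g g' ⟨hg, hgc⟩ ⟨hg', hgc'⟩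
        refine ⟨K.mul_mem hg hg', ?_⟩
        rw [← Subgroup.orderOf_mk (g * g') (K.mul_mem hg hg')]
        refine hall _ fun r hr hrA => ?_
        exact (M r).mul_mem (hMmem r hr hrA ⟨g, hg⟩ (by rwa [Subgroup.orderOf_mk]))
          (hMmem r hr hrA ⟨g', hg'⟩ (by rwa [Subgroup.orderOf_mk]))
      inv_mem' := by
        rintro g ⟨hg, hgc⟩
        exact ⟨K.inv_mem hg, by rwa [orderOf_inv]⟩ }
  have hRmem : ∀ g, g ∈ R ↔ g ∈ K ∧ Nat.Coprime (orderOf g) (Nat.card A) := fun g => Iff.rfl
  have hRnormal : R.Normal := ⟨fun g hg x => by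
    obtain ⟨hgK, hgc⟩ := (hRmem g).1 hg
    refine (hRmem _).2 ⟨Subgroup.normalClosure_normal.conj_mem g hgK x, ?_⟩
    rwa [show x * g * x⁻¹ = MulAut.conj x g from rfl, (MulAut.conj x).orderOf_eq]⟩
  haveI := hRnormal
  have hcop : Nat.Coprime (Nat.card R) (Nat.card A) := by
    refine Nat.coprime_of_dvd fun r hr hr1 hr2 => ?_
    haveI := Fact.mk hr
    obtain ⟨g, hg⟩ := exists_prime_orderOf_dvd_card' r hr1
    have h1 := ((hRmem g.1).1 g.2).2
    rw [Subgroup.orderOf_coe, hg] at h1
    exact (Nat.Prime.coprime_iff_not_dvd hr).1 h1 hr2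
  have hAR : ∀ g ∈ R, g ∈ A → g = 1 := fun g hg hgA => by
    have h1 := ((hRmem g).1 hg).2
    refine orderOf_eq_one_iff.1 (Nat.eq_one_of_dvd_coprimes h1 dvd_rfl ?_)
    exact Subgroup.orderOf_dvd_natCard A hgA
  have hne : R ≠ ⊥ := by
    intro hbot
    have hcommK : ∀ x ∈ K, ∀ y ∈ K, x * y = y * x := by
      intro x hx y hy
      have hmem : ((⁅(⟨x, hx⟩ : K), (⟨y, hy⟩ : K)⁆ : K) : Γ) ∈ R := by
        refine (hRmem _).2 ⟨SetLike.coe_mem _, ?_⟩
        rw [Subgroup.orderOf_coe]
        exact hall _ fun r hr hrA => hMcomm r hr hrA _ _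
      rw [hbot, Subgroup.mem_bot] at hmem
      exact commutatorElement_eq_one_iff_mul_comm.1 hmem
    obtain ⟨a, ha, hane⟩ := h.exists_ne_one
    have : K ≤ A := fun k hk => h.cent a ha hane k (hcommK k hk a (hAK ha))
    exact h.notNormal (le_antisymm this hAK ▸ Subgroup.normalClosure_normal)
  have hdvd : Nat.card A ∣ Nat.card R - 1 := by
    let X := {g : Γ // g ∈ R ∧ g ≠ 1}
    letI : MulAction A X :=
      { smul := fun a g => ⟨(a : Γ) * g.1 * (a : Γ)⁻¹, hRnormal.conj_mem _ g.2.1 _,
          fun h1 => g.2.2 (by simpa [mul_assoc] using congrArg (fun z => (a : Γ)⁻¹ * z * a) h1)⟩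
        one_smul := fun g => Subtype.ext (by
          show ((1 : A) : Γ) * g.1 * ((1 : A) : Γ)⁻¹ = g.1
          simp)
        mul_smul := fun a b g => Subtype.ext (by
          show ((a : Γ) * b) * g.1 * ((a : Γ) * b)⁻¹ = (a : Γ) * ((b : Γ) * g.1 * (b : Γ)⁻¹) * (a : Γ)⁻¹
          group) }
    have hstab : ∀ g : X, stabilizer A g = ⊥ := fun g => by
      refine (Subgroup.eq_bot_iff_forall _).2 fun a ha => ?_
      by_contra hane
      have h1 : (a : Γ) * g.1 * (a : Γ)⁻¹ = g.1 := congrArg Subtype.val ha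
      rw [mul_inv_eq_iff_eq_mul] at h1
      exact g.2.2 (hAR _ g.2.1 (h.cent a a.2 (fun h2 => hane (Subtype.ext h2)) _ h1.symm))
    have hX : Nat.card X + 1 = Nat.card R := by
      have := Set.ncard_sdiff_singleton_add_one (s := (R : Set Γ)) R.one_mem (Set.toFinite _)
      rw [← Nat.card_coe_set_eq, ← Nat.card_coe_set_eq] at this
      exact this
    rw [← hX, Nat.add_sub_cancel, Nat.card_congr (selfEquivOrbitsQuotientProd hstab), Nat.card_prod]
    exact dvd_mul_left _ _
  refine hne (hsmall R hRnormal hcop hdvd fun x => ?_)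
  have hOA : Nat.card A ∣ (orbit Γ x).ncard := by
    have hstab : ∀ y : orbit Γ x, stabilizer A y = ⊥ := fun y => by
      refine (Subgroup.eq_bot_iff_forall _).2 fun a ha => ?_
      by_contra hane
      exact hfree a a.2 (fun h2 => hane (Subtype.ext h2)) y (congrArg Subtype.val ha)
    rw [← Nat.card_coe_set_eq, Nat.card_congr (selfEquivOrbitsQuotientProd hstab), Nat.card_prod]
    exact dvd_mul_left _ _
  obtain ⟨j, hj⟩ := hOA
  have hsub : (orbit R x).ncard ∣ Nat.card R := by
    rw [← index_stabilizer]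
    exact Subgroup.index_dvd_card _
  have hsj : (orbit R x).ncard ∣ j :=
    (hcop.of_dvd_left hsub).dvd_of_dvd_mul_left (hj ▸ orbit_normal_dvd R x)
  have hjd : j ≤ d := by
    have h1 : (orbit Γ x).ncard ≤ Nat.card Ω := by
      rw [← Nat.card_coe_set_eq]
      exact Finite.card_subtype_le _
    rw [hj, hcard, mul_comm d] at h1
    exact Nat.le_of_mul_le_mul_left h1 Nat.card_pos
  have hjpos : 0 < j := by
    rcases Nat.eq_zero_or_pos j with rfl | hp
    · rw [mul_zero, Set.ncard_eq_zero] at hj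
      exact absurd hj (Set.nonempty_iff_ne_empty.1 ⟨x, mem_orbit_self x⟩)
    · exact hp
  exact (Nat.le_of_dvd hjpos hsj).trans hjd

end Cfsg.Agent.H26.SingerMax
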