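import Cfsg.Agent.H26.SingerMax.CharExc
import Cfsg.Agent.H33.PermCharacter

/-!
The action of a group with such a subgroup is two-transitive.
-/

set_option autoImplicit false
set_option linter.unusedSectionVars false
set_option linter.style.longLine false
set_option linter.style.haveILetI false

namespace Cfsg.Agent.H26.SingerMax

open scoped ComplexConjugate
open MulAction

universe u v

variable {Γ : Type u} [Group Γ] [Fintype Γ] {A : Subgroup Γ} {f : Γ}

theorem classInner_multiset_sum (s : Multiset (Cfsg.IrrCharacter Γ)) (ψ : Cfsg.IrrCharacter Γ)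
    [DecidableEq (Cfsg.IrrCharacter Γ)] :
    Cfsg.classInner (s.map Subtype.val).sum (ψ : Γ → ℂ) = (s.count ψ : ℂ) := by
  induction s using Multiset.induction_on with
  | empty => simp
  | cons φ s ih =>
    rw [Multiset.map_cons, Multiset.sum_cons, CharBasic.classInner_add_left, ih,
      CharBasic.classInner_irrCharacter, Multiset.count_cons, Nat.cast_add]
    by_cases h : φ = ψ
    · subst h; simp [add_comm]
    · simp [h, Ne.symm h]

theorem sum_apply_one (s : Multiset (Cfsg.IrrCharacter Γ)) (D : Cfsg.IrrCharacter Γ → ℕ)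
    (hD : ∀ ψ : Cfsg.IrrCharacter Γ, ψ.1 1 = D ψ) :
    (s.map Subtype.val).sum 1 = ((s.map D).sum : ℂ) := by
  induction s using Multiset.induction_on with
  | empty => simp
  | cons φ s ih =>
    rw [Multiset.map_cons, Multiset.sum_cons, Multiset.map_cons, Multiset.sum_cons, Pi.add_apply,
      ih, hD, Nat.cast_add]

/-- A constituent of the permutation character which is trivial on `A` is trivial. -/
theorem SingerData.eq_one_of_trivial (h : SingerData A f) {Ω : Type v} [Fintype Ω] [MulAction Γ Ω]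
    (hfix : ∀ x : Ω, ∃ a ∈ A, f • a • x = a • x) {ψ : Γ → ℂ} (hψ : Cfsg.IsIrrCharacter Γ ψ)
    (htriv : ∀ a ∈ A, ψ a = ψ 1) (hne : Cfsg.classInner (H33.permChar Γ Ω) ψ ≠ 0) :
    ψ = fun _ => 1 := by
  classical
  by_contra hψ1
  apply hne
  set K := Subgroup.normalClosure (A : Set Γ) with hK
  have hAK : A ≤ K := Subgroup.subset_normalClosure
  have hKn : K.Normal := Subgroup.normalClosure_normal
  have hch := CharBasic.IsIrr.isCharacter hψ
  set W : Γ → ℂ := fun g => conj (ψ g) with hW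
  have hWK : ∀ s : Γ, ∀ k ∈ K, W (s * k) = W s := by
    intro s k hk
    obtain ⟨N, -, hmem, hmul⟩ := CharBasic.IsChar.exists_kernel hch
    exact congrArg conj (hmul s k ((hmem k).2 (apply_eq_of_trivial_on hch hK htriv k hk)))
  have hsum0 : ∑ g : Γ, W g = 0 := by
    have h1 := CharBasic.classInner_irr_of_ne CharBasic.isIrrCharacter_one hψ (fun h0 => hψ1 h0.symm)
    rw [CharBasic.classInner_def, mul_eq_zero] at h1
    simpa using h1.resolve_left (by simp [Nat.card_pos.ne'])
  have hstab : ∀ x : Ω, ∑ g : Γ, (if g • x = x then W g else 0) = 0 := by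
    intro x
    set S := Finset.univ.filter fun g : Γ => g • x = x with hS
    set m := (S.filter fun u => u ∈ K).card with hm
    have hKpos : ((Finset.univ.filter fun g : Γ => g ∈ K).card : ℂ) ≠ 0 := by
      rw [Nat.cast_ne_zero]
      exact Finset.card_ne_zero.2 ⟨1, by simp⟩
    have hinner : ∀ s : Γ, ∑ g : Γ, (if s⁻¹ * g ∈ K then W g else 0)
        = ((Finset.univ.filter fun g : Γ => g ∈ K).card : ℂ) * W s := by
      intro s
      rw [← Equiv.sum_comp (Equiv.mulLeft s)]
      simp only [Equiv.coe_mulLeft, inv_mul_cancel_left]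
      rw [← Finset.sum_filter, Finset.sum_congr rfl fun k hk => hWK s k (Finset.mem_filter.1 hk).2,
        Finset.sum_const, nsmul_eq_mul]
    have hex : ∀ g : Γ, ∃ s : Γ, s • x = x ∧ s⁻¹ * g ∈ K := by
      intro g
      obtain ⟨k, hk, i, rfl⟩ := h.exists_mul_pow K hAK g
      obtain ⟨a, ha, hfa⟩ := hfix x
      refine ⟨a⁻¹ * f ^ i * a, ?_, ?_⟩
      · have hpow : ∀ j : ℕ, f ^ j • a • x = a • x := by
          intro j
          induction j with
          | zero => simp
          | succ j ih => rw [pow_succ, mul_smul, hfa, ih]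
        rw [mul_smul, mul_smul, hpow, inv_smul_smul]
      · have e : (a⁻¹ * f ^ i * a)⁻¹ * (k * f ^ i) = a⁻¹ * ((f ^ i)⁻¹ * (a * k) * ((f ^ i)⁻¹)⁻¹) := by
          group
        rw [e]
        exact K.mul_mem (K.inv_mem (hAK ha)) (hKn.conj_mem _ (K.mul_mem (hAK ha) hk) _)
    have hcnt : ∀ g : Γ, (S.filter fun s => s⁻¹ * g ∈ K).card = m := by
      intro g
      obtain ⟨s₀, hs₀, hs₀g⟩ := hex g
      refine Finset.card_bij' (fun s _ => s₀⁻¹ * s) (fun u _ => s₀ * u) ?_ ?_ ?_ ?_
      · intro s hs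
        simp only [hS, Finset.mem_filter, Finset.mem_univ, true_and] at hs ⊢
        refine ⟨by rw [mul_smul, hs.1, inv_smul_eq_iff, hs₀], ?_⟩
        rw [show s₀⁻¹ * s = s₀⁻¹ * g * (s⁻¹ * g)⁻¹ by group]
        exact K.mul_mem hs₀g (K.inv_mem hs.2)
      · intro u hu
        simp only [hS, Finset.mem_filter, Finset.mem_univ, true_and] at hu ⊢
        refine ⟨by rw [mul_smul, hu.1, hs₀], ?_⟩
        rw [show (s₀ * u)⁻¹ * g = u⁻¹ * (s₀⁻¹ * g) by group]
        exact K.mul_mem (K.inv_mem hu.2) hs₀g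
      · intros; simp
      · intros; simp
    have h1 : ∑ s ∈ S, ∑ g : Γ, (if s⁻¹ * g ∈ K then W g else 0) = 0 := by
      rw [Finset.sum_comm]
      have : ∀ g : Γ, ∑ s ∈ S, (if s⁻¹ * g ∈ K then W g else 0) = (m : ℂ) * W g := fun g => by
        rw [← Finset.sum_filter, Finset.sum_const, hcnt g, nsmul_eq_mul]
      rw [Finset.sum_congr rfl fun g _ => this g, ← Finset.mul_sum, hsum0, mul_zero]
    rw [Finset.sum_congr rfl fun s _ => hinner s, ← Finset.mul_sum] at h1
    rw [← Finset.sum_filter]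
    exact (mul_eq_zero.1 h1).resolve_left hKpos
  rw [CharBasic.classInner_def]
  have : ∀ g : Γ, H33.permChar Γ Ω g * conj (ψ g) = ∑ x : Ω, if g • x = x then W g else 0 := by
    intro g
    rw [← Finset.sum_filter, Finset.sum_const, nsmul_eq_mul]
    congr 1
    rw [H33.permChar, Nat.cast_inj, Nat.card_eq_fintype_card, ← Fintype.card_subtype]
    exact Fintype.card_congr (Equiv.refl _)
  rw [Finset.sum_congr rfl fun g _ => this g, Finset.sum_comm, Finset.sum_eq_zero fun x _ => hstab x,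
    mul_zero]

theorem mult_permChar [Fintype A] {Ω : Type v} [Fintype Ω] [MulAction Γ Ω] {d : ℕ}
    (h : SingerData A f) (hcard : Nat.card Ω = d * Nat.card A)
    (hfree : ∀ a ∈ A, a ≠ 1 → ∀ x : Ω, a • x ≠ x) (μ : Cfsg.IrrCharacter A) :
    mult (H33.permChar Γ Ω) μ = d := by
  classical
  have h1 : Cfsg.classInner (res A (H33.permChar Γ Ω)) (μ : A → ℂ) = (d : ℂ) := by
    rw [CharBasic.classInner_def, Finset.sum_eq_single (1 : A)]
    · rw [show res A (H33.permChar Γ Ω) 1 = H33.permChar Γ Ω 1 from rfl, H33.permChar_one,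
        ← Nat.card_eq_fintype_card, hcard, h.linear]
      push_cast
      rw [map_one, mul_one, Nat.card_eq_fintype_card]
      field_simp
    · intro a _ hne
      have : res A (H33.permChar Γ Ω) a = 0 := by
        show ((Nat.card (fixedBy Ω (a : Γ)) : ℕ) : ℂ) = 0
        rw [Nat.cast_eq_zero, Nat.card_eq_zero]
        exact Or.inl ⟨fun x => hfree a a.2 (fun h0 => hne (Subtype.ext h0)) x.1 x.2⟩
      rw [this, zero_mul]
    · exact fun h0 => absurd (Finset.mem_univ _) h0
  rw [classInner_res H33.isCharacter_permChar] at h1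
  exact_mod_cast h1

/-- The two-transitivity. -/
theorem SingerData.twoTransitive (h : SingerData A f) {Ω : Type v} [Fintype Ω] [MulAction Γ Ω]
    {d : ℕ} (hcard : Nat.card Ω = d * Nat.card A) (hd1 : 1 ≤ d) (hd5 : d ≤ 5)
    (hfix : ∀ x : Ω, ∃ a ∈ A, f • a • x = a • x)
    (hfree : ∀ a ∈ A, a ≠ 1 → ∀ x : Ω, a • x ≠ x)
    (hdiv : ∀ t b : ℕ, t ≤ d → 1 ≤ b → b ≤ 2 → b ≤ t → (t, b) ≠ (d, 1) →
      ¬ (t * Nat.card A - b) ∣ Nat.card Γ)
    (hsmall : ∀ R : Subgroup Γ, R.Normal → Nat.Coprime (Nat.card R) (Nat.card A) →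
      Nat.card A ∣ Nat.card R - 1 → (∀ x : Ω, (orbit R x).ncard ≤ d) → R = ⊥) :
    ∀ x y x' y' : Ω, x ≠ y → x' ≠ y' → ∃ g : Γ, g • x = x' ∧ g • y = y' := by
  classical
  haveI : Fintype A := Fintype.ofFinite A
  set c := Nat.card A with hc
  have hbig := h.big
  set one : Cfsg.IrrCharacter Γ := ⟨fun _ => 1, CharBasic.isIrrCharacter_one⟩ with hone
  obtain ⟨s, hs⟩ := CharBasic.IsChar.eq_multiset_sum (H33.isCharacter_permChar (G := Γ) (Ω := Ω))
  have hP : ∀ ψ : Cfsg.IrrCharacter Γ, Nonempty (Profile A ψ.1) := fun ψ => h.exists_profile ψ.2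
  let P := fun ψ => Classical.choice (hP ψ)
  choose D hD0 hD hDdvd _hDc using fun ψ : Cfsg.IrrCharacter Γ => CharBasic.IsIrr.degree_dvd ψ.2
  have hDz : ∀ ψ, (D ψ : ℤ) = (P ψ).t * c + (P ψ).β + 5 * (P ψ).ε := fun ψ => by
    have := (P ψ).hdeg
    rw [hD ψ] at this
    exact_mod_cast this
  have htpos : ∀ ψ ∈ s, ψ ≠ one → 1 ≤ (P ψ).t := by
    intro ψ hψs hψ1
    by_contra ht
    have ht0 : (P ψ).t = 0 := by omega
    have hz := hDz ψ
    rw [ht0] at hz
    have hd0 : (0 : ℤ) < D ψ := by exact_mod_cast hD0 ψ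
    obtain ⟨hb1, hb2⟩ := (P ψ).hβ
    obtain ⟨he1, he2⟩ := (P ψ).hε
    by_cases he : (P ψ).ε = 1
    · have hb : (P ψ).β = 0 := (P ψ).hor.resolve_right (by omega)
      refine h.no_exceptional ψ.2 ?_ ?_ (fun μ => ?_) hcard hfree hsmall
      · rw [hD ψ, show D ψ = 5 by omega]; norm_num
      · have := (P ψ).htriv
        omega
      · by_cases hμ : μ = trivA A
        · have := (P ψ).htriv
          rw [hμ]; omega
        · rcases (P ψ).hval μ hμ with hv | hv <;> omega
    · have hne : Cfsg.classInner (H33.permChar Γ Ω) ψ.1 ≠ 0 := by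
        rw [hs, classInner_multiset_sum, Nat.cast_ne_zero]
        exact (Multiset.count_pos.2 hψs).ne'
      refine hψ1 (Subtype.ext (h.eq_one_of_trivial hfix ψ.2 ?_ hne))
      have hb : (P ψ).β = (D ψ : ℤ) ∧ (P ψ).ε = 0 := by
        rcases (P ψ).hor with hor | hor <;> omega
      rcases h.trivial_of_small ψ.2 (hD ψ) (by omega) with h0 | h0
      · have := (P ψ).htriv
        omega
      · exact h0
  -- counting
  set k := s.count one with hk
  set s' := s.filter fun ψ => ψ ≠ one with hs'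
  have hsplit : s = Multiset.replicate k one + s' := by
    conv_lhs => rw [← Multiset.filter_add_not (fun ψ => ψ = one) s]
    rw [Multiset.filter_eq']
  have hone_mult : ∀ μ : Cfsg.IrrCharacter A, mult one.1 μ = if μ = trivA A then 1 else 0 := by
    intro μ
    have h1 := classInner_res (CharBasic.IsIrr.isCharacter one.2) μ
    rw [show res A one.1 = (trivA A : A → ℂ) from rfl, CharBasic.classInner_irrCharacter] at h1
    by_cases hμ : μ = trivA A
    · rw [if_pos hμ.symm] at h1; rw [if_pos hμ]; exact_mod_cast h1.symm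
    · rw [if_neg (Ne.symm hμ)] at h1; rw [if_neg hμ]; exact_mod_cast h1.symm
  have hmult : ∀ μ : Cfsg.IrrCharacter A,
      d = k * (if μ = trivA A then 1 else 0) + (s'.map fun ψ => mult ψ.1 μ).sum := by
    intro μ
    have h1 := mult_permChar h hcard hfree μ
    rw [hs, mult_multiset_sum, hsplit, Multiset.map_add, Multiset.sum_add, Multiset.map_replicate,
      Multiset.sum_replicate, hone_mult, smul_eq_mul] at h1
    exact h1.symm
  have hone_deg : D one = 1 := by
    have h1 : ((1 : ℕ) : ℂ) = (D one : ℂ) := by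
      rw [Nat.cast_one]
      exact hD one
    exact (Nat.cast_injective h1).symm
  have hdeg : d * c = k + (s'.map D).sum := by
    have h1 : (H33.permChar Γ Ω 1 : ℂ) = ((d * c : ℕ) : ℂ) := by
      rw [H33.permChar_one, ← Nat.card_eq_fintype_card, hcard]
    rw [hs, sum_apply_one s D hD, Nat.cast_inj] at h1
    rw [← h1]
    conv_lhs => rw [hsplit, Multiset.map_add, Multiset.sum_add, Multiset.map_replicate,
      Multiset.sum_replicate, hone_deg, smul_eq_mul, mul_one]
  have hmem' : ∀ ψ ∈ s', 1 ≤ (P ψ).t := fun ψ hψ =>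
    htpos ψ (Multiset.mem_filter.1 hψ).1 (Multiset.mem_filter.1 hψ).2
  -- few non-trivial constituents
  have hfew : Multiset.card s' ≤ 5 := by
    have hlow : ∀ ψ ∈ s', c - 7 ≤ D ψ := fun ψ hψ => by
      have h1 := hDz ψ
      have h2 : (c : ℤ) ≤ (P ψ).t * c := by
        have : (1 : ℤ) ≤ (P ψ).t := by exact_mod_cast hmem' ψ hψ
        nlinarith
      obtain ⟨hb1, hb2⟩ := (P ψ).hβ
      obtain ⟨he1, he2⟩ := (P ψ).hε
      omega
    have h1 : Multiset.card (s'.map D) • (c - 7) ≤ (s'.map D).sum :=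
      Multiset.card_nsmul_le_sum fun x hx => by
        obtain ⟨ψ, hψ, rfl⟩ := Multiset.mem_map.1 hx
        exact hlow ψ hψ
    rw [Multiset.card_map, smul_eq_mul] at h1
    have h2 : d * c ≤ 5 * c := Nat.mul_le_mul_right c hd5
    by_contra h6
    have h3 : 6 * (c - 7) ≤ Multiset.card s' * (c - 7) := Nat.mul_le_mul_right _ (by omega)
    omega
  obtain ⟨μ, hμ1, hμ2⟩ : ∃ μ : Cfsg.IrrCharacter A, μ ≠ trivA A ∧ ∀ ψ ∈ s', μ ∉ (P ψ).S := by
    have hcardU : (insert (trivA A) (s'.toFinset.biUnion fun ψ => (P ψ).S)).card <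
        (Finset.univ : Finset (Cfsg.IrrCharacter A)).card := by
      rw [Finset.card_univ, h.card_irr]
      have e1 : s'.toFinset.card ≤ 5 := (Multiset.toFinset_card_le _).trans hfew
      have e2 : (s'.toFinset.biUnion fun ψ => (P ψ).S).card ≤ 25 :=
        Finset.card_biUnion_le.trans ((Finset.sum_le_card_nsmul _ _ 5 fun ψ _ => (P ψ).hS).trans
          (by simp only [smul_eq_mul]; omega))
      have e3 := Finset.card_insert_le (trivA A) (s'.toFinset.biUnion fun ψ => (P ψ).S)
      omega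
    obtain ⟨μ, -, hμ⟩ := Finset.exists_mem_notMem_of_card_lt_card hcardU
    simp only [Finset.mem_insert, Finset.mem_biUnion, Multiset.mem_toFinset, not_or, not_exists,
      not_and] at hμ
    exact ⟨μ, hμ.1, hμ.2⟩
  have ht_sum : d = (s'.map fun ψ => (P ψ).t).sum := by
    rw [hmult μ, if_neg hμ1, mul_zero, zero_add]
    exact congrArg Multiset.sum (Multiset.map_congr rfl fun ψ hψ => (P ψ).hout μ hμ1 (hμ2 ψ hψ))
  have htz : ((s'.map fun ψ => ((P ψ).t : ℤ)).sum) = (d : ℤ) := by
    rw [ht_sum, Nat.cast_multiset_sum, Multiset.map_map]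
    rfl
  have hβsum : (s'.map fun ψ => (P ψ).β).sum = -(k : ℤ) := by
    have h1 := hmult (trivA A)
    rw [if_pos rfl, mul_one] at h1
    have h2 : (d : ℤ) = k + ((s'.map fun ψ => ((P ψ).t : ℤ)).sum + (s'.map fun ψ => (P ψ).β).sum) := by
      conv_lhs => rw [h1]
      push_cast
      rw [Multiset.map_map, ← Multiset.sum_map_add]
      exact congrArg _ (congrArg Multiset.sum (Multiset.map_congr rfl fun ψ _ => (P ψ).htriv))
    rw [htz] at h2
    linarith
  have hkpos : 1 ≤ k := by
    by_contra hk0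
    have hk0' : k = 0 := by omega
    have h1 := classInner_multiset_sum s one
    rw [← hs, ← hk, hk0', Nat.cast_zero, CharBasic.classInner_def, mul_eq_zero] at h1
    have h2 := h1.resolve_left (by simp [Nat.card_pos.ne'])
    have h3 : ∑ g : Γ, (Nat.card (fixedBy Ω g)) = 0 := by
      have : ((∑ g : Γ, (Nat.card (fixedBy Ω g)) : ℕ) : ℂ) = 0 := by
        rw [← h2]; simp [H33.permChar, hone]
      exact_mod_cast this
    have h4 := (Finset.sum_eq_zero_iff.1 h3) 1 (Finset.mem_univ _)
    rw [fixedBy_one_eq_univ, Nat.card_coe_set_eq, Set.ncard_univ, hcard] at h4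
    have : 0 < d * c := Nat.mul_pos hd1 (by omega)
    omega
  obtain ⟨φ, hφ, hβneg⟩ : ∃ φ ∈ s', (P φ).β < 0 := by
    by_contra hall
    push Not at hall
    have : (0 : ℤ) ≤ (s'.map fun ψ => (P ψ).β).sum := Multiset.sum_nonneg fun x hx => by
      obtain ⟨ψ, hψ, rfl⟩ := Multiset.mem_map.1 hx
      exact hall ψ hψ
    omega
  have hε0 : (P φ).ε = 0 := (P φ).hor.resolve_left (by omega)
  obtain ⟨b, hb⟩ : ∃ b : ℕ, (P φ).β = -(b : ℤ) := ⟨(-(P φ).β).toNat, by omega⟩
  have hb1 : 1 ≤ b := by omega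
  have hb2 : b ≤ 2 := by have := (P φ).hβ.1; omega
  have hbt : b ≤ (P φ).t := by
    have := (P φ).htriv
    omega
  have hrest : (s'.map fun ψ => (P ψ).t).sum = (P φ).t + ((s'.erase φ).map fun ψ => (P ψ).t).sum := by
    conv_lhs => rw [← Multiset.cons_erase hφ]
    rw [Multiset.map_cons, Multiset.sum_cons]
  have htd : (P φ).t ≤ d := by rw [ht_sum, hrest]; omega
  have hdeg1 : D φ = (P φ).t * c - b := by
    have h1 := hDz φ
    rw [hε0, hb] at h1
    have : ((P φ).t * c : ℕ) = D φ + b := by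
      have h2 : (((P φ).t * c : ℕ) : ℤ) = ((D φ + b : ℕ) : ℤ) := by push_cast; linarith
      exact_mod_cast h2
    omega
  have hpair : ((P φ).t, b) = (d, 1) := by
    by_contra hne
    exact hdiv _ b htd hb1 hb2 hbt hne (hdeg1 ▸ hDdvd φ)
  obtain ⟨htd', hb1'⟩ : (P φ).t = d ∧ b = 1 := by simpa using hpair
  have hs'1 : s' = {φ} := by
    have h0 : ((s'.erase φ).map fun ψ => (P ψ).t).sum = 0 := by omega
    have he : s'.erase φ = 0 := by
      refine Multiset.eq_zero_of_forall_notMem fun ψ hψ => ?_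
      have h1 := hmem' ψ (Multiset.mem_of_mem_erase hψ)
      have h2 : (P ψ).t ≤ ((s'.erase φ).map fun ψ => (P ψ).t).sum :=
        Multiset.le_sum_of_mem (Multiset.mem_map_of_mem (fun ψ => (P ψ).t) hψ)
      omega
    rw [← Multiset.cons_erase hφ, he, Multiset.cons_zero]
  have hk1 : k = 1 := by
    rw [hs'1, Multiset.map_singleton, Multiset.sum_singleton, hb, hb1'] at hβsum
    omega
  have hφ1 : φ ≠ one := (Multiset.mem_filter.1 hφ).2
  have hπ : H33.permChar Γ Ω = one.1 + φ.1 := by
    rw [hs, hsplit, hk1, hs'1]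
    simp
  have hnorm : Cfsg.classInner (H33.permChar Γ Ω) (H33.permChar Γ Ω) = 2 := by
    rw [hπ]
    simp only [CharBasic.classInner_add_left, CharBasic.classInner_add_right,
      CharBasic.classInner_irrCharacter, if_pos, if_neg hφ1, if_neg (Ne.symm hφ1)]
    norm_num
  haveI : IsPretransitive Γ Ω := by
    haveI : Finite (Quotient (orbitRel Γ Ω)) := Quotient.finite _
    haveI := Fintype.ofFinite (Quotient (orbitRel Γ Ω))
    have h0 := sum_card_fixedBy_eq_card_orbits_mul_card_group Γ Ω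
    have h1 := classInner_multiset_sum s one
    rw [← hs, ← hk, hk1, Nat.cast_one, CharBasic.classInner_def,
      inv_mul_eq_one₀ (by simp [Nat.card_pos.ne'])] at h1
    have h2 : ∑ g : Γ, Fintype.card (fixedBy Ω g) = Fintype.card Γ := by
      have : ((∑ g : Γ, Fintype.card (fixedBy Ω g) : ℕ) : ℂ) = (Fintype.card Γ : ℂ) := by
        rw [← Nat.card_eq_fintype_card (α := Γ), h1]
        simp [H33.permChar, hone]
      exact_mod_cast this
    rw [h2] at h0
    have h3 : Fintype.card (Quotient (orbitRel Γ Ω)) = 1 :=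
      Nat.eq_of_mul_eq_mul_right Fintype.card_pos (h0.symm.trans (one_mul _).symm)
    refine ⟨fun x y => ?_⟩
    obtain ⟨q, hq⟩ := Fintype.card_eq_one_iff.1 h3
    have : (Quotient.mk (orbitRel Γ Ω) y) = Quotient.mk _ x := (hq _).trans (hq _).symm
    exact orbitRel_apply.1 (Quotient.exact this)
  intro x y x' y' hxy hxy'
  obtain ⟨g, hg⟩ := exists_smul_eq Γ x x'
  have hr := H33.classInner_permChar_self (G := Γ) x'
  rw [hnorm] at hr
  have hr2 : Nat.card (orbitRel.Quotient (stabilizer Γ x') Ω) = 2 := by exact_mod_cast hr.symm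
  haveI : Finite (Quotient (orbitRel (stabilizer Γ x') Ω)) := Quotient.finite _
  set mk : Ω → orbitRel.Quotient (stabilizer Γ x') Ω := Quotient.mk _
  have hsingle : ∀ z, mk z = mk x' → z = x' := by
    intro z hz
    obtain ⟨u, hu⟩ := orbitRel_apply.1 (Quotient.exact hz)
    exact hu.symm.trans u.2
  by_contra hno
  have hgy : mk (g • y) ≠ mk y' := by
    intro h0
    obtain ⟨u, hu⟩ := orbitRel_apply.1 (Quotient.exact h0.symm)
    refine hno ⟨u.1 * g, ?_, ?_⟩
    · rw [mul_smul, hg]; exact u.2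
    · rw [mul_smul]; exact hu
  have h3 : ({mk x', mk (g • y), mk y'} : Finset (orbitRel.Quotient (stabilizer Γ x') Ω)).card = 3 := by
    rw [Finset.card_insert_of_notMem, Finset.card_pair hgy]
    simp only [Finset.mem_insert, Finset.mem_singleton, not_or]
    refine ⟨fun h0 => hxy ?_, fun h0 => hxy' (hsingle y' h0.symm).symm⟩
    exact MulAction.injective g (hg.trans (hsingle _ h0.symm).symm)
  haveI := Fintype.ofFinite (orbitRel.Quotient (stabilizer Γ x') Ω)
  have := Finset.card_le_univ ({mk x', mk (g • y), mk y'} : Finset (orbitRel.Quotient (stabilizer Γ x') Ω))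
  rw [h3, ← Nat.card_eq_fintype_card, hr2] at this
  omega

end Cfsg.Agent.H26.SingerMax
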