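import Cfsg.Agent.H26.SingerMax.CharTI

/-!
The restriction of an irreducible character to the self-centralising abelian subgroup.
-/

set_option autoImplicit false
set_option linter.unusedSectionVars false
set_option linter.style.longLine false

namespace Cfsg.Agent.H26.SingerMax

open scoped ComplexConjugate

universe u

variable {Γ : Type u} [Group Γ] [Fintype Γ] {A : Subgroup Γ} [Fintype A] {f : Γ}

/-- The restriction of a function to a subgroup. -/
def res (A : Subgroup Γ) (χ : Γ → ℂ) : A → ℂ := fun a => χ a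

/-- The trivial character of `A`. -/
def trivA (A : Subgroup Γ) : Cfsg.IrrCharacter A :=
  ⟨fun _ => 1, CharBasic.isIrrCharacter_one⟩

/-- The multiplicity of `μ` in the restriction of `χ`. -/
noncomputable def mult (χ : Γ → ℂ) (μ : Cfsg.IrrCharacter A) : ℕ :=
  ⌊(Cfsg.classInner (res A χ) (μ : A → ℂ)).re⌋₊

theorem classInner_res {χ : Γ → ℂ} (hχ : Cfsg.IsCharacter Γ χ) (μ : Cfsg.IrrCharacter A) :
    Cfsg.classInner (res A χ) (μ : A → ℂ) = (mult χ μ : ℂ) := by
  obtain ⟨n, hn⟩ := CharBasic.classInner_isChar_nat (χ := res A χ) (CharInduce.IsChar.res hχ A)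
    (CharBasic.IsIrr.isCharacter μ.2)
  rw [mult, hn, Complex.natCast_re, Nat.floor_natCast]

theorem mult_add {χ ψ : Γ → ℂ} (hχ : Cfsg.IsCharacter Γ χ) (hψ : Cfsg.IsCharacter Γ ψ)
    (μ : Cfsg.IrrCharacter A) : mult (χ + ψ) μ = mult χ μ + mult ψ μ := by
  have h := classInner_res (CharBasic.IsChar.add hχ hψ) μ
  rw [show res A (χ + ψ) = res A χ + res A ψ from rfl, CharBasic.classInner_add_left,
    classInner_res hχ, classInner_res hψ] at h
  exact_mod_cast h.symm

theorem mult_multiset_sum (s : Multiset (Cfsg.IrrCharacter Γ)) (μ : Cfsg.IrrCharacter A) :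
    mult ((s.map Subtype.val).sum) μ = (s.map fun φ : Cfsg.IrrCharacter Γ => mult φ.1 μ).sum := by
  induction s using Multiset.induction_on with
  | empty =>
    simp only [Multiset.map_zero, Multiset.sum_zero]
    have : res A (0 : Γ → ℂ) = 0 := rfl
    rw [mult, this, CharBasic.classInner_zero_left, Complex.zero_re, Nat.floor_zero]
  | cons φ s ih =>
    rw [Multiset.map_cons, Multiset.sum_cons, Multiset.map_cons, Multiset.sum_cons,
      mult_add (CharBasic.IsIrr.isCharacter φ.2) (CharBasic.IsChar.multiset_sum _ fun g hg => ?_), ih]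
    obtain ⟨ψ, -, rfl⟩ := Multiset.mem_map.1 hg
    exact CharBasic.IsIrr.isCharacter ψ.2

theorem SingerData.linear (h : SingerData A f) (μ : Cfsg.IrrCharacter A) :
    (μ : A → ℂ) 1 = 1 :=
  CharBasic.commutative_iff_forall_linear.1
    (fun a b => Subtype.ext (h.comm a a.2 b b.2)) μ

theorem SingerData.linear_mul (h : SingerData A f) (μ : Cfsg.IrrCharacter A) (a b : A) :
    (μ : A → ℂ) (a * b) = (μ : A → ℂ) a * (μ : A → ℂ) b := by
  obtain ⟨n, ρ, hρ, hμ⟩ := μ.2
  have hn : n = 1 := by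
    have := h.linear μ
    rw [← hμ, Representation.char_one] at this
    simpa using this
  subst hn
  have key : ∀ x, (μ : A → ℂ) x = LinearMap.toMatrix' (ρ x) 0 0 := by
    intro x
    rw [← hμ, Representation.character, LinearMap.trace_eq_matrix_trace ℂ (Pi.basisFun ℂ (Fin 1)),
      LinearMap.toMatrix_eq_toMatrix', Matrix.trace_fin_one]
  rw [key, key, key, map_mul, LinearMap.toMatrix'_mul, Matrix.mul_apply, Fin.sum_univ_one]

theorem SingerData.card_irr (h : SingerData A f) :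
    Fintype.card (Cfsg.IrrCharacter A) = Nat.card A := by
  have := CharBasic.sum_sq_degree (G := A)
  simp only [h.linear, one_pow, Finset.sum_const, Finset.card_univ, nsmul_eq_mul, mul_one,
    Nat.cast_inj] at this
  exact this

theorem SingerData.degree_eq_sum (h : SingerData A f) {χ : Γ → ℂ} (hχ : Cfsg.IsCharacter Γ χ)
    {D : ℕ} (hD : χ 1 = D) : D = ∑ μ : Cfsg.IrrCharacter A, mult χ μ := by
  have h1 := congrFun (CharBasic.classFunction_expansion
    (CharBasic.IsChar.isClassFunction (CharInduce.IsChar.res hχ A))) 1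
  simp only [Finset.sum_apply, Pi.smul_apply, smul_eq_mul, h.linear, mul_one] at h1
  have h2 : ∀ μ : Cfsg.IrrCharacter A,
      Cfsg.classInner (fun a : A => χ a) (μ : A → ℂ) = (mult χ μ : ℂ) := classInner_res hχ
  simp only [h2, OneMemClass.coe_one, hD] at h1
  exact_mod_cast h1

theorem classInner_res_self {χ : Γ → ℂ} (hχ : Cfsg.IsCharacter Γ χ) :
    Cfsg.classInner (res A χ) (res A χ) =
      ((∑ μ : Cfsg.IrrCharacter A, mult χ μ ^ 2 : ℕ) : ℂ) := by
  rw [CharBasic.classInner_eq_sum (CharBasic.IsChar.isClassFunction (χ := res A χ) (CharInduce.IsChar.res hχ A))]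
  simp only [classInner_res hχ, Complex.conj_natCast]
  push_cast
  simp [sq]

theorem sum_normSq_res {χ : Γ → ℂ} (hχ : Cfsg.IsCharacter Γ χ) :
    ∑ a : A, Complex.normSq (χ a) =
      (Nat.card A : ℝ) * ((∑ μ : Cfsg.IrrCharacter A, mult χ μ ^ 2 : ℕ) : ℝ) := by
  have h1 := classInner_res_self (A := A) hχ
  rw [CharBasic.classInner_self_eq, ← Complex.ofReal_natCast, Complex.ofReal_inj] at h1
  rw [← h1, ← mul_assoc, mul_inv_cancel₀ (by exact_mod_cast Nat.card_pos.ne'), one_mul]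
  simp [res, Complex.normSq_eq_norm_sq]

/-- The numerical form of the bound for an irreducible character. -/
theorem SingerData.norm_bound (h : SingerData A f) {φ : Γ → ℂ} (hφ : Cfsg.IsIrrCharacter Γ φ)
    {D : ℕ} (hD : φ 1 = D) :
    (Nat.card A : ℤ) * ∑ μ : Cfsg.IrrCharacter A, (mult φ μ : ℤ) ^ 2 - (D : ℤ) ^ 2 <
      5 * (Nat.card A : ℤ) := by
  have hb := h.sum_norm_lt hφ
  rw [sum_normSq_res (CharBasic.IsIrr.isCharacter hφ), hD, Complex.normSq_natCast] at hb
  have : ((((Nat.card A : ℤ) * ∑ μ : Cfsg.IrrCharacter A, (mult φ μ : ℤ) ^ 2 - (D : ℤ) ^ 2 : ℤ)) : ℝ) <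
      ((5 * (Nat.card A : ℤ) : ℤ) : ℝ) := by
    push_cast at hb ⊢
    nlinarith [hb]
  exact_mod_cast this

theorem sum_sq_le_five {ι : Type*} [Fintype ι] (a : ι → ℕ) (c D : ℕ) (hc : 100 ≤ c)
    (hι : Fintype.card ι = c) (hD : D = ∑ i, a i)
    (hb : (c : ℤ) * ∑ i, (a i : ℤ) ^ 2 - (D : ℤ) ^ 2 < 5 * c) :
    ∑ i, ((a i : ℤ) - (((2 * D + c) / (2 * c) : ℕ) : ℤ)) ^ 2 ≤ 5 := by
  set t : ℕ := (2 * D + c) / (2 * c) with ht
  set e : ι → ℤ := fun i => (a i : ℤ) - (t : ℤ) with he
  have h1 : (2 * c) * t ≤ 2 * D + c := Nat.mul_div_le _ _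
  have h2 : 2 * D + c < (2 * c) * (t + 1) := Nat.lt_mul_div_succ _ (by omega)
  set s := ∑ i, e i with hs
  set E := ∑ i, e i ^ 2 with hE
  have hDz : (D : ℤ) = (c : ℤ) * t + s := by
    rw [hs, he, Finset.sum_sub_distrib, Finset.sum_const, Finset.card_univ, hι, hD, nsmul_eq_mul]
    push_cast
    ring
  have hQ : ∑ i, (a i : ℤ) ^ 2 = E + 2 * t * s + c * (t : ℤ) ^ 2 := by
    have : ∀ i, (a i : ℤ) ^ 2 = e i ^ 2 + 2 * t * e i + (t : ℤ) ^ 2 := fun i => by rw [he]; ring
    rw [Finset.sum_congr rfl fun i _ => this i, Finset.sum_add_distrib, Finset.sum_add_distrib,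
      Finset.sum_const, Finset.card_univ, hι, nsmul_eq_mul, ← Finset.mul_sum]
  rw [hQ, hDz] at hb
  have hb' : (c : ℤ) * E - s ^ 2 < 5 * c := by nlinarith [hb]
  have z1 : 2 * |s| ≤ (c : ℤ) := by
    have u1 : (2 * (c : ℤ)) * t ≤ 2 * D + c := by exact_mod_cast h1
    have u2 : (2 : ℤ) * D + c < (2 * c) * (t + 1) := by exact_mod_cast h2
    rcases abs_cases s with hh | hh <;> nlinarith [hh.1]
  have z2 : |s| ≤ E := (Finset.abs_sum_le_sum_abs _ _).trans (Finset.sum_le_sum fun i _ => by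
    rcases eq_or_ne (e i) 0 with h0 | h0
    · simp [h0]
    · rw [← sq_abs]
      nlinarith [Int.one_le_abs h0])
  have z3 : s ^ 2 = |s| * |s| := by rw [abs_mul_abs_self, sq]
  have hE9 : E ≤ 9 := by
    by_contra hE9
    push Not at hE9
    nlinarith [mul_le_mul z1 z2 (abs_nonneg s) (by positivity : (0 : ℤ) ≤ c)]
  have hs81 : s ^ 2 ≤ 81 := by nlinarith [abs_nonneg s]
  have hcz : (100 : ℤ) ≤ c := by exact_mod_cast hc
  by_contra hE5
  push Not at hE5
  nlinarith

/-- Conjugation by `f` on `A`. -/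
def SingerData.conjA (h : SingerData A f) : A ≃* A where
  toFun a := ⟨f * a * f⁻¹, h.fnorm a a.2⟩
  invFun a := ⟨f ^ 4 * a * (f ^ 4)⁻¹, h.pow_norm 4 a a.2⟩
  left_inv a := Subtype.ext (by
    show f ^ 4 * (f * a * f⁻¹) * (f ^ 4)⁻¹ = (a : Γ)
    rw [inv_eq_of_mul_eq_one_left (show f * f ^ 4 = 1 by rw [← pow_succ', h.fpow]),
      inv_eq_of_mul_eq_one_left (show f ^ 4 * f = 1 by rw [← pow_succ, h.fpow])]
    calc f ^ 4 * (f * a * f ^ 4) * f = (f ^ 4 * f) * a * (f ^ 4 * f) := by simp only [mul_assoc]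
      _ = (a : Γ) := by rw [← pow_succ, h.fpow, one_mul, mul_one])
  right_inv a := Subtype.ext (by
    show f * (f ^ 4 * a * (f ^ 4)⁻¹) * f⁻¹ = (a : Γ)
    rw [inv_eq_of_mul_eq_one_left (show f * f ^ 4 = 1 by rw [← pow_succ', h.fpow]),
      inv_eq_of_mul_eq_one_left (show f ^ 4 * f = 1 by rw [← pow_succ, h.fpow])]
    calc f * (f ^ 4 * a * f) * f ^ 4 = (f * f ^ 4) * a * (f * f ^ 4) := by simp only [mul_assoc]
      _ = (a : Γ) := by rw [← pow_succ', h.fpow, one_mul, mul_one])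
  map_mul' a b := Subtype.ext (by simp [mul_assoc])

theorem SingerData.coe_conjA (h : SingerData A f) (a : A) :
    ((h.conjA a : A) : Γ) = f * a * f⁻¹ := rfl

/-- The induced map on the characters of `A`. -/
noncomputable def SingerData.twist (h : SingerData A f) (μ : Cfsg.IrrCharacter A) :
    Cfsg.IrrCharacter A :=
  ⟨fun a => μ.1 (h.conjA a),
    CharInduce.IsIrr.comp μ.2 h.conjA.toMonoidHom h.conjA.surjective⟩

theorem SingerData.twist_iterate (h : SingerData A f) (μ : Cfsg.IrrCharacter A) (i : ℕ) :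
    ∀ a : A, (h.twist^[i] μ).1 a = μ.1 ⟨f ^ i * a * (f ^ i)⁻¹, h.pow_norm i a a.2⟩ := by
  induction i with
  | zero => intro a; simp
  | succ i ih =>
    intro a
    rw [Function.iterate_succ_apply']
    show (h.twist^[i] μ).1 (h.conjA a) = _
    rw [ih]
    refine congrArg μ.1 (Subtype.ext ?_)
    show f ^ i * (f * a * f⁻¹) * (f ^ i)⁻¹ = f ^ (i + 1) * a * (f ^ (i + 1))⁻¹
    rw [pow_succ]; group

theorem SingerData.mult_twist (h : SingerData A f) {χ : Γ → ℂ} (hχ : Cfsg.IsCharacter Γ χ)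
    (μ : Cfsg.IrrCharacter A) : mult χ (h.twist μ) = mult χ μ := by
  have : Cfsg.classInner (res A χ) (h.twist μ : A → ℂ) = Cfsg.classInner (res A χ) (μ : A → ℂ) := by
    rw [CharBasic.classInner_def, CharBasic.classInner_def]
    refine congrArg _ (Fintype.sum_equiv h.conjA.toEquiv _ _ fun a => ?_)
    show χ a * conj (μ.1 (h.conjA a)) = χ (h.conjA a : A) * conj (μ.1 (h.conjA a))
    rw [h.coe_conjA, CharBasic.IsChar.isClassFunction hχ]
  rw [mult, mult, this]

theorem SingerData.exists_comm_eq (h : SingerData A f) (b : A) :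
    ∃ a : A, b = a⁻¹ * h.conjA a := by
  let F : A → A := fun a => a⁻¹ * h.conjA a
  have hinj : Function.Injective F := by
    intro a b hab
    have hca : ∀ x y : A, x * y = y * x := fun x y => Subtype.ext (h.comm x x.2 y y.2)
    have hz : h.conjA (b * a⁻¹) = b * a⁻¹ := by
      have hab' : h.conjA b = b * (a⁻¹ * h.conjA a) := by
        rw [show a⁻¹ * h.conjA a = b⁻¹ * h.conjA b from hab, mul_inv_cancel_left]
      rw [map_mul, map_inv, hab']
      calc b * (a⁻¹ * h.conjA a) * (h.conjA a)⁻¹ = b * a⁻¹ := by group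
        _ = b * a⁻¹ := rfl
    by_contra hne
    have hne' : ((b * a⁻¹ : A) : Γ) ≠ 1 := fun h0 => hne (mul_inv_eq_one.1 (Subtype.ext h0)).symm
    refine h.fout (h.cent _ (b * a⁻¹).2 hne' f ?_)
    have := congrArg Subtype.val hz
    rw [h.coe_conjA, mul_inv_eq_iff_eq_mul] at this
    exact this
  obtain ⟨a, ha⟩ := (Finite.injective_iff_surjective.1 hinj) b
  exact ⟨a, ha.symm⟩

theorem SingerData.twist_fixed (h : SingerData A f) {μ : Cfsg.IrrCharacter A}
    (hfix : h.twist μ = μ) : μ = trivA A := by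
  let F : A → A := fun a => a⁻¹ * h.conjA a
  have hμ : ∀ a, μ.1 (F a) = 1 := fun a => by
    have h1 : μ.1 (h.conjA a) = μ.1 a := congrFun (congrArg Subtype.val hfix) a
    rw [h.linear_mul, h1, ← h.linear_mul, inv_mul_cancel, h.linear]
  refine Subtype.ext (funext fun a => ?_)
  obtain ⟨b, rfl⟩ := h.exists_comm_eq a
  exact hμ b

theorem SingerData.twist_orbit (h : SingerData A f) {μ : Cfsg.IrrCharacter A} (hμ : μ ≠ trivA A) :
    Set.InjOn (fun i => h.twist^[i] μ) (Set.Iio 5) := by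
  have hper : Function.IsPeriodicPt h.twist 5 μ := Subtype.ext (funext fun a => by
    rw [h.twist_iterate]
    refine congrArg μ.1 (Subtype.ext ?_)
    simp [h.fpow])
  have hdvd := hper.minimalPeriod_dvd
  have hne1 : Function.minimalPeriod h.twist μ ≠ 1 := fun h1 =>
    hμ (h.twist_fixed (Function.minimalPeriod_eq_one_iff_isFixedPt.1 h1))
  have h5 : Function.minimalPeriod h.twist μ = 5 :=
    ((Nat.dvd_prime (by norm_num)).1 hdvd).resolve_left hne1
  have := Function.iterate_injOn_Iio_minimalPeriod (f := h.twist) (x := μ)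
  rwa [h5] at this

/-- The possible restrictions to `A` of an irreducible character. -/
structure Profile (A : Subgroup Γ) [Fintype A] (φ : Γ → ℂ) where
  t : ℕ
  β : ℤ
  ε : ℤ
  S : Finset (Cfsg.IrrCharacter A)
  hS : S.card ≤ 5
  hβ : -2 ≤ β ∧ β ≤ 2
  hε : -1 ≤ ε ∧ ε ≤ 1
  hor : β = 0 ∨ ε = 0
  htriv : (mult φ (trivA A) : ℤ) = t + β
  hdeg : φ 1 = (((t : ℤ) * Nat.card A + β + 5 * ε : ℤ) : ℂ)
  hout : ∀ μ, μ ≠ trivA A → μ ∉ S → mult φ μ = t
  hval : ∀ μ, μ ≠ trivA A → (mult φ μ : ℤ) = t ∨ (mult φ μ : ℤ) = t + ε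

theorem SingerData.exists_profile (h : SingerData A f) {φ : Γ → ℂ} (hφ : Cfsg.IsIrrCharacter Γ φ) :
    Nonempty (Profile A φ) := by
  classical
  obtain ⟨D, hD⟩ := CharBasic.IsChar.exists_degree (CharBasic.IsIrr.isCharacter hφ)
  have hch := CharBasic.IsIrr.isCharacter hφ
  have hdeg := h.degree_eq_sum hch hD
  have hbig := h.big
  have hE := sum_sq_le_five (fun μ : Cfsg.IrrCharacter A => mult φ μ) (Nat.card A) D (by omega)
    h.card_irr hdeg (h.norm_bound hφ hD)
  set t : ℕ := (2 * D + Nat.card A) / (2 * Nat.card A)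
  set e : Cfsg.IrrCharacter A → ℤ := fun μ => (mult φ μ : ℤ) - (t : ℤ) with he
  have hmult : ∀ μ, (mult φ μ : ℤ) = t + e μ := fun μ => by rw [he]; ring
  set S := Finset.univ.filter fun μ => e μ ≠ 0 with hSdef
  have hS5 : S.card ≤ 5 := by
    have h1 : (S.card : ℤ) ≤ ∑ μ ∈ S, e μ ^ 2 := by
      rw [Finset.card_eq_sum_ones, Nat.cast_sum]
      refine Finset.sum_le_sum fun μ hμ => ?_
      have hne : e μ ≠ 0 := (Finset.mem_filter.1 hμ).2
      have : 0 < e μ ^ 2 := by positivity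
      push_cast
      linarith
    have h2 : ∑ μ ∈ S, e μ ^ 2 ≤ ∑ μ, e μ ^ 2 :=
      Finset.sum_le_sum_of_subset_of_nonneg (Finset.subset_univ _) fun μ _ _ => sq_nonneg _
    have h3 : (S.card : ℤ) ≤ 5 := h1.trans (h2.trans hE)
    exact_mod_cast h3
  have hsum : (D : ℤ) = t * Nat.card A + ∑ μ, e μ := by
    rw [hdeg, ← h.card_irr]
    push_cast
    rw [Finset.sum_congr rfl fun μ _ => hmult μ, Finset.sum_add_distrib, Finset.sum_const,
      Finset.card_univ, nsmul_eq_mul]
    ring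
  have hout : ∀ μ, μ ≠ trivA A → μ ∉ S → mult φ μ = t := fun μ _ hμ => by
    have := hmult μ
    simp [hSdef] at hμ
    rw [hμ, add_zero] at this
    exact_mod_cast this
  by_cases hall : ∀ μ, μ ≠ trivA A → e μ = 0
  · have hs : ∑ μ, e μ = e (trivA A) :=
      Finset.sum_eq_single _ (fun μ _ hμ => hall μ hμ) (fun h0 => absurd (Finset.mem_univ _) h0)
    have hb : e (trivA A) ^ 2 ≤ 5 :=
      (Finset.single_le_sum (fun μ _ => sq_nonneg (e μ)) (Finset.mem_univ (trivA A))).trans hE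
    refine ⟨⟨t, e (trivA A), 0, S, hS5, ⟨by nlinarith, by nlinarith⟩, by norm_num, Or.inr rfl,
      hmult _, ?_, hout, fun μ hμ => Or.inl (by rw [hmult μ, hall μ hμ, add_zero])⟩⟩
    rw [hD, ← hs, mul_zero, add_zero, ← hsum]
    simp
  · push Not at hall
    obtain ⟨μ₀, hμ₀, he0⟩ := hall
    set O := (Finset.range 5).image fun i => h.twist^[i] μ₀ with hO
    have hinjO := h.twist_orbit hμ₀
    have hOcard : O.card = 5 := by
      rw [hO, Finset.card_image_of_injOn, Finset.card_range]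
      intro i hi j hj hij
      exact hinjO (by simpa using hi) (by simpa using hj) hij
    have heq : ∀ μ ∈ O, e μ = e μ₀ := by
      intro μ hμ
      obtain ⟨i, -, rfl⟩ := Finset.mem_image.1 hμ
      rw [he]
      simp only
      have : ∀ i, mult φ (h.twist^[i] μ₀) = mult φ μ₀ := by
        intro i
        induction i with
        | zero => rfl
        | succ i ih => rw [Function.iterate_succ_apply', h.mult_twist hch, ih]
      rw [this]
    have h5 : ∑ μ ∈ O, e μ ^ 2 = 5 * e μ₀ ^ 2 := by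
      rw [Finset.sum_congr rfl fun μ hμ => by rw [heq μ hμ], Finset.sum_const, hOcard]
      simp
    have hsplit : ∑ μ ∈ O, e μ ^ 2 + ∑ μ ∈ Oᶜ, e μ ^ 2 = ∑ μ, e μ ^ 2 :=
      Finset.sum_add_sum_compl _ _
    have hpos : 1 ≤ e μ₀ ^ 2 := by
      have : 0 < e μ₀ ^ 2 := by positivity
      linarith
    have hcnn : 0 ≤ ∑ μ ∈ Oᶜ, e μ ^ 2 := Finset.sum_nonneg fun μ _ => sq_nonneg _
    have hsq1 : e μ₀ ^ 2 = 1 := by linarith
    have hzero : ∀ μ ∈ Oᶜ, e μ = 0 := fun μ hμ => by
      have := (Finset.sum_eq_zero_iff_of_nonneg fun μ _ => sq_nonneg (e μ)).1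
        (by linarith : ∑ μ ∈ Oᶜ, e μ ^ 2 = 0) μ hμ
      simpa using this
    have h1O : trivA A ∉ O := by
      intro hmem
      obtain ⟨i, -, hi⟩ := Finset.mem_image.1 hmem
      refine hμ₀ (Subtype.ext (funext fun a => ?_))
      obtain ⟨b, hb⟩ := ((h.conjA.toEquiv.surjective.iterate i) a)
      have key : ∀ j, ∀ x : A, (h.twist^[j] μ₀).1 x = μ₀.1 ((h.conjA.toEquiv)^[j] x) := by
        intro j
        induction j with
        | zero => intro x; rfl
        | succ j ih =>
          intro x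
          rw [Function.iterate_succ_apply', Function.iterate_succ_apply]
          exact ih _
      rw [← hb, ← key, hi]
      rfl
    have hs : ∑ μ, e μ = 5 * e μ₀ := by
      rw [← Finset.sum_add_sum_compl O, Finset.sum_eq_zero hzero, add_zero,
        Finset.sum_congr rfl heq, Finset.sum_const, hOcard]
      simp
    have hε : -1 ≤ e μ₀ ∧ e μ₀ ≤ 1 := ⟨by nlinarith, by nlinarith⟩
    refine ⟨⟨t, 0, e μ₀, S, hS5, by norm_num, hε, Or.inl rfl, ?_, ?_, hout, fun μ hμ => ?_⟩⟩
    · rw [hmult, hzero _ (Finset.mem_compl.2 h1O)]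
    · rw [hD, add_zero, ← hs, ← hsum]
      simp
    · by_cases hμO : μ ∈ O
      · exact Or.inr (by rw [hmult, heq μ hμO])
      · exact Or.inl (by rw [hmult, hzero _ (Finset.mem_compl.2 hμO), add_zero])

end Cfsg.Agent.H26.SingerMax
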