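import Cfsg.Agent.CharBasic.Complete
import Cfsg.Agent.CharBasic.Kernel
import Cfsg.Agent.CharInduce.Ops
import Mathlib.GroupTheory.Sylow
import Mathlib.GroupTheory.Transfer

/-!
A self-centralising abelian subgroup with normalizer of index five over it: basic group theory.
-/

set_option autoImplicit false
set_option linter.unusedSectionVars false
set_option linter.style.longLine false

namespace Cfsg.Agent.H26.SingerMax

open scoped ComplexConjugate

universe u

/-- The hypotheses on the image of the Singer cycle and of the Frobenius map. -/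
structure SingerData {Γ : Type u} [Group Γ] (A : Subgroup Γ) (f : Γ) : Prop where
  comm : ∀ a ∈ A, ∀ b ∈ A, a * b = b * a
  big : 121 ≤ Nat.card A
  five : ¬ 5 ∣ Nat.card A
  cent : ∀ a ∈ A, a ≠ 1 → ∀ g : Γ, g * a = a * g → g ∈ A
  fpow : f ^ 5 = 1
  fout : f ∉ A
  fnorm : ∀ a ∈ A, f * a * f⁻¹ ∈ A
  norm : ∀ g : Γ, (∀ a ∈ A, g * a * g⁻¹ ∈ A) → ∃ i : ℕ, g * f ^ i ∈ A
  notNormal : ¬ A.Normal

variable {Γ : Type u} [Group Γ] [Fintype Γ] {A : Subgroup Γ} {f : Γ}

theorem SingerData.pow_norm (h : SingerData A f) :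
    ∀ (i : ℕ), ∀ a ∈ A, f ^ i * a * (f ^ i)⁻¹ ∈ A := by
  intro i
  induction i with
  | zero => simp
  | succ i ih =>
    intro a ha
    have : f ^ (i + 1) * a * (f ^ (i + 1))⁻¹ = f * (f ^ i * a * (f ^ i)⁻¹) * f⁻¹ := by
      rw [pow_succ']; group
    rw [this]
    exact h.fnorm _ (ih a ha)

theorem SingerData.exists_ne_one (h : SingerData A f) : ∃ a ∈ A, a ≠ 1 := by
  by_contra hh
  push Not at hh
  have : A = ⊥ := (Subgroup.eq_bot_iff_forall A).2 hh
  have := h.big
  rw [‹A = ⊥›, Subgroup.card_bot] at this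
  omega

/-- An element which conjugates one non-trivial element of `A` into `A` normalises `A`. -/
theorem SingerData.norm_of_conj (h : SingerData A f) {g a : Γ} (ha : a ∈ A) (hne : a ≠ 1)
    (hg : g * a * g⁻¹ ∈ A) : ∀ b ∈ A, g * b * g⁻¹ ∈ A := by
  intro b hb
  refine h.cent _ hg (fun h0 => hne ?_) _ ?_
  · have := congrArg (fun z => g⁻¹ * z * g) h0
    simpa [mul_assoc] using this
  · calc g * b * g⁻¹ * (g * a * g⁻¹) = g * (b * a) * g⁻¹ := by group
      _ = g * (a * b) * g⁻¹ := by rw [h.comm b hb a ha]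
      _ = g * a * g⁻¹ * (g * b * g⁻¹) := by group

theorem SingerData.mem_of_pow_prime (h : SingerData A f) {g : Γ}
    (hg : ∀ a ∈ A, g * a * g⁻¹ ∈ A) {r n : ℕ} (hr : r.Prime) (hr5 : r ≠ 5)
    (hpow : g ^ r ^ n ∈ A) : g ∈ A := by
  set N := Subgroup.normalizer (A : Set Γ) with hN
  have hmem : ∀ x : Γ, (∀ a ∈ A, x * a * x⁻¹ ∈ A) → x ∈ N := by
    intro x hx
    rw [hN, Subgroup.mem_normalizer_iff]
    intro a
    refine ⟨hx a, fun h0 => ?_⟩
    have hinj : Set.MapsTo (fun z => x * z * x⁻¹) (A : Set Γ) (A : Set Γ) := hx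
    obtain ⟨b, hb, hb'⟩ := (((Set.toFinite (A : Set Γ)).injOn_iff_bijOn_of_mapsTo hinj).1
      (fun z _ w _ hzw => by simpa using hzw)).surjOn h0
    have : b = a := by simpa using hb'
    exact this ▸ hb
  haveI : (A.subgroupOf N).Normal := Subgroup.normal_in_normalizer
  obtain ⟨i, hi⟩ := h.norm g hg
  have hgN := hmem g hg
  have hfN : f ∈ N := hmem f h.fnorm
  set π := QuotientGroup.mk' (A.subgroupOf N)
  have hker : ∀ x : N, π x = 1 ↔ (x : Γ) ∈ A := fun x => by
    rw [QuotientGroup.mk'_apply, QuotientGroup.eq_one_iff, Subgroup.mem_subgroupOf]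
  have h1 : π ⟨g, hgN⟩ * π ⟨f, hfN⟩ ^ i = 1 := by
    rw [← map_pow, ← map_mul, hker]
    simpa using hi
  have h5 : π ⟨f, hfN⟩ ^ 5 = 1 := by
    rw [← map_pow, hker]
    simp [h.fpow]
  have hg5 : π ⟨g, hgN⟩ ^ 5 = 1 := by
    rw [eq_inv_of_mul_eq_one_left h1, inv_pow, ← pow_mul, mul_comm, pow_mul, h5, one_pow, inv_one]
  have hgr : π ⟨g, hgN⟩ ^ r ^ n = 1 := by
    rw [← map_pow, hker]
    simpa using hpow
  have hcop : Nat.Coprime 5 (r ^ n) :=
    Nat.Coprime.pow_right _ ((Nat.coprime_primes (by norm_num) hr).2 (Ne.symm hr5))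
  have := orderOf_dvd_of_pow_eq_one hg5
  have h2 := Nat.eq_one_of_dvd_coprimes hcop this (orderOf_dvd_of_pow_eq_one hgr)
  rw [orderOf_eq_one_iff] at h2
  simpa using (hker _).1 h2

/-- The `r`-part of the abelian group `A`. -/
def primePart (hA : ∀ a ∈ A, ∀ b ∈ A, a * b = b * a) (r : ℕ) : Subgroup Γ where
  carrier := {a | a ∈ A ∧ ∃ k : ℕ, a ^ r ^ k = 1}
  one_mem' := ⟨A.one_mem, 0, by simp⟩
  mul_mem' := by
    rintro a b ⟨ha, k, hk⟩ ⟨hb, l, hl⟩
    refine ⟨A.mul_mem ha hb, k + l, ?_⟩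
    have hc : Commute a b := hA a ha b hb
    rw [hc.mul_pow]
    have e1 : a ^ r ^ (k + l) = 1 := by rw [pow_add, pow_mul, hk, one_pow]
    have e2 : b ^ r ^ (k + l) = 1 := by rw [add_comm, pow_add, pow_mul, hl, one_pow]
    rw [e1, e2, one_mul]
  inv_mem' := by
    rintro a ⟨ha, k, hk⟩
    exact ⟨A.inv_mem ha, k, by rw [inv_pow, hk, inv_one]⟩

theorem mem_primePart {hA : ∀ a ∈ A, ∀ b ∈ A, a * b = b * a} {r : ℕ} {a : Γ} :
    a ∈ primePart hA r ↔ a ∈ A ∧ ∃ k : ℕ, a ^ r ^ k = 1 := Iff.rfl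

theorem primePart_isPGroup {hA : ∀ a ∈ A, ∀ b ∈ A, a * b = b * a} {r : ℕ} :
    IsPGroup r (primePart hA r) := fun x => by
  obtain ⟨k, hk⟩ := (mem_primePart.1 x.2).2
  exact ⟨k, Subtype.ext (by simpa using hk)⟩

/-- The `r`-parts of `A` are Sylow subgroups of the whole group. -/
theorem SingerData.exists_sylow (h : SingerData A f) {r : ℕ} [hr : Fact r.Prime]
    (hrA : r ∣ Nat.card A) :
    ∃ (S : Sylow r Γ) (a : Γ), (S : Subgroup Γ) ≤ A ∧ a ∈ (S : Subgroup Γ) ∧ a ≠ 1 := by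
  classical
  set R := primePart h.comm r with hR
  obtain ⟨x, hx⟩ := exists_prime_orderOf_dvd_card' r hrA
  have hxR : (x : Γ) ∈ R := mem_primePart.2 ⟨x.2, 1, by
    have := pow_orderOf_eq_one x
    rw [hx] at this
    simpa using congrArg Subtype.val this⟩
  have hxne : (x : Γ) ≠ 1 := fun h0 => by
    have : x = 1 := Subtype.ext h0
    rw [this, orderOf_one] at hx
    exact hr.out.ne_one hx.symm
  obtain ⟨n, hn⟩ := (IsPGroup.iff_card).1 (primePart_isPGroup (hA := h.comm) (r := r))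
  by_cases hdvd : r ^ (n + 1) ∣ Nat.card Γ
  · exfalso
    have hq := Sylow.prime_dvd_card_quotient_normalizer hdvd hn
    haveI : (R.comap (Subgroup.normalizer (R : Set Γ)).subtype).Normal :=
      Subgroup.normal_in_normalizer
    obtain ⟨y, hy⟩ := exists_prime_orderOf_dvd_card' r hq
    obtain ⟨g, rfl⟩ := QuotientGroup.mk_surjective y
    have hgr : (g : Γ) ^ r ∈ R := by
      have := pow_orderOf_eq_one (QuotientGroup.mk' (R.comap (Subgroup.normalizer (R : Set Γ)).subtype) g)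
      rw [show orderOf (QuotientGroup.mk' (R.comap (Subgroup.normalizer (R : Set Γ)).subtype) g) = r
        from hy, ← map_pow, QuotientGroup.mk'_apply, QuotientGroup.eq_one_iff] at this
      simpa [Subgroup.mem_comap, Subgroup.mem_subgroupOf] using this
    have hgA : (g : Γ) * x * (g : Γ)⁻¹ ∈ A :=
      (mem_primePart.1 ((Subgroup.mem_normalizer_iff.1 g.2 x).1 hxR)).1
    have hgmem : (g : Γ) ∈ A := by
      refine h.mem_of_pow_prime (h.norm_of_conj x.2 hxne hgA) hr.out ?_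
        (n := 1) (by simpa using (mem_primePart.1 hgr).1)
      exact fun h5 => h.five (h5 ▸ hrA)
    have hgR : (g : Γ) ∈ R := by
      obtain ⟨k, hk⟩ := (mem_primePart.1 hgr).2
      exact mem_primePart.2 ⟨hgmem, k + 1, by rw [pow_succ', pow_mul]; exact hk⟩
    have h1 : (QuotientGroup.mk g : _ ⧸ R.comap (Subgroup.normalizer (R : Set Γ)).subtype) = 1 := by
      rw [QuotientGroup.eq_one_iff, Subgroup.mem_comap]
      exact hgR
    rw [h1, orderOf_one] at hy
    exact hr.out.ne_one hy.symm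
  · obtain ⟨S, hS⟩ := (primePart_isPGroup (hA := h.comm) (r := r)).exists_le_sylow
    refine ⟨S, x, ?_, hS hxR, hxne⟩
    have heq : R = (S : Subgroup Γ) := by
      refine Subgroup.eq_of_le_of_card_ge hS ?_
      obtain ⟨m, hm⟩ := IsPGroup.iff_card.1 S.2
      rw [hn, hm]
      refine Nat.pow_le_pow_right hr.out.pos ?_
      by_contra hlt
      push Not at hlt
      refine hdvd ((pow_dvd_pow r hlt).trans (hm ▸ Subgroup.card_subgroup_dvd_card _))
    rw [← heq]
    exact fun a ha => (mem_primePart.1 ha).1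

/-- The Frattini argument: every element is a member of the normal closure times a power of `f`. -/
theorem SingerData.exists_mul_pow (h : SingerData A f) (K : Subgroup Γ) [K.Normal] (hAK : A ≤ K)
    (g : Γ) : ∃ k ∈ K, ∃ i : ℕ, g = k * f ^ i := by
  have hbig := h.big
  obtain ⟨r, hr, hrA⟩ := Nat.exists_prime_and_dvd (n := Nat.card A) (by omega)
  haveI := Fact.mk hr
  obtain ⟨S, a, hSA, haS, hane⟩ := h.exists_sylow hrA
  have htop := Sylow.normalizer_sup_eq_top' S (hSA.trans hAK)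
  have hg : g ∈ K ⊔ Subgroup.normalizer ((S : Subgroup Γ) : Set Γ) := by
    rw [sup_comm]
    exact htop ▸ Subgroup.mem_top g
  rw [← SetLike.mem_coe, Subgroup.normal_mul] at hg
  obtain ⟨k, hk, n, hn, rfl⟩ := hg
  have hna : n * a * n⁻¹ ∈ A := hSA ((Subgroup.mem_normalizer_iff.1 hn a).1 haS)
  obtain ⟨i, hi⟩ := h.norm n (h.norm_of_conj (hSA haS) hane hna)
  refine ⟨k * (n * f ^ i), K.mul_mem hk (hAK hi), 5 * i - i, ?_⟩
  have e : f ^ i * f ^ (5 * i - i) = 1 := by
    rw [← pow_add, show i + (5 * i - i) = 5 * i by omega, pow_mul, h.fpow, one_pow]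
  calc k * n = k * n * (f ^ i * f ^ (5 * i - i)) := by rw [e, mul_one]
    _ = k * (n * f ^ i) * f ^ (5 * i - i) := by group

/-- The conjugates of `A` are disjoint, so a character of norm one is small on `A`. -/
theorem SingerData.sum_norm_lt (h : SingerData A f) {φ : Γ → ℂ} (hφ : Cfsg.IsIrrCharacter Γ φ)
    [Fintype A] :
    (∑ a : A, Complex.normSq (φ a)) - Complex.normSq (φ 1) < 5 * (Nat.card A : ℝ) := by
  classical
  set F : Γ → ℝ := fun g => Complex.normSq (φ g) with hF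
  have hclass := CharBasic.IsIrr.isClassFunction hφ
  have htot : ∑ g : Γ, F g = (Nat.card Γ : ℝ) := by
    have h1 := CharBasic.classInner_irr_self hφ
    rw [CharBasic.classInner_def, inv_mul_eq_one₀ (by exact_mod_cast Nat.card_pos.ne')] at h1
    have h2 : ∀ g, φ g * conj (φ g) = ((F g : ℝ) : ℂ) := fun g => Complex.mul_conj (φ g)
    simp only [h2, ← Complex.ofReal_sum] at h1
    exact_mod_cast h1.symm
  set s : Finset A := Finset.univ.erase 1 with hs
  have hsum : ∑ a : A, Complex.normSq (φ a) = F 1 + ∑ a ∈ s, F a :=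
    (Finset.add_sum_erase _ (fun a : A => F a) (Finset.mem_univ 1)).symm
  set T := (Finset.univ : Finset Γ) ×ˢ s with hT
  have hlhs : ∑ p ∈ T, F (p.1 * p.2 * p.1⁻¹) = (Nat.card Γ : ℝ) * ∑ a ∈ s, F a := by
    rw [hT, Finset.sum_product, Nat.card_eq_fintype_card]
    have : ∀ g : Γ, ∑ a ∈ s, F (g * a * g⁻¹) = ∑ a ∈ s, F a := fun g =>
      Finset.sum_congr rfl fun a _ => congrArg Complex.normSq (hclass a g)
    simp only [this, Finset.sum_const, Finset.card_univ, nsmul_eq_mul]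
  have hmap : ∀ p ∈ T, p.1 * (p.2 : Γ) * p.1⁻¹ ∈ (Finset.univ : Finset Γ).erase 1 := by
    intro p hp
    refine Finset.mem_erase.2 ⟨fun h0 => ?_, Finset.mem_univ _⟩
    have hp2 : p.2 ≠ 1 := (Finset.mem_erase.1 (Finset.mem_product.1 hp).2).1
    exact hp2 (Subtype.ext (by simpa [mul_assoc] using congrArg (fun z => p.1⁻¹ * z * p.1) h0))
  have hfib : ∀ x : Γ, (T.filter fun p => p.1 * (p.2 : Γ) * p.1⁻¹ = x).card ≤ 5 * Nat.card A := by
    intro x
    by_cases hne : (T.filter fun p => p.1 * (p.2 : Γ) * p.1⁻¹ = x).Nonempty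
    · obtain ⟨q, hq⟩ := hne
      obtain ⟨hqT, hqx⟩ := Finset.mem_filter.1 hq
      have hsub : (T.filter fun p => p.1 * (p.2 : Γ) * p.1⁻¹ = x).card
          ≤ ((Finset.univ : Finset A) ×ˢ Finset.range 5).card := by
        have key : ∀ p ∈ T.filter fun p => p.1 * (p.2 : Γ) * p.1⁻¹ = x,
            ∃ w : A × ℕ, w.2 < 5 ∧ (p.1⁻¹ * q.1) * f ^ w.2 = w.1 := by
          intro p hp
          obtain ⟨hpT, hpx⟩ := Finset.mem_filter.1 hp
          have hq2 : (q.2 : Γ) ≠ 1 := fun h0 =>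
            (Finset.mem_erase.1 (Finset.mem_product.1 hqT).2).1 (Subtype.ext h0)
          have hconj : p.1⁻¹ * q.1 * q.2 * (p.1⁻¹ * q.1)⁻¹ = p.2 := by
            calc p.1⁻¹ * q.1 * q.2 * (p.1⁻¹ * q.1)⁻¹ = p.1⁻¹ * (q.1 * q.2 * q.1⁻¹) * p.1 := by group
              _ = p.2 := by rw [hqx, ← hpx]; group
          obtain ⟨i, hi⟩ := h.norm _ (h.norm_of_conj q.2.2 hq2 (hconj ▸ p.2.2))
          refine ⟨(⟨_, hi⟩, i % 5), Nat.mod_lt _ (by norm_num), ?_⟩
          have hfi : f ^ i = f ^ (i % 5) := by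
            conv_lhs => rw [← Nat.div_add_mod i 5, pow_add, pow_mul, h.fpow, one_pow, one_mul]
          simp [hfi]
        choose! w hw5 hweq using key
        refine Finset.card_le_card_of_injOn w (fun p hp => ?_) ?_
        · simp [hw5 p hp]
        · intro p hp p' hp' heq
          have e1 := hweq p hp
          have e2 := hweq p' hp'
          rw [heq] at e1
          have h1 : p.1 = p'.1 := by
            have := e1.trans e2.symm
            simpa using this
          refine Prod.ext h1 (Subtype.ext ?_)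
          have := (Finset.mem_filter.1 hp).2.trans (Finset.mem_filter.1 hp').2.symm
          rw [h1] at this
          simpa using this
      simpa [Nat.card_eq_fintype_card, mul_comm] using hsub
    · rw [Finset.not_nonempty_iff_eq_empty.1 hne]
      simp
  have hub : ∑ p ∈ T, F (p.1 * p.2 * p.1⁻¹) ≤
      (5 * (Nat.card A : ℝ)) * ∑ x ∈ (Finset.univ : Finset Γ).erase 1, F x := by
    rw [← Finset.sum_fiberwise_of_maps_to hmap, Finset.mul_sum]
    refine Finset.sum_le_sum fun x _ => ?_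
    rw [Finset.sum_congr rfl (g := fun _ => F x) (fun p hp => by rw [(Finset.mem_filter.1 hp).2]),
      Finset.sum_const, nsmul_eq_mul]
    refine mul_le_mul_of_nonneg_right ?_ (Complex.normSq_nonneg _)
    exact_mod_cast hfib x
  have herase : ∑ x ∈ (Finset.univ : Finset Γ).erase 1, F x = (Nat.card Γ : ℝ) - F 1 := by
    rw [← htot, ← Finset.add_sum_erase _ F (Finset.mem_univ 1), add_sub_cancel_left]
  rw [hlhs, herase] at hub
  have hpos : 0 < F 1 := Complex.normSq_pos.2 (CharBasic.IsIrr.one_ne_zero hφ)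
  have hA0 : (0 : ℝ) < Nat.card A := by exact_mod_cast Nat.card_pos
  have hΓ : (0 : ℝ) < Nat.card Γ := by exact_mod_cast Nat.card_pos
  rw [hsum, show Complex.normSq (φ 1) = F 1 from rfl, add_sub_cancel_left]
  by_contra hc
  push Not at hc
  nlinarith [mul_le_mul_of_nonneg_left hc hΓ.le, mul_pos hA0 hpos]

end Cfsg.Agent.H26.SingerMax
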