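import Mathlib

/-!
The degrees `t c - b` do not divide the order of the five dimensional linear group.
-/

set_option autoImplicit false

namespace Cfsg.Agent.H26.SingerMax

/-- The order of the Singer cycle. -/
def mFive (q : ℕ) : ℕ := q ^ 4 + q ^ 3 + q ^ 2 + q + 1

/-- The order of the general linear group, factorised. -/
def glFive (q : ℕ) : ℕ :=
  q ^ 10 * (q - 1) ^ 5 * (q + 1) ^ 2 * (q ^ 2 + 1) * (q ^ 2 + q + 1) * mFive q

/-- The pairs `(t, b)` to exclude. -/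
def degPairs : List (ℕ × ℕ) := [(1, 1), (1, 2), (2, 1), (2, 2), (3, 1), (3, 2), (4, 1), (4, 2), (5, 2)]

/-- The small cases for one pair. -/
def checkPair (p : ℕ × ℕ) : Bool :=
  (List.range 154).all fun i => glFive (5 * i + 11) % ((p.1 * mFive (5 * i + 11) - 5 * p.2) / 5) != 0

theorem check_1_1 : checkPair (1, 1) = true := by decide +kernel

theorem check_1_2 : checkPair (1, 2) = true := by decide +kernel

theorem check_2_1 : checkPair (2, 1) = true := by decide +kernel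

theorem check_2_2 : checkPair (2, 2) = true := by decide +kernel

theorem check_3_1 : checkPair (3, 1) = true := by decide +kernel

theorem check_3_2 : checkPair (3, 2) = true := by decide +kernel

theorem check_4_1 : checkPair (4, 1) = true := by decide +kernel

theorem check_4_2 : checkPair (4, 2) = true := by decide +kernel

theorem check_5_2 : checkPair (5, 2) = true := by decide +kernel

theorem small_check : ∀ p ∈ degPairs, checkPair p = true := by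
  simp only [degPairs, List.forall_mem_cons, List.not_mem_nil, false_implies, implies_true, and_true]
  exact ⟨check_1_1, check_1_2, check_2_1, check_2_2, check_3_1, check_3_2, check_4_1, check_4_2, check_5_2⟩

theorem gcd_pow_dvd (P a k : ℕ) : P.gcd (a ^ k) ∣ P.gcd a ^ k := by
  induction k with
  | zero => simp
  | succ k ih =>
    rw [pow_succ, pow_succ]
    exact (Nat.gcd_mul_right_dvd_mul_gcd P _ _).trans (mul_dvd_mul_right ih _)

theorem gcd_primePow_dvd {q : ℕ} (hq : IsPrimePow q) (P k c : ℕ) (hc : P.gcd q ∣ c) (hc0 : 0 < c)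
    (hcq : c < q) : P.gcd (q ^ k) ∣ c := by
  obtain ⟨p, f, hp, hf, rfl⟩ := (isPrimePow_nat_iff _).1 hq
  rw [← pow_mul]
  obtain ⟨i, -, hi⟩ := (Nat.dvd_prime_pow hp).1 (Nat.gcd_dvd_right P (p ^ (f * k)))
  rw [hi]
  have hiP : p ^ i ∣ P := hi ▸ Nat.gcd_dvd_left _ _
  rcases Nat.lt_or_ge i f with h | h
  · exact (Nat.dvd_gcd hiP (pow_dvd_pow p h.le)).trans hc
  · exfalso
    have h1 : p ^ f ∣ P.gcd (p ^ f) := Nat.dvd_gcd ((pow_dvd_pow p h).trans hiP) dvd_rfl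
    exact absurd (Nat.le_of_dvd hc0 (h1.trans hc)) (by omega)

theorem gcd_dvd_of_int {P a : ℕ} {N : ℤ} (hP : (P : ℤ) ∣ N) {A B c : ℤ}
    (h : N * A + (a : ℤ) * B = c) : P.gcd a ∣ c.natAbs := by
  rw [← Int.natCast_dvd, ← h]
  exact dvd_add (((Int.natCast_dvd_natCast.2 (Nat.gcd_dvd_left P a)).trans hP).mul_right A)
    ((Int.natCast_dvd_natCast.2 (Nat.gcd_dvd_right P a)).mul_right B)

theorem dvd_of_factors {P q : ℕ} (h : P ∣ glFive q) {c₀ c₁ c₂ c₃ c₄ c₅ : ℕ}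
    (h0 : P.gcd (q ^ 10) ∣ c₀) (h1 : P.gcd (q - 1) ∣ c₁) (h2 : P.gcd (q + 1) ∣ c₂)
    (h3 : P.gcd (q ^ 2 + 1) ∣ c₃) (h4 : P.gcd (q ^ 2 + q + 1) ∣ c₄) (h5 : P.gcd (mFive q) ∣ c₅) :
    P ∣ c₀ * c₁ ^ 5 * c₂ ^ 2 * c₃ * c₄ * c₅ := by
  have e : P = P.gcd (glFive q) := (Nat.gcd_eq_left h).symm
  rw [e, glFive]
  refine (Nat.gcd_mul_right_dvd_mul_gcd P _ _).trans (mul_dvd_mul ?_ h5)
  refine (Nat.gcd_mul_right_dvd_mul_gcd P _ _).trans (mul_dvd_mul ?_ h4)
  refine (Nat.gcd_mul_right_dvd_mul_gcd P _ _).trans (mul_dvd_mul ?_ h3)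
  refine (Nat.gcd_mul_right_dvd_mul_gcd P _ _).trans (mul_dvd_mul ?_ ?_)
  · refine (Nat.gcd_mul_right_dvd_mul_gcd P _ _).trans (mul_dvd_mul h0 ?_)
    exact (gcd_pow_dvd P _ 5).trans (pow_dvd_pow_of_dvd h1 5)
  · exact (gcd_pow_dvd P _ 2).trans (pow_dvd_pow_of_dvd h2 2)

theorem not_dvd_small {q : ℕ} (h5 : q % 5 = 1) (hq : 11 ≤ q) (hlt : q < 780) {t b P : ℕ}
    (htb : (t, b) ∈ degPairs) (hP : 5 * P + 5 * b = t * mFive q) : ¬ P ∣ glFive q := by
  intro hdvd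
  have h' := small_check (t, b) htb
  rw [checkPair, List.all_eq_true] at h'
  replace h' := h' ((q - 11) / 5) (List.mem_range.2 (by omega))
  rw [show 5 * ((q - 11) / 5) + 11 = q by omega, bne_iff_ne] at h'
  apply h'
  rw [show (t * mFive q - 5 * b) / 5 = P by omega]
  exact Nat.mod_eq_zero_of_dvd hdvd

theorem not_dvd_large_eq {q : ℕ} (hq : IsPrimePow q) (h5 : q % 5 = 1) (hbig : 780 ≤ q) {t P : ℕ}
    (htb : (t, t) ∈ degPairs) (hP : 5 * P + 5 * t = t * mFive q) : ¬ P ∣ glFive q := by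
  intro hdvd
  have hm : (780 : ℕ) ^ 4 ≤ mFive q := by
    have := Nat.pow_le_pow_left hbig 4
    unfold mFive
    omega
  have hm1 : ((q - 1 : ℕ) : ℤ) = (q : ℤ) - 1 := by rw [Nat.cast_sub (by omega)]; norm_num
  have hmz : (mFive q : ℤ) = (q : ℤ) ^ 4 + (q : ℤ) ^ 3 + (q : ℤ) ^ 2 + q + 1 := by
    unfold mFive; push_cast; ring
  set C := q ^ 3 + 2 * q ^ 2 + 3 * q + 4 with hC
  have hCP : C ∣ P := by
    obtain ⟨u, hu⟩ : 5 ∣ q - 1 := by omega
    refine ⟨t * u, ?_⟩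
    have e1 : (5 * (P : ℤ)) = 5 * ((C : ℤ) * ((t : ℤ) * u)) := by
      have hu' : (5 : ℤ) * u = (q : ℤ) - 1 := by rw [← hm1, hu]; push_cast; ring
      have hPz : 5 * (P : ℤ) + 5 * t = t * mFive q := by exact_mod_cast hP
      rw [hC]; push_cast
      linear_combination hPz + (t : ℤ) * hmz - ((q : ℤ) ^ 3 + 2 * q ^ 2 + 3 * q + 4) * (t : ℤ) * hu'
    exact_mod_cast mul_left_cancel₀ (by norm_num : (5 : ℤ) ≠ 0) e1
  have hCd : (C : ℤ) ∣ (q : ℤ) ^ 3 + 2 * (q : ℤ) ^ 2 + 3 * q + 4 := ⟨1, by rw [hC]; push_cast; ring⟩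
  have hbd := dvd_of_factors (hCP.trans hdvd)
    (gcd_primePow_dvd hq C 10 4 (gcd_dvd_of_int (a := q) hCd (A := 1)
      (B := -((q : ℤ) ^ 2 + 2 * q + 3)) (c := 4) (by ring)) (by norm_num) (by omega))
    (gcd_dvd_of_int (a := q - 1) hCd (A := 1) (B := -((q : ℤ) ^ 2 + 3 * q + 6)) (c := 10)
      (by rw [hm1]; ring))
    (gcd_dvd_of_int (a := q + 1) hCd (A := 1) (B := -((q : ℤ) ^ 2 + q + 2)) (c := 2)
      (by push_cast; ring))
    (gcd_dvd_of_int (a := q ^ 2 + 1) hCd (A := 2 * (q : ℤ) - 2)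
      (B := -(2 * (q : ℤ) - 2) * ((q : ℤ) + 2) - 4) (c := -8) (by push_cast; ring))
    (gcd_dvd_of_int (a := q ^ 2 + q + 1) hCd (A := 2 - (q : ℤ))
      (B := -(2 - (q : ℤ)) * ((q : ℤ) + 1) + 1) (c := 7) (by push_cast; ring))
    (gcd_dvd_of_int (a := mFive q) hCd (A := -((q : ℤ) - 1)) (B := 1) (c := 5)
      (by rw [hmz]; ring))
  have hle := Nat.le_of_dvd (by norm_num) hbd
  have h3 := Nat.pow_le_pow_left hbig 3
  norm_num at hle h3
  omega

theorem large_factors {q : ℕ} (hq : IsPrimePow q) (h1q : 1 ≤ q) {t b P c₀ c₁ c₄ : ℕ}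
    (hP : 5 * P + 5 * b = t * mFive q) (hdvd : P ∣ glFive q)
    (h₀ : ((t : ℤ) - 5 * b).natAbs = c₀) (h₁ : (5 * (t : ℤ) - 5 * b).natAbs = c₁)
    (h₄ : (25 * (b : ℤ) ^ 2 - 5 * b * t + (t : ℤ) ^ 2).natAbs = c₄) (hc₀ : 0 < c₀) (hcq : c₀ < q) :
    P ∣ c₀ * c₁ ^ 5 * c₀ ^ 2 * c₀ * c₄ * (5 * b) := by
  have hm1 : ((q - 1 : ℕ) : ℤ) = (q : ℤ) - 1 := by rw [Nat.cast_sub h1q]; norm_num
  have hmz : (mFive q : ℤ) = (q : ℤ) ^ 4 + (q : ℤ) ^ 3 + (q : ℤ) ^ 2 + q + 1 := by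
    unfold mFive; push_cast; ring
  have hN : (P : ℤ) ∣ (t : ℤ) * mFive q - 5 * b := ⟨5, by
    have hPz : 5 * (P : ℤ) + 5 * b = t * mFive q := by exact_mod_cast hP
    linear_combination -hPz⟩
  rw [hmz] at hN
  set Q : ℤ := (q : ℤ) with hQ
  set T : ℤ := (t : ℤ)
  set B' : ℤ := (b : ℤ)
  have hbd := dvd_of_factors hdvd
    (gcd_primePow_dvd hq P 10 c₀ (h₀ ▸ gcd_dvd_of_int (a := q) hN (A := 1)
      (B := -(T * (Q ^ 3 + Q ^ 2 + Q + 1))) (c := T - 5 * B') (by ring))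
      hc₀ hcq)
    (gcd_dvd_of_int (a := q - 1) hN (A := 1) (B := -(T * (Q ^ 3 + 2 * Q ^ 2 + 3 * Q + 4)))
      (c := 5 * T - 5 * B') (by rw [hm1]; ring))
    (gcd_dvd_of_int (a := q + 1) hN (A := 1) (B := -(T * (Q ^ 3 + Q))) (c := T - 5 * B')
      (by push_cast; ring))
    (gcd_dvd_of_int (a := q ^ 2 + 1) hN (A := 1) (B := -(T * (Q ^ 2 + Q))) (c := T - 5 * B')
      (by push_cast; ring))
    (gcd_dvd_of_int (a := q ^ 2 + q + 1) hN (A := -T * Q - 5 * B')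
      (B := (T * Q + 5 * B') * (T * Q ^ 2) + T * T)
      (c := 25 * B' ^ 2 - 5 * B' * T + T ^ 2) (by push_cast; ring))
    (gcd_dvd_of_int (a := mFive q) hN (A := 1) (B := -T) (c := -(5 * B')) (by rw [hmz]; ring))
  rw [h₀, h₁, h₄] at hbd
  simpa [B', Int.natAbs_mul] using hbd

theorem not_dvd_large {q : ℕ} (hq : IsPrimePow q) (hbig : 780 ≤ q) {t b P : ℕ}
    (hne : t ≠ b) (htb : (t, b) ∈ degPairs) (hP : 5 * P + 5 * b = t * mFive q) : ¬ P ∣ glFive q := by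
  intro hdvd
  have hm : (780 : ℕ) ^ 4 ≤ mFive q := by
    have := Nat.pow_le_pow_left hbig 4
    unfold mFive
    omega
  have h1q : 1 ≤ q := by omega
  simp only [degPairs, List.mem_cons, Prod.mk.injEq, List.not_mem_nil, or_false] at htb
  rcases htb with ⟨rfl, rfl⟩ | ⟨rfl, rfl⟩ | ⟨rfl, rfl⟩ | ⟨rfl, rfl⟩ | ⟨rfl, rfl⟩ | ⟨rfl, rfl⟩ | ⟨rfl, rfl⟩ | ⟨rfl, rfl⟩ | ⟨rfl, rfl⟩
  · exact hne rfl
  · have h := Nat.le_of_dvd (by decide) (large_factors hq h1q hP hdvd (c₀ := 9) (c₁ := 5) (c₄ := 91)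
      (by decide) (by decide) (by decide) (by decide) (by omega))
    omega
  · have h := Nat.le_of_dvd (by decide) (large_factors hq h1q hP hdvd (c₀ := 3) (c₁ := 5) (c₄ := 19)
      (by decide) (by decide) (by decide) (by decide) (by omega))
    omega
  · exact hne rfl
  · have h := Nat.le_of_dvd (by decide) (large_factors hq h1q hP hdvd (c₀ := 2) (c₁ := 10) (c₄ := 19)
      (by decide) (by decide) (by decide) (by decide) (by omega))
    omega
  · have h := Nat.le_of_dvd (by decide) (large_factors hq h1q hP hdvd (c₀ := 7) (c₁ := 5) (c₄ := 79)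
      (by decide) (by decide) (by decide) (by decide) (by omega))
    omega
  · have h := Nat.le_of_dvd (by decide) (large_factors hq h1q hP hdvd (c₀ := 1) (c₁ := 15) (c₄ := 21)
      (by decide) (by decide) (by decide) (by decide) (by omega))
    omega
  · have h := Nat.le_of_dvd (by decide) (large_factors hq h1q hP hdvd (c₀ := 6) (c₁ := 10) (c₄ := 76)
      (by decide) (by decide) (by decide) (by decide) (by omega))
    omega
  · have h := Nat.le_of_dvd (by decide) (large_factors hq h1q hP hdvd (c₀ := 5) (c₁ := 15) (c₄ := 75)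
      (by decide) (by decide) (by decide) (by decide) (by omega))
    omega

/-- The divisibility fact. -/
theorem not_dvd_glFive {q : ℕ} (hq : IsPrimePow q) (h5 : q % 5 = 1) {t b P : ℕ}
    (htb : (t, b) ∈ degPairs) (hP : 5 * P + 5 * b = t * mFive q) : ¬ P ∣ glFive q := by
  have hq11 : 11 ≤ q := by
    by_contra hlt
    have h1 := hq.one_lt
    obtain rfl : q = 6 := by omega
    obtain ⟨p, f, hp, hf, he⟩ := (isPrimePow_nat_iff _).1 hq
    have h2 : p = 2 := (Nat.prime_dvd_prime_iff_eq Nat.prime_two hp).1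
      (Nat.prime_two.dvd_of_dvd_pow (n := f) (by rw [he]; norm_num)) |>.symm
    have h3 : 3 ∣ 2 ^ f := ⟨2, by rw [h2] at he; rw [he]⟩
    exact absurd (Nat.prime_three.dvd_of_dvd_pow h3) (by norm_num)
  rcases Nat.lt_or_ge q 780 with hlt | hbig
  · exact not_dvd_small h5 hq11 hlt htb hP
  rcases eq_or_ne t b with rfl | hne
  · exact not_dvd_large_eq hq h5 hbig htb hP
  · exact not_dvd_large hq hbig hne htb hP

end Cfsg.Agent.H26.SingerMax
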