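import Cfsg.Agent.H26.SingerMax.DivFive
import Cfsg.Agent.H99.Cyclic
import Mathlib.FieldTheory.Finite.GaloisField

/-!
A field of degree five inside the five by five matrices.
-/

set_option autoImplicit false
set_option linter.unusedSectionVars false
set_option linter.style.longLine false
set_option linter.style.haveILetI false

namespace Cfsg.Agent.H26.SingerMax

open scoped MatrixGroups Matrix
open Module Cfsg.Geo

variable {F : Type*} [Field F] [Fintype F] {K : Subalgebra F (Matrix (Fin 5) (Fin 5) F)}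

theorem isField_five (hK : IsFieldSubalgebra 5 K) : IsField K :=
  { exists_pair_ne := ⟨0, 1, fun h => zero_ne_one
      (congrArg Subtype.val h : (0 : Matrix (Fin 5) (Fin 5) F) = 1)⟩
    mul_comm := fun a b => Subtype.ext (hK.comm _ a.2 _ b.2)
    mul_inv_cancel := fun {a} ha => by
      obtain ⟨y, hy, h⟩ := hK.inv a.1 a.2 (fun h => ha (Subtype.ext h))
      exact ⟨⟨y, hy⟩, Subtype.ext h⟩ }

theorem mulVec_eq_zero_five (hK : IsFieldSubalgebra 5 K) {k : Matrix (Fin 5) (Fin 5) F} (hk : k ∈ K)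
    {v : Fin 5 → F} (hv : v ≠ 0) (h : k *ᵥ v = 0) : k = 0 := by
  by_contra hk0
  obtain ⟨y, hy, hyk⟩ := hK.inv k hk hk0
  apply hv
  rw [← Matrix.one_mulVec v, ← hyk, hK.comm k hk y hy, ← Matrix.mulVec_mulVec, h, Matrix.mulVec_zero]

/-- Evaluation at a nonzero vector. -/
noncomputable def evalFive (hK : IsFieldSubalgebra 5 K) {v : Fin 5 → F} (hv : v ≠ 0) :
    K ≃ₗ[F] (Fin 5 → F) :=
  haveI : FiniteDimensional F K := Module.finite_of_finrank_pos (by rw [hK.finrank_eq]; norm_num)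
  LinearEquiv.ofInjectiveOfFinrankEq
    { toFun := fun x => (x : Matrix (Fin 5) (Fin 5) F) *ᵥ v
      map_add' := fun x y => Matrix.add_mulVec _ _ v
      map_smul' := fun c x => Matrix.smul_mulVec c (x : Matrix (Fin 5) (Fin 5) F) v }
    ((injective_iff_map_eq_zero _).2 fun x hx => Subtype.ext (mulVec_eq_zero_five hK x.2 hv hx))
    (by rw [hK.finrank_eq, Module.finrank_fin_fun])

theorem evalFive_apply (hK : IsFieldSubalgebra 5 K) {v : Fin 5 → F} (hv : v ≠ 0) (x : K) :
    evalFive hK hv x = (x : Matrix (Fin 5) (Fin 5) F) *ᵥ v := rfl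

theorem exists_mulVec_five (hK : IsFieldSubalgebra 5 K) {v : Fin 5 → F} (hv : v ≠ 0)
    (w : Fin 5 → F) : ∃ k ∈ K, k *ᵥ v = w := by
  obtain ⟨x, hx⟩ := (evalFive hK hv).surjective w
  exact ⟨x, x.2, hx⟩

theorem mem_of_commute_five (hK : IsFieldSubalgebra 5 K) {x : Matrix (Fin 5) (Fin 5) F}
    (hx : ∀ k ∈ K, x * k = k * x) : x ∈ K := by
  have hv : (Pi.single 0 1 : Fin 5 → F) ≠ 0 := by simp
  obtain ⟨k, hk, hkv⟩ := exists_mulVec_five hK hv (x *ᵥ Pi.single 0 1)
  have : x = k := Matrix.ext_iff_mulVec.2 fun w => by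
    obtain ⟨k', hk', rfl⟩ := exists_mulVec_five hK hv w
    rw [Matrix.mulVec_mulVec, hx k' hk', ← Matrix.mulVec_mulVec, ← hkv, Matrix.mulVec_mulVec,
      Matrix.mulVec_mulVec, hK.comm k hk k' hk']
  exact this ▸ hk

theorem mem_normalizer_five {g : GL (Fin 5) F}
    (hg : ∀ k ∈ K, (g : Matrix (Fin 5) (Fin 5) F) * k * ((g⁻¹ : GL (Fin 5) F) : Matrix (Fin 5) (Fin 5) F) ∈ K) :
    g ∈ subalgebraNormalizer K := by
  intro k
  refine ⟨hg k, fun h => ?_⟩
  have hmaps : Set.MapsTo
      (fun z => (g : Matrix (Fin 5) (Fin 5) F) * z * ((g⁻¹ : GL (Fin 5) F) : Matrix (Fin 5) (Fin 5) F))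
      (K : Set (Matrix (Fin 5) (Fin 5) F)) (K : Set (Matrix (Fin 5) (Fin 5) F)) := hg
  have hinj : Function.Injective
      (fun z => (g : Matrix (Fin 5) (Fin 5) F) * z * ((g⁻¹ : GL (Fin 5) F) : Matrix (Fin 5) (Fin 5) F)) := by
    intro a b hab
    exact (Units.mul_right_inj g).1 ((Units.mul_left_inj g⁻¹).1 hab)
  obtain ⟨b, hb, hb'⟩ := (((Set.toFinite (K : Set (Matrix (Fin 5) (Fin 5) F))).injOn_iff_bijOn_of_mapsTo
    hmaps).1 hinj.injOn).surjOn h
  exact hinj hb' ▸ hb

/-- Nonscalar elements generate. -/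
theorem adjoin_eq_five (hK : IsFieldSubalgebra 5 K) {a : Matrix (Fin 5) (Fin 5) F} (ha : a ∈ K)
    (hns : ∀ c : F, a ≠ c • 1) : Algebra.adjoin F {a} = K := by
  letI : Field K := (isField_five hK).toField
  have := Subalgebra.isSimpleOrder_of_finrank_prime F K (by rw [hK.finrank_eq]; norm_num)
  rcases eq_bot_or_eq_top ((Algebra.adjoin F {a}).comap K.val) with h | h
  · exfalso
    have h1 : (⟨a, ha⟩ : K) ∈ (Algebra.adjoin F {a}).comap K.val := Algebra.self_mem_adjoin_singleton F a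
    rw [h, Algebra.mem_bot] at h1
    obtain ⟨c, hc⟩ := h1
    refine hns c ?_
    rw [← Algebra.algebraMap_eq_smul_one]
    exact (congrArg Subtype.val hc).symm
  · refine le_antisymm (Algebra.adjoin_le (Set.singleton_subset_iff.2 ha)) fun x hx => ?_
    have h1 : (⟨x, hx⟩ : K) ∈ (Algebra.adjoin F {a}).comap K.val := h ▸ Algebra.mem_top
    exact h1

/-- An element conjugating a nonscalar element of the field into the field normalises it. -/
theorem mem_normalizer_of_conj_five (hK : IsFieldSubalgebra 5 K) {a : Matrix (Fin 5) (Fin 5) F}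
    (ha : a ∈ K) (hns : ∀ c : F, a ≠ c • 1) {g : GL (Fin 5) F}
    (h : (g : Matrix (Fin 5) (Fin 5) F) * a * ((g⁻¹ : GL (Fin 5) F) : Matrix (Fin 5) (Fin 5) F) ∈ K) :
    g ∈ subalgebraNormalizer K := by
  refine mem_normalizer_five fun k hk => ?_
  rw [← adjoin_eq_five hK ha hns] at hk
  induction hk using Algebra.adjoin_induction with
  | mem x hx =>
    rw [Set.mem_singleton_iff] at hx
    exact hx ▸ h
  | algebraMap c =>
    rw [← Algebra.commutes c, mul_assoc, ← Units.val_mul, mul_inv_cancel, Units.val_one, mul_one]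
    exact K.algebraMap_mem c
  | add x y _ _ hx hy => rw [mul_add, add_mul]; exact K.add_mem hx hy
  | mul x y _ _ hx hy =>
    have e : (g : Matrix (Fin 5) (Fin 5) F) * (x * y) * ((g⁻¹ : GL (Fin 5) F) : Matrix (Fin 5) (Fin 5) F) =
        ((g : Matrix (Fin 5) (Fin 5) F) * x * ((g⁻¹ : GL (Fin 5) F) : Matrix (Fin 5) (Fin 5) F)) *
        ((g : Matrix (Fin 5) (Fin 5) F) * y * ((g⁻¹ : GL (Fin 5) F) : Matrix (Fin 5) (Fin 5) F)) := by
      simp only [mul_assoc]
      rw [← mul_assoc ((g⁻¹ : GL (Fin 5) F) : Matrix (Fin 5) (Fin 5) F) (g : Matrix (Fin 5) (Fin 5) F),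
        ← Units.val_mul, inv_mul_cancel, Units.val_one, one_mul]
    rw [e]
    exact K.mul_mem hx hy

/-- The elements of the field of determinant one. -/
def singerGroup (hK : IsFieldSubalgebra 5 K) : Subgroup (GL (Fin 5) F) where
  carrier := {g | g ∈ specialLinear (Fin 5) F ∧ (g : Matrix (Fin 5) (Fin 5) F) ∈ K}
  mul_mem' ha hb := ⟨(specialLinear (Fin 5) F).mul_mem ha.1 hb.1, by
    rw [Units.val_mul]; exact K.mul_mem ha.2 hb.2⟩
  one_mem' := ⟨(specialLinear (Fin 5) F).one_mem, by rw [Units.val_one]; exact K.one_mem⟩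
  inv_mem' := fun {g} hg => ⟨(specialLinear (Fin 5) F).inv_mem hg.1, by
    obtain ⟨y, hy, hgy⟩ := hK.inv _ hg.2 g.isUnit.ne_zero
    have : ((g⁻¹ : GL (Fin 5) F) : Matrix (Fin 5) (Fin 5) F) = y :=
      (Units.mul_right_inj g).1 (by rw [← Units.val_mul, mul_inv_cancel, Units.val_one, hgy])
    exact this ▸ hy⟩

theorem mem_singerGroup {hK : IsFieldSubalgebra 5 K} {g : GL (Fin 5) F} :
    g ∈ singerGroup hK ↔ g ∈ specialLinear (Fin 5) F ∧ (g : Matrix (Fin 5) (Fin 5) F) ∈ K := Iff.rfl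

theorem singerGroup_le (hK : IsFieldSubalgebra 5 K) :
    singerGroup hK ≤ subalgebraNormalizer K ⊓ specialLinear (Fin 5) F := fun g hg =>
  ⟨mem_normalizer_five fun k hk => by
    rw [hK.comm _ hg.2 k hk, mul_assoc, ← Units.val_mul, mul_inv_cancel, Units.val_one, mul_one]
    exact hk, hg.1⟩

theorem card_singerGroup (hK : IsFieldSubalgebra 5 K) :
    Nat.card (singerGroup hK) = mFive (Fintype.card F) := by
  classical
  letI : Field K := (isField_five hK).toField
  haveI : FiniteDimensional F K := Module.finite_of_finrank_pos (by rw [hK.finrank_eq]; norm_num)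
  haveI : Finite K := Module.finite_of_finite F
  have hv : (Pi.single 0 1 : Fin 5 → F) ≠ 0 := by simp
  have hdet : ∀ k : K, (k : Matrix (Fin 5) (Fin 5) F).det = Algebra.norm F k := by
    intro k
    rw [Algebra.norm_apply, ← LinearMap.det_conj (Algebra.lmul F K k) (evalFive hK hv), ← LinearMap.det_toLin']
    congr 1
    refine LinearMap.ext fun w => ?_
    obtain ⟨x, rfl⟩ := (evalFive hK hv).surjective w
    simp only [LinearMap.comp_apply, LinearEquiv.coe_coe]
    rw [LinearEquiv.symm_apply_apply, Matrix.toLin'_apply, evalFive_apply, evalFive_apply]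
    show (k : Matrix (Fin 5) (Fin 5) F) *ᵥ ((x : Matrix (Fin 5) (Fin 5) F) *ᵥ Pi.single 0 1) =
      ((k * x : K) : Matrix (Fin 5) (Fin 5) F) *ᵥ Pi.single 0 1
    rw [Matrix.mulVec_mulVec]
    rfl
  set N : Kˣ →* Fˣ := Units.map (Algebra.norm F) with hN
  have hequiv : Nat.card (singerGroup hK) = Nat.card N.ker := by
    refine Nat.card_congr ?_
    refine Equiv.ofBijective (fun g => ⟨Units.mk0 (⟨g.1, g.2.2⟩ : K)
      (fun h0 => g.1.isUnit.ne_zero (congrArg Subtype.val h0)), ?_⟩) ⟨?_, ?_⟩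
    · rw [MonoidHom.mem_ker]
      refine Units.ext ?_
      show Algebra.norm F (⟨g.1, g.2.2⟩ : K) = 1
      rw [← hdet]
      have h2 : Matrix.GeneralLinearGroup.det g.1 = 1 := MonoidHom.mem_ker.1 g.2.1
      have h3 := congrArg Units.val h2
      rw [Matrix.GeneralLinearGroup.val_det_apply, Units.val_one] at h3
      exact h3
    · intro a b hab
      exact Subtype.ext (Units.ext (congrArg (fun u : N.ker => ((u.1 : K) : Matrix (Fin 5) (Fin 5) F)) hab :))
    · rintro ⟨u, hu⟩
      let g : GL (Fin 5) F := Units.map (K.val : K →* Matrix (Fin 5) (Fin 5) F) u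
      have hgv : (g : Matrix (Fin 5) (Fin 5) F) = ((u : K) : Matrix (Fin 5) (Fin 5) F) := rfl
      refine ⟨⟨g, ?_, hgv ▸ (u : K).2⟩, Subtype.ext (Units.ext (Subtype.ext hgv))⟩
      show Matrix.GeneralLinearGroup.det g = 1
      refine Units.ext ?_
      rw [Matrix.GeneralLinearGroup.val_det_apply]
      show ((u : K) : Matrix (Fin 5) (Fin 5) F).det = 1
      rw [hdet]
      exact congrArg Units.val (MonoidHom.mem_ker.1 hu)
  rw [hequiv]
  have h1 := Subgroup.card_mul_index N.ker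
  rw [Subgroup.index_ker, MonoidHom.range_eq_top.2 (FiniteField.unitsMap_norm_surjective F K),
    Subgroup.card_top, Nat.card_units, Nat.card_units, Module.natCard_eq_pow_finrank (K := F) (V := K),
    hK.finrank_eq, Nat.card_eq_fintype_card (α := F)] at h1
  have hq : 2 ≤ Fintype.card F := Fintype.one_lt_card
  refine Nat.eq_of_mul_eq_mul_right (show 0 < Fintype.card F - 1 by omega) (h1.trans ?_)
  have h5 : 1 ≤ Fintype.card F ^ 5 := Nat.one_le_pow _ _ (by omega)
  zify [h5, show 1 ≤ Fintype.card F by omega]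
  simp only [mFive]
  push_cast
  ring

theorem exists_nonscalar_five (hK : IsFieldSubalgebra 5 K) :
    ∃ g ∈ singerGroup hK, ∀ c : F, (g : Matrix (Fin 5) (Fin 5) F) ≠ c • 1 := by
  classical
  by_contra hcon
  push Not at hcon
  have hq : 2 ≤ Fintype.card F := Fintype.one_lt_card
  choose c hc using fun g : singerGroup hK => hcon g.1 g.2
  have hroot : ∀ g : singerGroup hK, c g ∈ (Polynomial.nthRoots 5 (1 : F)).toFinset := by
    intro g
    rw [Multiset.mem_toFinset, Polynomial.mem_nthRoots (by norm_num : 0 < 5)]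
    have h1 := congrArg Units.val (MonoidHom.mem_ker.1 g.2.1)
    rw [Matrix.GeneralLinearGroup.val_det_apply, hc g, Matrix.det_smul, Matrix.det_one, mul_one,
      Fintype.card_fin] at h1
    exact h1
  have hle : Nat.card (singerGroup hK) ≤ 5 := by
    have h1 : Nat.card (singerGroup hK) ≤ Nat.card (Polynomial.nthRoots 5 (1 : F)).toFinset :=
      Nat.card_le_card_of_injective (fun g => (⟨c g, hroot g⟩ : (Polynomial.nthRoots 5 (1 : F)).toFinset))
        fun g g' h => Subtype.ext (Units.ext (by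
          have h' : c g = c g' := congrArg Subtype.val h
          rw [hc g, hc g', h']))
    rw [Nat.card_eq_fintype_card (α := (Polynomial.nthRoots 5 (1 : F)).toFinset), Fintype.card_coe] at h1
    exact h1.trans ((Multiset.toFinset_card_le _).trans (Polynomial.card_nthRoots 5 1))
  rw [card_singerGroup hK, mFive] at hle
  nlinarith [Nat.pow_le_pow_left hq 4]

theorem det_shiftMat_five : (H99.shiftMat F 5).det = 1 := by
  have h : H99.shiftMat F 5 = Equiv.Perm.permMatrix F (finRotate 5).symm := by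
    ext i j
    simp [H99.shiftMat, Equiv.Perm.permMatrix, PEquiv.toMatrix_apply, sub_eq_iff_eq_add]
  rw [h, Matrix.det_permutation, Equiv.Perm.sign_symm, sign_finRotate]
  norm_num

/-- The Frobenius map of the field as an element of determinant one. -/
theorem exists_frobenius_five (hK : IsFieldSubalgebra 5 K) :
    ∃ f : GL (Fin 5) F, f ∈ specialLinear (Fin 5) F ∧ f ^ 5 = 1 ∧ f ∈ subalgebraNormalizer K ∧
      (∃ v₀ : Fin 5 → F, v₀ ≠ 0 ∧ (f : Matrix (Fin 5) (Fin 5) F) *ᵥ v₀ = v₀) ∧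
      ∃ k ∈ K, (f : Matrix (Fin 5) (Fin 5) F) * k ≠ k * (f : Matrix (Fin 5) (Fin 5) F) := by
  classical
  letI : Field K := (isField_five hK).toField
  haveI : FiniteDimensional F K := Module.finite_of_finrank_pos (by rw [hK.finrank_eq]; norm_num)
  haveI : Finite K := Module.finite_of_finite F
  set α := FiniteField.frobeniusAlgEquivOfAlgebraic F K with hα
  have hord : orderOf α = 5 := by rw [FiniteField.orderOf_frobeniusAlgEquivOfAlgebraic, hK.finrank_eq]
  obtain ⟨g, hg, hgpow, v₀, hv₀, hfix⟩ := H99.exists_semilinear K.val α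
  obtain ⟨v, hv⟩ := H99.exists_cyclicVec_semilinear hK.finrank_eq K.val hg hv₀ hfix
  have hg5 : g ^ 5 = 1 := hgpow 5 (orderOf_dvd_iff_pow_eq_one.1 (dvd_of_eq hord))
  refine ⟨g, ?_, hg5, ?_, ⟨v₀, hv₀, hfix⟩, ?_⟩
  · show Matrix.GeneralLinearGroup.det g = 1
    refine Units.ext ?_
    rw [Matrix.GeneralLinearGroup.val_det_apply]
    obtain ⟨B, hB, hxB⟩ := H99.exists_basis_matrix
      (show (g : Matrix (Fin 5) (Fin 5) F) ^ 5 = 1 by rw [← Units.val_pow_eq_pow_val, hg5, Units.val_one]) hv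
    have := congrArg Matrix.det hxB
    rw [Matrix.det_mul, Matrix.det_mul, det_shiftMat_five, mul_one] at this
    exact (mul_eq_right₀ hB).1 this
  · refine mem_normalizer_five fun k hk => ?_
    have h1 := hg ⟨k, hk⟩
    rw [show K.val ⟨k, hk⟩ = k from rfl] at h1
    rw [h1, mul_assoc, ← Units.val_mul, mul_inv_cancel, Units.val_one, mul_one]
    exact (α ⟨k, hk⟩).2
  · by_contra hc
    push Not at hc
    have hall : α = 1 := AlgEquiv.ext fun k => by
      have h1 := (hg k).symm.trans (hc k.1 k.2)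
      exact Subtype.ext (show (α k : Matrix (Fin 5) (Fin 5) F) = k from (Units.mul_left_inj g).1 h1)
    rw [hall, orderOf_one] at hord
    norm_num at hord

/-- The only elements of the field fixed by the Frobenius map are scalars. -/
theorem scalar_of_commute_five (hK : IsFieldSubalgebra 5 K) {f : GL (Fin 5) F}
    (hf : ∃ k ∈ K, (f : Matrix (Fin 5) (Fin 5) F) * k ≠ k * (f : Matrix (Fin 5) (Fin 5) F))
    {a : Matrix (Fin 5) (Fin 5) F} (ha : a ∈ K)
    (h : (f : Matrix (Fin 5) (Fin 5) F) * a = a * (f : Matrix (Fin 5) (Fin 5) F)) :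
    ∃ c : F, a = c • 1 := by
  by_contra hns
  push Not at hns
  obtain ⟨k, hk, hne⟩ := hf
  rw [← adjoin_eq_five hK ha hns] at hk
  exact hne (Algebra.commute_of_mem_adjoin_singleton_of_commute hk
    (h : Commute (f : Matrix (Fin 5) (Fin 5) F) a))

/-- Conjugation on the field. -/
noncomputable def conjAut (g : GL (Fin 5) F) (hg : g ∈ subalgebraNormalizer K) : K ≃ₐ[F] K :=
  AlgEquiv.ofBijective
    { toFun := fun k => ⟨(g : Matrix (Fin 5) (Fin 5) F) * k.1 * ((g⁻¹ : GL (Fin 5) F) : Matrix (Fin 5) (Fin 5) F),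
        (hg k.1).1 k.2⟩
      map_one' := Subtype.ext (by simp)
      map_mul' := fun x y => Subtype.ext (by
        show (g : Matrix (Fin 5) (Fin 5) F) * (x.1 * y.1) * ((g⁻¹ : GL (Fin 5) F) : Matrix (Fin 5) (Fin 5) F) = _
        simp [mul_assoc])
      map_zero' := Subtype.ext (by simp)
      map_add' := fun x y => Subtype.ext (by simp [mul_add, add_mul])
      commutes' := fun c => Subtype.ext (by
        show (g : Matrix (Fin 5) (Fin 5) F) * algebraMap F _ c * ((g⁻¹ : GL (Fin 5) F) : Matrix (Fin 5) (Fin 5) F) = _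
        rw [← Algebra.commutes c, mul_assoc, ← Units.val_mul, mul_inv_cancel, Units.val_one, mul_one]
        rfl) }
    ⟨fun x y h => Subtype.ext ((Units.mul_right_inj g).1 ((Units.mul_left_inj g⁻¹).1 (congrArg Subtype.val h :))),
      fun x => ⟨⟨((g⁻¹ : GL (Fin 5) F) : Matrix (Fin 5) (Fin 5) F) * x.1 * (g : Matrix (Fin 5) (Fin 5) F),
        (hg _).2 (by simp [mul_assoc, x.2])⟩, Subtype.ext (by
          show (g : Matrix (Fin 5) (Fin 5) F) * _ * ((g⁻¹ : GL (Fin 5) F) : Matrix (Fin 5) (Fin 5) F) = x.1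
          simp [mul_assoc])⟩⟩

theorem coe_conjAut (g : GL (Fin 5) F) (hg : g ∈ subalgebraNormalizer K) (k : K) :
    ((conjAut g hg k : K) : Matrix (Fin 5) (Fin 5) F) =
      (g : Matrix (Fin 5) (Fin 5) F) * k.1 * ((g⁻¹ : GL (Fin 5) F) : Matrix (Fin 5) (Fin 5) F) := rfl

/-- The normaliser is the field extended by the Frobenius map. -/
theorem normalizer_five (hK : IsFieldSubalgebra 5 K) {f : GL (Fin 5) F}
    (hfN : f ∈ subalgebraNormalizer K) (hf5 : f ^ 5 = 1)
    (hf : ∃ k ∈ K, (f : Matrix (Fin 5) (Fin 5) F) * k ≠ k * (f : Matrix (Fin 5) (Fin 5) F))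
    {g : GL (Fin 5) F} (hg : g ∈ subalgebraNormalizer K) :
    ∃ i : ℕ, ((g * f ^ i : GL (Fin 5) F) : Matrix (Fin 5) (Fin 5) F) ∈ K := by
  classical
  letI : Field K := (isField_five hK).toField
  haveI : FiniteDimensional F K := Module.finite_of_finrank_pos (by rw [hK.finrank_eq]; norm_num)
  let Ψ : subalgebraNormalizer K →* (K ≃ₐ[F] K) :=
    { toFun := fun u => conjAut u.1 u.2
      map_one' := AlgEquiv.ext fun k => Subtype.ext (by simp [coe_conjAut])
      map_mul' := fun u w => AlgEquiv.ext fun k => Subtype.ext (by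
        simp [coe_conjAut, mul_assoc]) }
  set σ := Ψ ⟨f, hfN⟩ with hσ
  have hσ1 : σ ≠ 1 := by
    intro h1
    obtain ⟨k, hk, hne⟩ := hf
    refine hne ?_
    have h2 := congrArg Subtype.val (AlgEquiv.congr_fun h1 ⟨k, hk⟩)
    rw [hσ] at h2
    change (f : Matrix (Fin 5) (Fin 5) F) * k * ((f⁻¹ : GL (Fin 5) F) : Matrix (Fin 5) (Fin 5) F) = k at h2
    conv_rhs => rw [← h2]
    rw [mul_assoc, ← Units.val_mul, inv_mul_cancel, Units.val_one, mul_one]
  haveI : Fact (Nat.Prime 5) := ⟨by norm_num⟩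
  have hord : orderOf σ = 5 := orderOf_eq_prime (by
    rw [hσ, ← map_pow]
    have : (⟨f, hfN⟩ : subalgebraNormalizer K) ^ 5 = 1 := Subtype.ext (by simpa using hf5)
    rw [this, map_one]) hσ1
  have htop : Subgroup.zpowers σ = ⊤ := by
    refine Subgroup.eq_top_of_le_card _ ?_
    rw [Nat.card_zpowers, hord, Nat.card_eq_fintype_card]
    exact AlgEquiv.card_le.trans hK.finrank_eq.le
  obtain ⟨j, hj⟩ := (IsOfFinOrder.mem_powers_iff_mem_zpowers (isOfFinOrder_of_finite σ)).2
    (htop ▸ Subgroup.mem_top (Ψ ⟨g, hg⟩))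
  refine ⟨5 * j - j, mem_of_commute_five hK fun k hk => ?_⟩
  have h1 : Ψ (⟨g, hg⟩ * ⟨f, hfN⟩ ^ (5 * j - j)) = 1 := by
    rw [map_mul, map_pow, ← hσ, show Ψ ⟨g, hg⟩ = σ ^ j from hj.symm, ← pow_add,
      show j + (5 * j - j) = 5 * j by omega, pow_mul, orderOf_dvd_iff_pow_eq_one.1 (dvd_of_eq hord), one_pow]
  have h2 := congrArg Subtype.val (AlgEquiv.congr_fun h1 ⟨k, hk⟩)
  change ((g * f ^ (5 * j - j) : GL (Fin 5) F) : Matrix (Fin 5) (Fin 5) F) * k *
    (((g * f ^ (5 * j - j))⁻¹ : GL (Fin 5) F) : Matrix (Fin 5) (Fin 5) F) = k at h2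
  conv_rhs => rw [← h2]
  rw [mul_assoc, ← Units.val_mul, inv_mul_cancel, Units.val_one, mul_one]

end Cfsg.Agent.H26.SingerMax
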