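import Cfsg.Agent.H26.SingerMax.NormFive

/-!
A doubly transitive linear group in dimension five contains a transvection.
-/

set_option autoImplicit false
set_option linter.unusedSectionVars false
set_option linter.style.haveILetI false
set_option linter.style.longLine false

namespace Cfsg.Agent.H26.SingerMax

open Module

section Plane

variable {F W : Type*} [Field F] [AddCommGroup W] [Module F W]

theorem mul_comm_of_affine {a b : Module.End F W} {α β : F} (h : b = α • 1 + β • a) : b * a = a * b := by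
  subst h
  simp [add_mul, mul_add]

/-- In dimension two the centraliser of a non-scalar map is spanned by one and the map. -/
theorem centralizer_plane (hW : finrank F W = 2) {a b : Module.End F W} (ha : ∀ c : F, a ≠ c • 1)
    (hab : b * a = a * b) : ∃ α β : F, b = α • 1 + β • a := by
  classical
  haveI : FiniteDimensional F W := FiniteDimensional.of_finrank_eq_succ hW
  obtain ⟨l, hl⟩ : ∃ l, LinearIndependent F ![l, a l] := by
    by_contra hcon
    push Not at hcon
    have heig : ∀ l : W, l ≠ 0 → ∃ c : F, a l = c • l := by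
      intro l hl
      have := hcon l
      rw [LinearIndependent.pair_iff' hl] at this
      push Not at this
      obtain ⟨c, hc⟩ := this
      exact ⟨c, hc.symm⟩
    let B := Module.finBasisOfFinrankEq F W hW
    obtain ⟨c, hc⟩ := heig (B 0) (B.ne_zero 0)
    obtain ⟨d, hd⟩ := heig (B 1) (B.ne_zero 1)
    have hne : B 0 + B 1 ≠ 0 := fun h0 => by
      have := congrArg (fun v => B.repr v 0) h0
      simp at this
    obtain ⟨e, he⟩ := heig _ hne
    rw [map_add, hc, hd, smul_add] at he
    have h0 := congrArg (fun v => B.repr v 0) he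
    have h1 := congrArg (fun v => B.repr v 1) he
    simp at h0 h1
    refine ha c (B.ext fun i => ?_)
    fin_cases i
    · simpa using hc
    · simpa [h1, h0] using hd
  let B : Basis (Fin 2) F W := basisOfLinearIndependentOfCardEqFinrank hl (by simp [hW])
  obtain ⟨α, β, hb⟩ : ∃ α β : F, b l = α • l + β • a l := by
    refine ⟨B.repr (b l) 0, B.repr (b l) 1, ?_⟩
    conv_lhs => rw [← B.sum_repr (b l)]
    simp [Fin.sum_univ_two, B]
  refine ⟨α, β, B.ext fun i => ?_⟩
  fin_cases i
  · simpa [B] using hb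
  · have h1 : b (a l) = a (b l) := LinearMap.congr_fun hab l
    rw [hb, map_add, map_smul, map_smul] at h1
    simpa [B] using h1

/-- Over the field of three elements, a map of order prime to three commuting with all of its
conjugates under a map of order three is scalar. -/
theorem scalar_of_commute_conj [Finite F] (hq : Nat.card F = 3) (hW : finrank F W = 2)
    {a t s : Module.End F W} (hts : t * s = 1) (hst : s * t = 1) (ht3 : t ^ 3 = 1) (ht1 : t ≠ 1)
    (hcomm : (t * a * s) * a = a * (t * a * s))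
    {k : ℕ} (hk : a ^ k = 1) (hk3 : Nat.Coprime k 3) : ∃ c : F, a = c • 1 := by
  by_contra hcon
  push Not at hcon
  haveI : FiniteDimensional F W := FiniteDimensional.of_finrank_eq_succ hW
  haveI : Nontrivial W := Module.nontrivial_of_finrank_pos (R := F) (by omega)
  haveI : Fintype F := Fintype.ofFinite F
  have hcard : Fintype.card F = 3 := by rwa [← Nat.card_eq_fintype_card]
  haveI : CharP F 3 := charP_of_card_eq_prime hcard
  have hpow3 : ∀ c : F, c ^ 3 = c := fun c => by simpa [hcard] using FiniteField.pow_card c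
  obtain ⟨α, β, hαβ⟩ := centralizer_plane hW hcon hcomm
  have hstep : ∀ u v : F, t * (u • 1 + v • a) * s = (u + v * α) • 1 + (v * β) • a := fun u v => by
    rw [mul_add, add_mul, mul_smul_comm, mul_smul_comm, smul_mul_assoc, smul_mul_assoc, mul_one, hts,
      hαβ, smul_add, smul_smul, smul_smul, ← add_assoc, ← add_smul]
  have h3 : t ^ 3 * a * s ^ 3 = a := by
    have : s ^ 3 = 1 := by
      have h := congrArg (· * s ^ 3) ht3
      simp only [one_mul] at h
      rw [← h, ← (show Commute t s from hts.trans hst.symm).mul_pow, hts, one_pow]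
    rw [ht3, this, one_mul, mul_one]
  have e3 : t ^ 3 * a * s ^ 3 = t * (t * (t * a * s) * s) * s := by
    simp only [pow_succ, pow_zero, one_mul]; noncomm_ring
  rw [e3, hαβ, hstep, hstep] at h3
  have hβ : β = 1 := by
    have hβ3 : β * β * β = 1 := by
      by_contra hne
      have h4 : ((β * β * β - 1)) • a = -(α + β * α + β * β * α) • (1 : Module.End F W) := by
        rw [sub_smul, one_smul, neg_smul, eq_neg_iff_add_eq_zero]
        nth_rewrite 2 [← h3]
        abel
      refine hcon ((β * β * β - 1)⁻¹ * -(α + β * α + β * β * α)) ?_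
      rw [← smul_smul, ← h4, smul_smul, inv_mul_cancel₀ (sub_ne_zero.2 hne), one_smul]
    rw [← hpow3 β]
    linear_combination hβ3
  have hα : α = 0 := by
    have htr := congrArg (LinearMap.trace F W) hαβ
    rw [LinearMap.trace_mul_comm, ← mul_assoc, hst, one_mul, map_add, map_smul, map_smul,
      LinearMap.trace_one, hW, hβ, one_smul] at htr
    simp only [smul_eq_mul, Nat.cast_ofNat] at htr
    have h20 : (2 : F) ≠ 0 := by
      intro h2
      have h30 : (3 : F) = 0 := by exact_mod_cast CharP.cast_eq_zero F 3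
      exact one_ne_zero (α := F) (by linear_combination h30 - h2)
    exact (mul_eq_zero.1 (show α * 2 = 0 by linear_combination -htr)).resolve_right h20
  rw [hα, hβ, zero_smul, zero_add, one_smul] at hαβ
  have hta : t * a = a * t := by
    have := congrArg (· * t) hαβ
    simpa [mul_assoc, hst] using this
  have htn : ∀ c : F, t ≠ c • 1 := by
    intro c hc
    refine ht1 ?_
    rw [hc, smul_pow, one_pow] at ht3
    have hc1 : c ^ 3 = 1 := by
      obtain ⟨w, hw⟩ := exists_ne (0 : W)
      have := LinearMap.congr_fun ht3 w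
      exact smul_left_injective F hw (by simpa using this)
    rw [hc, ← hpow3 c, hc1, one_smul]
  obtain ⟨γ, δ, hγδ⟩ := centralizer_plane hW htn hta.symm
  have ha3 : a ^ 3 = (γ ^ 3 + δ ^ 3) • 1 := by
    rw [hγδ]
    have hc1 : Commute (γ • (1 : Module.End F W)) (δ • t) := ((Commute.one_left t).smul_left γ).smul_right δ
    have h30 : (3 : Module.End F W) = 0 := by
      rw [show (3 : Module.End F W) = algebraMap F _ (3 : F) from (map_ofNat _ 3).symm,
        show (3 : F) = 0 by exact_mod_cast CharP.cast_eq_zero F 3, map_zero]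
    have hexp : ∀ u v : Module.End F W, Commute u v → (u + v) ^ 3 = u ^ 3 + v ^ 3 + 3 * (u * u * v + u * v * v) := by
      intro u v huv
      simp only [pow_succ, pow_zero, one_mul]
      have e : v * u = u * v := huv.eq.symm
      have e2 : v * u * u = u * u * v := by rw [e, mul_assoc, e, ← mul_assoc]
      have e3 : v * u * v = u * v * v := by rw [e]
      have e4 : v * v * u = u * v * v := by rw [mul_assoc, e, ← mul_assoc, e]
      have e5 : u * v * u = u * u * v := by rw [mul_assoc, e, ← mul_assoc]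
      calc (u + v) * (u + v) * (u + v)
          = u * u * u + u * u * v + u * v * u + u * v * v + v * u * u + v * u * v + v * v * u + v * v * v := by
            noncomm_ring
        _ = _ := by rw [e2, e3, e4, e5]; noncomm_ring
    rw [hexp _ _ hc1, h30, zero_mul, add_zero, smul_pow, smul_pow, ht3, one_pow, ← add_smul]
  obtain ⟨c, hc⟩ : ∃ c : F, a = c • 1 := by
    obtain ⟨i, -, hi⟩ := Nat.exists_mul_mod_eq_one_of_coprime (n := 3) (k := k) hk3.symm (by
      rcases Nat.lt_or_ge 1 k with h | h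
      · exact h
      · exfalso
        interval_cases k
        · exact absurd hk3 (by decide)
        · exact hcon 1 (by rw [one_smul]; simpa using hk))
    refine ⟨(γ ^ 3 + δ ^ 3) ^ i, ?_⟩
    have : a ^ (3 * i) = a := by
      conv_lhs => rw [← Nat.div_add_mod (3 * i) k, hi, pow_add, pow_mul, hk, one_pow, one_mul, pow_one]
    rw [← this, pow_mul, ha3, smul_pow, one_pow]
  exact hcon c hc

end Plane

variable {F V : Type*} [Field F] [AddCommGroup V] [Module F V] [Finite F] [Finite V]
  {G : Subgroup (V ≃ₗ[F] V)}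

/-- Unipotent elements on a plane. -/
theorem exists_hasTr_plane {L : Submodule F V} (hL2 : finrank F L = 2) {g : V ≃ₗ[F] V} (hg : g ∈ G)
    (hne : g ≠ 1) (hmov : ∀ v, g v - v ∈ L) (himg : ∀ v, ∃ l ∈ L, g v - v = g l - l) {p : ℕ} (hp : g ^ p = 1) [Fact p.Prime] [CharP F p] :
    ∃ (a : V) (φ : Dual F V), a ≠ 0 ∧ φ ≠ 0 ∧ HasTr G a φ := by
  classical
  set e : V →ₗ[F] V := (g : V →ₗ[F] V) - LinearMap.id with he
  have hev : ∀ v, e v = g v - v := fun v => rfl
  have hpow : ∀ v, (e ^ p) v = 0 := by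
    intro v
    have h1 : ((g : V →ₗ[F] V) : Module.End F V) ^ p = 1 := by
      have : ∀ k : ℕ, ((g : V →ₗ[F] V) : Module.End F V) ^ k = ((g ^ k : V ≃ₗ[F] V) : V →ₗ[F] V) := by
        intro k
        induction k with
        | zero => rfl
        | succ k ih => rw [pow_succ, ih, pow_succ]; rfl
      rw [this, hp]; rfl
    haveI : Nontrivial V := by
      obtain ⟨v, hv⟩ := not_forall.1 fun h => hne (LinearEquiv.ext h)
      exact nontrivial_of_ne _ _ hv
    haveI : CharP (Module.End F V) p :=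
      charP_of_injective_algebraMap (algebraMap F (Module.End F V)).injective p
    have h2 : (e : Module.End F V) ^ p = 0 := by
      rw [he, show (LinearMap.id : V →ₗ[F] V) = (1 : Module.End F V) from rfl]
      rw [sub_pow_char_of_commute p (Commute.one_right _), h1, one_pow, sub_self]
    rw [h2]; rfl
  obtain ⟨v, hvL, hv0, hev0⟩ : ∃ v ∈ L, v ≠ 0 ∧ e v = 0 := by
    by_contra hcon
    push Not at hcon
    obtain ⟨v, hv⟩ : ∃ v, e v ≠ 0 := by
      by_contra h
      push Not at h
      exact hne (LinearEquiv.ext fun v => sub_eq_zero.1 ((hev v).symm.trans (h v)))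
    have hk : ∀ k : ℕ, (e ^ (k + 1)) v ≠ 0 ∧ (e ^ (k + 1)) v ∈ L := by
      intro k
      induction k with
      | zero => rw [zero_add, pow_one]; exact ⟨hv, hev v ▸ hmov v⟩
      | succ k ih =>
        rw [pow_succ', Module.End.mul_apply]
        exact ⟨hcon _ ih.2 ih.1, hev _ ▸ hmov _⟩
    obtain ⟨k, hk'⟩ := Nat.exists_eq_add_of_le' (Fact.out : p.Prime).one_lt.le
    exact (hk k).1 (hk' ▸ hpow v)
  refine exists_hasTr hg hne (v := v) (fun w => ?_) (sub_eq_zero.1 ((hev v).symm.trans hev0))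
  obtain ⟨l₀, hl₀, hl₀e⟩ := SetLike.not_le_iff_exists.1 (show ¬ L ≤ F ∙ v from fun h => by
    have := Submodule.finrank_mono h
    rw [finrank_span_singleton hv0] at this
    omega)
  have hspan : (F ∙ v) ⊔ F ∙ l₀ = L := by
    refine Submodule.eq_of_le_of_finrank_eq (sup_le ((Submodule.span_singleton_le_iff_mem _ _).2 hvL)
      ((Submodule.span_singleton_le_iff_mem _ _).2 hl₀)) ?_
    rw [finrank_span_insert hl₀e, finrank_span_singleton hv0, hL2]
  have hdec : ∀ u ∈ L, ∃ c d : F, c • v + d • l₀ = u := by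
    intro u hu
    obtain ⟨a', ha', b', hb', hab⟩ := Submodule.mem_sup.1 (hspan.symm ▸ hu)
    obtain ⟨α, rfl⟩ := Submodule.mem_span_singleton.1 ha'
    obtain ⟨β, rfl⟩ := Submodule.mem_span_singleton.1 hb'
    exact ⟨α, β, hab⟩
  obtain ⟨α, β, hab⟩ := hdec _ (hev l₀ ▸ hmov l₀ : e l₀ ∈ L)
  have hk : ∀ k : ℕ, (e ^ (k + 1)) l₀ = β ^ k • (α • v + β • l₀) := by
    intro k
    induction k with
    | zero => rw [zero_add, pow_one, pow_zero, one_smul, hab]
    | succ k ih =>
      rw [pow_succ', Module.End.mul_apply, ih, map_smul, map_add, map_smul, map_smul, hev0, ← hab,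
        smul_zero, zero_add, smul_smul, ← pow_succ]
  have hβ : β = 0 := by
    obtain ⟨k, hk'⟩ := Nat.exists_eq_add_of_le' (Fact.out : p.Prime).one_lt.le
    have h0 := hk k
    rw [← hk', hpow] at h0
    by_contra hβ
    have h1 : α • v + β • l₀ = 0 := (smul_eq_zero.1 h0.symm).resolve_left (pow_ne_zero _ hβ)
    apply hl₀e
    refine Submodule.mem_span_singleton.2 ⟨-(α / β), ?_⟩
    have h2 : l₀ = β⁻¹ • (β • l₀) := by rw [smul_smul, inv_mul_cancel₀ hβ, one_smul]
    rw [h2, eq_neg_of_add_eq_zero_right h1, smul_neg, smul_smul, div_eq_inv_mul, neg_smul]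
  obtain ⟨l, hlL, hlw⟩ := himg w
  obtain ⟨c, d, rfl⟩ := hdec l hlL
  rw [hlw, ← hev, map_add, map_smul, map_smul, hev0, ← hab, hβ, zero_smul, add_zero, smul_zero,
    zero_add, smul_smul]
  exact Submodule.smul_mem _ _ (Submodule.mem_span_singleton_self v)

/-- Rank two elements of the kernel of a plane, moved by a noncommutative ring, give a transvection. -/
theorem exists_hasTr_ring {L : Submodule F V} (hL2 : finrank F L = 2) {R : Subring (Module.End F L)}
    (hnc : ∃ s ∈ R, ∃ s' ∈ R, s * s' ≠ s' * s) {h₀ : V →ₗ[F] L} (hh₀ : h₀ ≠ 0)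
    (hmem : ∀ s ∈ R, ∃ g ∈ G, ∀ v, g v = v + ((s (h₀ v) : L) : V)) (hL0 : ∀ l : L, h₀ l = 0) :
    ∃ (a : V) (φ : Dual F V), a ≠ 0 ∧ φ ≠ 0 ∧ HasTr G a φ := by
  classical
  have key : ∀ s ∈ R, ∀ u : L, s (h₀ (u : V)) = 0 := fun s _ u => by rw [hL0 u, map_zero]
  -- a map of rank one
  obtain ⟨s, hs, hne, u, hu⟩ : ∃ s ∈ R, s ∘ₗ h₀ ≠ 0 ∧ ∃ u : L, ∀ v, s (h₀ v) ∈ F ∙ u := by
    by_cases hr : LinearMap.range h₀ = ⊤
    · have hnd : ¬ ∀ a b : R, a * b = 0 → a = 0 ∨ b = 0 := by
        intro hdom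
        haveI : Nontrivial R := by
          obtain ⟨s, hs, s', hs', hne⟩ := hnc
          exact ⟨⟨s * s', R.mul_mem hs hs'⟩, ⟨s' * s, R.mul_mem hs' hs⟩, fun h => hne (congrArg Subtype.val h)⟩
        haveI : NoZeroDivisors R := ⟨fun {a b} h => hdom a b h⟩
        haveI : IsDomain R := NoZeroDivisors.to_isDomain R
        haveI : Finite (Module.End F L) := DFunLike.finite _
        obtain ⟨s, hs, s', hs', hne⟩ := hnc
        exact hne (congrArg Subtype.val ((Finite.isDomain_to_isField R).mul_comm ⟨s, hs⟩ ⟨s', hs'⟩))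
      push Not at hnd
      obtain ⟨⟨a, ha⟩, ⟨b, hb⟩, hab, ha0, hb0⟩ := hnd
      have hab' : a * b = 0 := congrArg Subtype.val hab
      have ha0' : a ≠ 0 := fun h => ha0 (Subtype.ext h)
      have hb0' : b ≠ 0 := fun h => hb0 (Subtype.ext h)
      refine ⟨b, hb, fun h => hb0' (LinearMap.ext fun l => ?_), ?_⟩
      · obtain ⟨v, rfl⟩ := (LinearMap.range_eq_top.1 hr) l
        exact LinearMap.congr_fun h v
      · have hle : LinearMap.range b ≤ LinearMap.ker a := by
          rintro _ ⟨l, rfl⟩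
          exact LinearMap.congr_fun hab' l
        have hlt : finrank F (LinearMap.ker a) < 2 := by
          have := Submodule.finrank_lt (s := LinearMap.ker a) fun h => ha0' (LinearMap.ker_eq_top.1 h)
          omega
        obtain ⟨l, hl⟩ : ∃ l, b l ≠ 0 := by
          by_contra h
          push Not at h
          exact hb0' (LinearMap.ext h)
        refine ⟨b l, fun v => ?_⟩
        have heq : F ∙ b l = LinearMap.ker a := by
          refine Submodule.eq_of_le_of_finrank_le ((Submodule.span_singleton_le_iff_mem _ _).2 (hle ⟨l, rfl⟩)) ?_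
          rw [finrank_span_singleton hl]
          omega
        rw [heq]
        exact hle ⟨_, rfl⟩
    · refine ⟨1, R.one_mem, fun h => hh₀ h, ?_⟩
      obtain ⟨v, hv⟩ : ∃ v, h₀ v ≠ 0 := by
        by_contra h
        push Not at h
        exact hh₀ (LinearMap.ext h)
      refine ⟨h₀ v, fun w => ?_⟩
      have hlt : finrank F (LinearMap.range h₀) < 2 := by
        have := Submodule.finrank_lt (s := LinearMap.range h₀) hr
        omega
      have heq : F ∙ h₀ v = LinearMap.range h₀ := by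
        refine Submodule.eq_of_le_of_finrank_le ((Submodule.span_singleton_le_iff_mem _ _).2 ⟨v, rfl⟩) ?_
        rw [finrank_span_singleton hv]
        omega
      rw [heq]
      exact ⟨w, rfl⟩
  obtain ⟨g, hg, hgv⟩ := hmem s hs
  refine exists_hasTr hg (fun h => hne (LinearMap.ext fun v => Subtype.ext ?_)) (v := (u : V))
    (fun w => ?_) ?_
  · have := hgv v
    rw [h] at this
    simpa using this
  · rw [hgv, add_sub_cancel_left]
    obtain ⟨c, hc⟩ := Submodule.mem_span_singleton.1 (hu w)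
    exact Submodule.mem_span_singleton.2 ⟨c, congrArg Subtype.val hc⟩
  · rw [hgv, key s hs u]
    simp

/-- The main lemma in dimension five. -/
theorem TwoTrans.exists_transvection_five (hS : HasScalars G) (hG : TwoTrans G)
    (hdim : finrank F V = 5) : ∃ (a : V) (φ : Dual F V), a ≠ 0 ∧ φ ≠ 0 ∧ HasTr G a φ := by
  classical
  haveI : Finite (V ≃ₗ[F] V) := DFunLike.finite _
  letI : Fintype F := Fintype.ofFinite F
  obtain ⟨L, U, N, hL, hU, hL2, hdis, hsup, hrU, hrL⟩ := hG.exists_norm_five hS hdim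
  haveI : Finite (L ≃ₗ[F] L) := DFunLike.finite _
  set ρU := (restrictHom G U).comp (Subgroup.inclusion hU)
  set ρL := (restrictHom G L).comp (Subgroup.inclusion hL)
  have hmemG : ∀ n : N, (n : V ≃ₗ[F] V) ∈ G := fun n => (hL n.2).1
  have hdecomp : ∀ v : V, ∃ l ∈ L, ∃ u ∈ U, v = l + u := fun v => by
    obtain ⟨l, hl, u, hu, h⟩ := Submodule.mem_sup.1 (show v ∈ L ⊔ U by rw [hsup]; trivial)
    exact ⟨l, hl, u, hu, h.symm⟩
  have hinj : ∀ n : N, ρU n = 1 → ρL n = 1 → n = 1 := by
    intro n h1 h2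
    refine Subtype.ext (LinearEquiv.ext fun v => ?_)
    obtain ⟨l, hl, u, hu, rfl⟩ := hdecomp v
    rw [map_add]
    exact congrArg₂ (· + ·) (congrArg Subtype.val (LinearEquiv.congr_fun h2 ⟨l, hl⟩))
      (congrArg Subtype.val (LinearEquiv.congr_fun h1 ⟨u, hu⟩))
  have hUfix : ∀ n : N, n ∈ ρU.ker → ∀ u ∈ U, (n : V ≃ₗ[F] V) u = u := fun n hn u hu =>
    congrArg Subtype.val (LinearEquiv.congr_fun (MonoidHom.mem_ker.1 hn) ⟨u, hu⟩)
  obtain ⟨p, hp⟩ := CharP.exists F
  obtain ⟨f, hpp, hf⟩ := FiniteField.card F p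
  haveI := Fact.mk hpp
  rw [← Nat.card_eq_fintype_card] at hf
  set q := Nat.card F with hq
  have hq1 : 2 ≤ q := Finite.one_lt_card
  have hcardN : Nat.card ρU.ker * Nat.card ρU.range = Nat.card N := by
    rw [← Subgroup.index_ker, Subgroup.card_mul_index]
  have hLN : Nat.card ρL.range ∣ Nat.card N := Subgroup.card_range_dvd ρL
  have hkey : q * (q ^ 2 - 1) ∣ Nat.card ρU.ker * (3 * (q ^ 3 - 1)) :=
    (hrL.trans hLN).trans (hcardN ▸ mul_dvd_mul_left _ hrU)
  by_cases hpA : p ∣ Nat.card ρU.ker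
  · obtain ⟨n, hn⟩ := exists_prime_orderOf_dvd_card' p hpA
    have hn1 : (n : N) ≠ 1 := fun h => by
      rw [show n = 1 from Subtype.ext h, orderOf_one] at hn
      exact hpp.one_lt.ne hn
    refine exists_hasTr_plane hL2 (hmemG n) (fun h => hn1 (Subtype.ext h)) (fun v => ?_) (fun v => ?_) (p := p) ?_
    · obtain ⟨l, hl, u, hu, rfl⟩ := hdecomp v
      rw [map_add, hUfix n n.2 u hu, add_sub_add_right_eq_sub]
      exact L.sub_mem (((hL (n : N).2).2 l).2 hl) hl
    · obtain ⟨l, hl, u, hu, rfl⟩ := hdecomp v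
      exact ⟨l, hl, by rw [map_add, hUfix n n.2 u hu, add_sub_add_right_eq_sub]⟩
    · have := congrArg (fun x : ρU.ker => ((x : N) : V ≃ₗ[F] V)) (hn ▸ pow_orderOf_eq_one n)
      simpa using this
  -- now `q = 3`
  have hpnd : ¬ p ∣ q ^ 3 - 1 := by
    intro h
    have h1 : p ∣ q ^ 3 := hf ▸ dvd_pow (dvd_pow_self p f.ne_zero) (by norm_num)
    have h2 := Nat.dvd_sub h1 h
    rw [Nat.sub_sub_self (Nat.one_le_pow _ _ (by omega))] at h2
    exact hpp.one_lt.ne' (Nat.dvd_one.1 h2)
  have hq3 : q = 3 := by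
    have hco : Nat.Coprime q (Nat.card ρU.ker * (q ^ 3 - 1)) := by
      rw [hf]
      exact Nat.Coprime.pow_left _ ((Nat.Prime.coprime_iff_not_dvd hpp).2 fun h =>
        (hpp.dvd_mul.1 h).elim hpA (hf ▸ hpnd))
    have h1 : q ∣ 3 := hco.dvd_of_dvd_mul_left (by
      rw [show Nat.card ρU.ker * (q ^ 3 - 1) * 3 = Nat.card ρU.ker * (3 * (q ^ 3 - 1)) by ring]
      exact (dvd_mul_right q _).trans hkey)
    rcases (Nat.dvd_prime Nat.prime_three).1 h1 with h | h <;> omega
  have hp3 : p = 3 := by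
    have : p ∣ 3 := hq3 ▸ hf ▸ dvd_pow_self p f.ne_zero
    exact (Nat.prime_dvd_prime_iff_eq hpp Nat.prime_three).1 this
  subst hp3
  rw [hq3] at hkey hrL
  norm_num at hkey
  have h4A : 4 ∣ Nat.card ρU.ker := by
    have h : 4 ∣ Nat.card ρU.ker * 78 := (show 4 ∣ 24 by norm_num).trans hkey
    rw [show Nat.card ρU.ker * 78 = 2 * (39 * Nat.card ρU.ker) by ring, show (4 : ℕ) = 2 * 2 from rfl,
      Nat.mul_dvd_mul_iff_left (by norm_num)] at h
    have h2 : 2 ∣ Nat.card ρU.ker := (Nat.Coprime.dvd_mul_left (by norm_num)).1 h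
    obtain ⟨m, hm⟩ := h2
    have h' : 4 ∣ 2 * m * 78 := hm ▸ ((show 4 ∣ 24 by norm_num).trans hkey)
    have h8 : 8 ∣ 2 * m * 78 := hm ▸ ((show 8 ∣ 24 by norm_num).trans hkey)
    omega
  -- the image of the kernel on the line
  set A := ρU.ker.map ρL with hA
  have hAcard : Nat.card A = Nat.card ρU.ker := by
    refine (Nat.card_congr (Equiv.ofBijective (fun n : ρU.ker => (⟨ρL n, ⟨n, n.2, rfl⟩⟩ : A)) ⟨?_, ?_⟩)).symm
    · intro n m h
      have h' : ρL (n : N) = ρL (m : N) := congrArg Subtype.val h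
      have h3 := hinj ((n : N) * (m : N)⁻¹) (by rw [map_mul, map_inv, MonoidHom.mem_ker.1 n.2, MonoidHom.mem_ker.1 m.2]; simp)
        (by rw [map_mul, map_inv, h', mul_inv_cancel])
      exact Subtype.ext (mul_inv_eq_one.1 h3)
    · rintro ⟨_, n, hn, rfl⟩
      exact ⟨⟨n, hn⟩, rfl⟩
  have h3A : ¬ 3 ∣ Nat.card A := hAcard ▸ hpA
  obtain ⟨t, ht⟩ := exists_prime_orderOf_dvd_card' (G := ρL.range) 3 ((dvd_mul_right 3 _).trans hrL)
  obtain ⟨tn, htn⟩ := t.2
  let toE : (L ≃ₗ[F] L) →* Module.End F L :=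
    { toFun := fun g => (g : L →ₗ[F] L), map_one' := rfl, map_mul' := fun _ _ => rfl }
  have htoE : Function.Injective toE := fun _ _ h => LinearEquiv.toLinearMap_injective h
  -- two non-commuting elements
  obtain ⟨a₁, ha₁, a₂, ha₂, ha12⟩ : ∃ a₁ ∈ A, ∃ a₂ ∈ A, a₁ * a₂ ≠ a₂ * a₁ := by
    by_contra hcon
    push Not at hcon
    have hsc : ∀ a : A, ∃ c : F, toE a = c • 1 := by
      intro a
      have hconj : (t : L ≃ₗ[F] L) * a * (t : L ≃ₗ[F] L)⁻¹ ∈ A := by
        obtain ⟨n, hn, hna⟩ := a.2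
        refine ⟨tn * n * tn⁻¹, (ρU.normal_ker).conj_mem n hn tn, ?_⟩
        rw [map_mul, map_mul, map_inv, hna, htn]
      refine scalar_of_commute_conj hq3 hL2 (t := toE t) (s := toE (t : L ≃ₗ[F] L)⁻¹) ?_ ?_ ?_ ?_ ?_
        (k := Nat.card A) ?_ ?_
      · rw [← map_mul, mul_inv_cancel, map_one]
      · rw [← map_mul, inv_mul_cancel, map_one]
      · rw [← map_pow, ← Subgroup.coe_pow, ← ht, pow_orderOf_eq_one, Subgroup.coe_one, map_one]
      · intro h
        have h1 : (t : L ≃ₗ[F] L) = 1 := htoE (h.trans (map_one toE).symm)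
        rw [show t = 1 from Subtype.ext h1, orderOf_one] at ht
        norm_num at ht
      · rw [← map_mul, ← map_mul, ← map_mul, ← map_mul, hcon _ hconj _ a.2]
      · rw [← map_pow, ← Subgroup.coe_pow, pow_card_eq_one', Subgroup.coe_one, map_one]
      · exact ((Nat.Prime.coprime_iff_not_dvd Nat.prime_three).2 h3A).symm
    choose c hc using hsc
    have hcne : ∀ a : A, c a ≠ 0 := by
      intro a h0
      haveI : Nontrivial L := Module.nontrivial_of_finrank_pos (R := F) (by omega)
      obtain ⟨w, hw⟩ := exists_ne (0 : L)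
      have := LinearMap.congr_fun (hc a) w
      rw [h0, zero_smul] at this
      exact hw (((a : L ≃ₗ[F] L)).map_eq_zero_iff.1 this)
    have hinjc : Function.Injective fun a : A => (Units.mk0 (c a) (hcne a)) := by
      intro a b h
      have h' : c a = c b := congrArg Units.val h
      exact Subtype.ext (htoE ((hc a).trans (h' ▸ (hc b).symm)))
    have h1 := Nat.card_le_card_of_injective _ hinjc
    rw [Nat.card_units, ← hq, hq3, hAcard] at h1
    have h2 := Nat.le_of_dvd Nat.card_pos h4A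
    omega
  -- a central involution
  obtain ⟨z, hzA, hz⟩ : ∃ z ∈ A, ∀ l : L, z l = -l := by
    have hdvd : Nat.card A ∣ 48 := by
      let b := Module.finBasisOfFinrankEq F L hL2
      let toM : (L ≃ₗ[F] L) →* Matrix.GeneralLinearGroup (Fin 2) F :=
        (Units.map (LinearMap.toMatrixAlgEquiv b).toMonoidHom).comp
          (LinearMap.GeneralLinearGroup.generalLinearEquiv F L).symm.toMonoidHom
      have htoM : Function.Injective toM := (Units.map_injective (LinearMap.toMatrixAlgEquiv b).injective).comp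
        (LinearMap.GeneralLinearGroup.generalLinearEquiv F L).symm.injective
      have h := Subgroup.card_dvd_of_injective (toM.comp A.subtype) (htoM.comp A.subtype_injective)
      rw [Matrix.card_GL_field] at h
      rw [← Nat.card_eq_fintype_card, ← hq, hq3] at h
      simpa [Fin.prod_univ_two] using h
    have h16 : Nat.card A ∣ 2 ^ 4 :=
      (((Nat.Prime.coprime_iff_not_dvd Nat.prime_three).2 h3A).symm).dvd_of_dvd_mul_left (m := 3) (by simpa using hdvd)
    obtain ⟨k, -, hk⟩ := (Nat.dvd_prime_pow Nat.prime_two).1 h16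
    have hP : IsPGroup 2 A := IsPGroup.of_card hk
    haveI : Nontrivial A := by
      rw [← Finite.one_lt_card_iff_nontrivial]
      have h2 := Nat.le_of_dvd Nat.card_pos h4A
      omega
    haveI := hP.center_nontrivial
    obtain ⟨⟨w, hwc⟩, hw1⟩ := exists_ne (1 : Subgroup.center A)
    have hcomm : ∀ a ∈ A, toE a * toE w = toE w * toE a := fun a ha => by
      rw [← map_mul, ← map_mul]
      exact congrArg toE (congrArg Subtype.val (Subgroup.mem_center_iff.1 hwc ⟨a, ha⟩))
    obtain ⟨c, hc⟩ : ∃ c : F, toE w = c • 1 := by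
      by_contra hns
      push Not at hns
      obtain ⟨α, β, h1⟩ := centralizer_plane hL2 hns (hcomm a₁ ha₁)
      obtain ⟨α', β', h2⟩ := centralizer_plane hL2 hns (hcomm a₂ ha₂)
      refine ha12 (htoE ?_)
      rw [map_mul, map_mul, h2]
      have c1 : Commute (toE a₁) (toE w) := hcomm a₁ ha₁
      exact ((Commute.one_right _).smul_right α').add_right (c1.smul_right β')
    refine ⟨w, w.2, fun l => ?_⟩
    have hwl : (w : L ≃ₗ[F] L) l = c • l := LinearMap.congr_fun hc l
    have hc1 : c ≠ 1 := by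
      rintro rfl
      refine hw1 (Subtype.ext (Subtype.ext (htoE ?_)))
      rw [hc, one_smul]; exact (map_one toE).symm
    have hc0 : c ≠ 0 := by
      rintro rfl
      haveI : Nontrivial L := Module.nontrivial_of_finrank_pos (R := F) (by omega)
      obtain ⟨v, hv⟩ := exists_ne (0 : L)
      have := LinearMap.congr_fun hc v
      rw [zero_smul] at this
      exact hv ((w : L ≃ₗ[F] L).map_eq_zero_iff.1 this)
    have hcu : c ^ 2 = 1 := by
      have h := FiniteField.pow_card_sub_one_eq_one c hc0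
      rwa [← Nat.card_eq_fintype_card, ← hq, hq3] at h
    rcases sq_eq_one_iff.1 hcu with h | h
    · exact absurd h hc1
    · rw [hwl, h, neg_one_smul]
  obtain ⟨zn, hznK, hznL⟩ := hzA
  set Z : V ≃ₗ[F] V := (zn : V ≃ₗ[F] V)
  have hZG : Z ∈ G := hmemG zn
  have hZU : ∀ u ∈ U, Z u = u := hUfix zn hznK
  have hZL : ∀ l ∈ L, Z l = -l := fun l hl => by
    have := congrArg Subtype.val (hz ⟨l, hl⟩)
    rw [← hznL] at this
    exact this
  have hZmov : ∀ v, Z v - v ∈ L := fun v => by
    obtain ⟨l, hl, u, hu, rfl⟩ := hdecomp v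
    rw [map_add, hZU u hu, add_sub_add_right_eq_sub, hZL l hl]
    exact L.sub_mem (L.neg_mem hl) hl
  have h20 : (2 : F) ≠ 0 := by
    intro h2
    have h30 : (3 : F) = 0 := by exact_mod_cast CharP.cast_eq_zero F 3
    exact one_ne_zero (α := F) (by linear_combination h30 - h2)
  have hZfix : ∀ v, Z v = v → v ∈ U := fun v hv => by
    obtain ⟨l, hl, u, hu, rfl⟩ := hdecomp v
    rw [map_add, hZU u hu, hZL l hl, add_left_inj, ← sub_eq_zero] at hv
    have : (2 : F) • l = 0 := by
      rw [two_smul, ← neg_eq_zero, ← hv]; abel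
    rw [(smul_eq_zero.1 this).resolve_left h20, zero_add]
    exact hu
  -- move the complement
  obtain ⟨x, hxL, hx⟩ := Submodule.exists_mem_ne_zero_of_ne_bot (p := L) (fun h => by
    rw [h, finrank_bot] at hL2; omega)
  obtain ⟨y, hyL, hyx⟩ := SetLike.not_le_iff_exists.1 (show ¬ L ≤ F ∙ x from fun h => by
    have := Submodule.finrank_mono h
    rw [finrank_span_singleton hx] at this
    omega)
  have hspanL : (F ∙ x) ⊔ F ∙ y = L := by
    refine Submodule.eq_of_le_of_finrank_eq (sup_le ((Submodule.span_singleton_le_iff_mem _ _).2 hxL)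
      ((Submodule.span_singleton_le_iff_mem _ _).2 hyL)) ?_
    rw [finrank_span_insert hyx, finrank_span_singleton hx, hL2]
  have hU3 : finrank F U = 3 := by
    have := Submodule.finrank_sup_add_finrank_inf_eq L U
    rw [hdis, hsup, finrank_bot, finrank_top, hdim, hL2] at this
    omega
  obtain ⟨u₀, hu₀, hu₀0⟩ := Submodule.exists_mem_ne_zero_of_ne_bot (p := U) (fun h => by
    rw [h, finrank_bot] at hU3; omega)
  obtain ⟨φ, hφy, hφk⟩ := Submodule.exists_dual_map_eq_bot_of_notMem
    (p := (F ∙ x) ⊔ U) (x := y) (fun h => by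
      obtain ⟨a, ha, b, hb, hab⟩ := Submodule.mem_sup.1 h
      have hbL : b ∈ L := by
        have : b = y - a := eq_sub_of_add_eq' hab
        exact this ▸ L.sub_mem hyL ((Submodule.span_singleton_le_iff_mem _ _).2 hxL ha)
      have hb0 : b = 0 := by
        have : b ∈ L ⊓ U := ⟨hbL, hb⟩
        rwa [hdis, Submodule.mem_bot] at this
      rw [hb0, add_zero] at hab
      exact hyx (hab ▸ ha)) inferInstance
  have hφ0 : ∀ w ∈ (F ∙ x) ⊔ U, φ w = 0 := fun w hw => by
    have : φ w ∈ ((F ∙ x) ⊔ U).map φ := ⟨w, hw, rfl⟩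
    rwa [hφk, Submodule.mem_bot] at this
  obtain ⟨ψ, hψu, hψk⟩ := Submodule.exists_dual_map_eq_bot_of_notMem (p := L) (x := u₀) (fun h => by
    have : u₀ ∈ L ⊓ U := ⟨h, hu₀⟩
    rw [hdis, Submodule.mem_bot] at this
    exact hu₀0 this) inferInstance
  have hψ0 : ∀ w ∈ L, ψ w = 0 := fun w hw => by
    have : ψ w ∈ L.map ψ := ⟨w, hw, rfl⟩
    rwa [hψk, Submodule.mem_bot] at this
  obtain ⟨g, hg, hgx, hgy, hgker⟩ := hG.move_pair hS (by omega) hx (φ := φ) (φ' := φ + ψ) (y := y)
    (hφ0 x (Submodule.mem_sup_left (Submodule.mem_span_singleton_self x))) hφy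
    (by rw [LinearMap.add_apply, hφ0 x (Submodule.mem_sup_left (Submodule.mem_span_singleton_self x)),
      hψ0 x hxL, add_zero])
    (by rw [LinearMap.add_apply, hψ0 y hyL, add_zero]; exact hφy)
  have hgL : ∀ v ∈ L, g v ∈ L := fun v hv => by
    rw [← hspanL] at hv ⊢
    exact map_mem_sup (fun w => map_mem_line hgx) (fun w => map_mem_line hgy) hv
  have hgLs : ∀ v ∈ L, g.symm v ∈ L := fun v hv => by
    rw [← hspanL] at hv ⊢
    exact map_mem_sup (fun w => map_mem_line (symm_mem_line hgx)) (fun w => map_mem_line (symm_mem_line hgy)) hv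
  set W := Z * (g * Z * g⁻¹) with hW
  have hWap : ∀ v, W v = Z (g (Z (g.symm v))) := fun v => rfl
  have hWG : W ∈ G := G.mul_mem hZG (G.mul_mem (G.mul_mem hg hZG) (G.inv_mem hg))
  have hWL : ∀ l ∈ L, W l = l := fun l hl => by
    rw [hWap, hZL _ (hgLs l hl), map_neg, g.apply_symm_apply, map_neg, hZL l hl, neg_neg]
  have hWmov : ∀ v, W v - v ∈ L := fun v => by
    have h1 : g (Z (g.symm v)) - v ∈ L := by
      have := hgL _ (hZmov (g.symm v))
      rwa [map_sub, g.apply_symm_apply] at this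
    have h2 := L.add_mem (hZmov (g (Z (g.symm v)))) h1
    rwa [sub_add_sub_cancel, ← hWap] at h2
  have hW1 : W ≠ 1 := by
    intro h
    have hgU : ∀ u ∈ U, g u ∈ U := fun u hu => by
      refine hZfix _ ?_
      have := LinearEquiv.congr_fun h (g u)
      rwa [hWap, g.symm_apply_apply, hZU u hu] at this
    obtain ⟨u₁, hu₁, hgu₁⟩ : ∃ u ∈ U, g u = u₀ := by
      haveI : Finite U := inferInstance
      have hbij := ((Set.toFinite (U : Set V)).injOn_iff_bijOn_of_mapsTo
        (show Set.MapsTo g (U : Set V) (U : Set V) from hgU)).1 g.injective.injOn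
      exact hbij.surjOn hu₀
    have h0 := (hgker u₁).2 (hφ0 u₁ (Submodule.mem_sup_right hu₁))
    rw [hgu₁, LinearMap.add_apply, hφ0 u₀ (Submodule.mem_sup_right hu₀), zero_add] at h0
    exact hψu h0
  let h₀ : V →ₗ[F] L := LinearMap.codRestrict L ((W : V →ₗ[F] V) - LinearMap.id) fun v => hWmov v
  have hh₀v : ∀ v, ((h₀ v : L) : V) = W v - v := fun v => rfl
  -- left multiplications which stay inside
  let T : Subring (Module.End F L) :=
    Subring.closure (toE '' (A : Set (L ≃ₗ[F] L)))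
  have hT : ∀ s ∈ T, ∃ g' ∈ G, ∀ v, g' v = v + ((s (h₀ v) : L) : V) := by
    let 𝒯 : Set (V →ₗ[F] L) := {h | (∀ l : L, h l = 0) ∧ ∃ g' ∈ G, ∀ v, g' v = v + ((h v : L) : V)}
    have hadd : ∀ h ∈ 𝒯, ∀ h' ∈ 𝒯, h + h' ∈ 𝒯 := by
      rintro h ⟨hk, g₁, hg₁, e₁⟩ h' ⟨hk', g₂, hg₂, e₂⟩
      refine ⟨fun l => by simp [hk, hk'], g₁ * g₂, G.mul_mem hg₁ hg₂, fun v => ?_⟩
      rw [LinearEquiv.mul_apply, e₂, e₁, map_add, hk]
      simp [add_assoc, add_comm, add_left_comm]
    have hneg : ∀ h ∈ 𝒯, -h ∈ 𝒯 := by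
      rintro h ⟨hk, g₁, hg₁, e₁⟩
      refine ⟨fun l => by simp [hk], g₁⁻¹, G.inv_mem hg₁, fun v => ?_⟩
      show g₁.symm v = _
      apply g₁.injective
      rw [g₁.apply_symm_apply, e₁, map_add]
      simp [hk]
    have hzero : (0 : V →ₗ[F] L) ∈ 𝒯 := ⟨fun l => rfl, 1, G.one_mem, fun v => by simp⟩
    have hmul : ∀ a ∈ A, ∀ h ∈ 𝒯, (toE a).comp h ∈ 𝒯 := by
      rintro _ ⟨n, hn, rfl⟩ h ⟨hk, g₁, hg₁, e₁⟩
      refine ⟨fun l => by simp [hk], (n : V ≃ₗ[F] V) * g₁ * (n : V ≃ₗ[F] V)⁻¹,
        G.mul_mem (G.mul_mem (hmemG n) hg₁) (G.inv_mem (hmemG n)), fun v => ?_⟩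
      show (n : V ≃ₗ[F] V) (g₁ ((n : V ≃ₗ[F] V).symm v)) = _
      rw [e₁, map_add, LinearEquiv.apply_symm_apply]
      have hdiff : (n : V ≃ₗ[F] V).symm v - v ∈ L := by
        set v' := (n : V ≃ₗ[F] V).symm v
        have hv' : (n : V ≃ₗ[F] V) v' = v := (n : V ≃ₗ[F] V).apply_symm_apply v
        obtain ⟨l, hl, u, hu, e⟩ := hdecomp v'
        rw [← hv', e, map_add, hUfix n hn u hu, add_sub_add_right_eq_sub]
        exact L.sub_mem hl (((hL n.2).2 l).2 hl)
      have hh : h ((n : V ≃ₗ[F] V).symm v) = h v := by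
        rw [← sub_eq_zero, ← map_sub]
        exact hk ⟨_, hdiff⟩
      rw [hh]
      rfl
    intro s hs
    have hstab : ∀ h ∈ 𝒯, s.comp h ∈ 𝒯 := by
      induction hs using Subring.closure_induction with
      | mem a ha => obtain ⟨a, ha, rfl⟩ := ha; exact hmul a ha
      | zero => exact fun h _ => by simpa using hzero
      | one => exact fun h hh => hh
      | add a b _ _ iha ihb => exact fun h hh => (LinearMap.add_comp h b a).symm ▸ hadd _ (iha h hh) _ (ihb h hh)
      | neg a _ iha => exact fun h hh => hneg _ (iha h hh)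
      | mul a b _ _ iha ihb => exact fun h hh => iha _ (ihb h hh)
    exact (hstab h₀ ⟨fun l => Subtype.ext (by rw [hh₀v, hWL l l.2, sub_self]; rfl),
      W, hWG, fun v => by rw [hh₀v, add_sub_cancel]⟩).2
  refine exists_hasTr_ring (R := T) hL2 ⟨toE a₁, Subring.subset_closure ⟨a₁, ha₁, rfl⟩, toE a₂,
    Subring.subset_closure ⟨a₂, ha₂, rfl⟩, fun h => ha12 (htoE (by rw [map_mul, map_mul, h]))⟩
    (h₀ := h₀) (fun h => hW1 (LinearEquiv.ext fun v => sub_eq_zero.1 ?_)) hT
    (fun l => Subtype.ext (by rw [hh₀v, hWL l l.2, sub_self]; rfl))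
  rw [show (1 : V ≃ₗ[F] V) v = v from rfl, ← hh₀v, h]
  rfl

end Cfsg.Agent.H26.SingerMax
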