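import Cfsg.Agent.H26.SingerMax.DivFive
import Mathlib

/-!
The action of the five dimensional linear group on points.
-/

set_option autoImplicit false
set_option linter.unusedSectionVars false
set_option linter.style.longLine false
set_option linter.style.haveILetI false

namespace Cfsg.Agent.H26.SingerMax

open scoped MatrixGroups Matrix LinearAlgebra.Projectivization
open Module MulAction

variable {F : Type*} [Field F]

/-- Invertible matrices as linear automorphisms. -/
noncomputable def glEquiv : GL (Fin 5) F ≃* ((Fin 5 → F) ≃ₗ[F] (Fin 5 → F)) :=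
  (Units.mapEquiv (Matrix.toLinAlgEquiv' (R := F) (n := Fin 5)).toMulEquiv).trans
    (LinearMap.GeneralLinearGroup.generalLinearEquiv F (Fin 5 → F))

theorem glEquiv_apply (g : GL (Fin 5) F) (v : Fin 5 → F) :
    glEquiv g v = (g : Matrix (Fin 5) (Fin 5) F) *ᵥ v := rfl

/-- The permutation of the points. -/
noncomputable def ptsHom : GL (Fin 5) F →* Equiv.Perm (ℙ F (Fin 5 → F)) :=
  (MulAction.toPermHom ((Fin 5 → F) ≃ₗ[F] (Fin 5 → F)) (ℙ F (Fin 5 → F))).comp glEquiv.toMonoidHom

theorem mulVec_ne_zero_gl (g : GL (Fin 5) F) {v : Fin 5 → F} (hv : v ≠ 0) :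
    (g : Matrix (Fin 5) (Fin 5) F) *ᵥ v ≠ 0 := fun h => hv (by
  rw [← glEquiv_apply] at h
  exact (glEquiv g).map_eq_zero_iff.1 h)

theorem ptsHom_mk (g : GL (Fin 5) F) (v : Fin 5 → F) (hv : v ≠ 0) :
    ptsHom g (Projectivization.mk F v hv) =
      Projectivization.mk F ((g : Matrix (Fin 5) (Fin 5) F) *ᵥ v) (mulVec_ne_zero_gl g hv) :=
  Projectivization.smul_mk (glEquiv g) hv

theorem ptsHom_fix_iff (g : GL (Fin 5) F) (v : Fin 5 → F) (hv : v ≠ 0) :
    ptsHom g (Projectivization.mk F v hv) = Projectivization.mk F v hv ↔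
      ∃ c : F, (g : Matrix (Fin 5) (Fin 5) F) *ᵥ v = c • v := by
  rw [ptsHom_mk, Projectivization.mk_eq_mk_iff']
  exact ⟨fun ⟨c, hc⟩ => ⟨c, hc.symm⟩, fun ⟨c, hc⟩ => ⟨c, hc.symm⟩⟩

theorem ptsHom_eq_one_iff (g : GL (Fin 5) F) :
    ptsHom g = 1 ↔ ∃ c : F, (g : Matrix (Fin 5) (Fin 5) F) = c • 1 := by
  constructor
  · intro h
    have h1 : ∀ v : Fin 5 → F, ¬ LinearIndependent F ![v, Matrix.toLin' (g : Matrix (Fin 5) (Fin 5) F) v] := by
      intro v hli
      have hv : v ≠ 0 := by simpa using hli.ne_zero 0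
      have h0 : ptsHom g (Projectivization.mk F v hv) = Projectivization.mk F v hv := by rw [h]; rfl
      obtain ⟨c, hc⟩ := (ptsHom_fix_iff g v hv).1 h0
      rw [LinearIndependent.pair_iff' hv] at hli
      exact hli c (by rw [Matrix.toLin'_apply, hc])
    obtain ⟨c, hc⟩ := LinearMap.exists_eq_smul_id_of_forall_notLinearIndependent h1
    exact ⟨c, Matrix.toLin'.injective (by rw [hc, map_smul, Matrix.toLin'_one]; rfl)⟩
  · rintro ⟨c, hc⟩
    refine Equiv.ext fun x => ?_
    induction x using Projectivization.ind with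
    | h v hv =>
      rw [Equiv.Perm.one_apply, ptsHom_fix_iff]
      exact ⟨c, by rw [hc, Matrix.smul_mulVec, Matrix.one_mulVec]⟩

/-- Six points in general position. -/
noncomputable def sixPts : List (ℙ F (Fin 5 → F)) :=
  Projectivization.mk F (fun _ => (1 : F)) (fun h => one_ne_zero (α := F) (congrFun h 0)) ::
    List.ofFn fun i : Fin 5 => Projectivization.mk F (Pi.single i (1 : F)) (fun h => one_ne_zero (α := F) (by simpa using congrFun h i))

theorem sixPts_length : (sixPts (F := F)).length = 6 := by simp [sixPts]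

theorem ptsHom_eq_one_of_fix_six (g : GL (Fin 5) F) (h : ∀ x ∈ sixPts, ptsHom g x = x) :
    ptsHom g = 1 := by
  rw [ptsHom_eq_one_iff]
  simp only [sixPts, List.forall_mem_cons, List.forall_mem_ofFn_iff] at h
  obtain ⟨l, hl⟩ := (ptsHom_fix_iff g (fun _ => (1 : F)) _).1 h.1
  refine ⟨l, ?_⟩
  choose c hc using fun i : Fin 5 => (ptsHom_fix_iff g (Pi.single i (1 : F)) _).1
    (h.2 i)
  have hentry : ∀ j i, (g : Matrix (Fin 5) (Fin 5) F) j i = if j = i then c i else 0 := fun j i => by
    have h1 := congrFun (hc i) j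
    simpa [Pi.single_apply] using h1
  have hcl : ∀ j, c j = l := fun j => by
    have h1 := congrFun hl j
    simpa [Matrix.mulVec, dotProduct, hentry] using h1
  ext j i
  rw [hentry, hcl]
  simp [Matrix.one_apply]

variable [Fintype F]

theorem card_points_five : Nat.card (ℙ F (Fin 5 → F)) = mFive (Fintype.card F) := by
  rw [Projectivization.card_of_finrank F (Fin 5 → F) (n := 5) (Module.finrank_fin_fun F),
    Nat.card_eq_fintype_card, mFive]
  simp [Finset.sum_range_succ]
  ring

theorem card_gl_five : Nat.card (GL (Fin 5) F) = glFive (Fintype.card F) := by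
  rw [Matrix.card_GL_field]
  generalize hq : Fintype.card F = q
  obtain ⟨k, rfl⟩ : ∃ k, q = k + 1 := ⟨q - 1, by have := Fintype.card_pos (α := F); omega⟩
  simp only [Fin.prod_univ_five, glFive, mFive]
  have e : ∀ i, i ≤ 5 → (k + 1) ^ i ≤ (k + 1) ^ 5 := fun i hi => Nat.pow_le_pow_right (by omega) hi
  simp only [Fin.val_zero, Fin.val_one, Fin.val_two, show ((3 : Fin 5) : ℕ) = 3 from rfl,
    show ((4 : Fin 5) : ℕ) = 4 from rfl, Nat.add_sub_cancel]
  zify [e 0 (by norm_num), e 1 (by norm_num), e 2 (by norm_num), e 3 (by norm_num), e 4 (by norm_num)]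
  ring

/-- A group with small orbits is small, given a base. -/
theorem card_le_of_small_orbits {Γ Ω : Type*} [Group Γ] [Finite Γ] [MulAction Γ Ω] [Finite Ω]
    (L : List Ω) : ∀ S : Subgroup Γ, (∀ s ∈ S, (∀ x ∈ L, s • x = x) → s = 1) →
    (∀ x : Ω, (orbit S x).ncard ≤ 5) →
    Nat.card S ≤ 5 ^ L.length ∧ Nat.card S ∣ 120 ^ L.length := by
  induction L with
  | nil =>
    intro S hfix _
    have : S = ⊥ := (Subgroup.eq_bot_iff_forall S).2 fun s hs => hfix s hs (by simp)
    simp [this]
  | cons x L ih =>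
    intro S hfix horb
    set T := S ⊓ stabilizer Γ x with hT
    have hTorb : ∀ y : Ω, (orbit T y).ncard ≤ 5 := fun y =>
      le_trans (Set.ncard_le_ncard (by
        rintro _ ⟨t, rfl⟩
        exact ⟨⟨t.1, t.2.1⟩, rfl⟩) (Set.toFinite _)) (horb y)
    obtain ⟨h1, h2⟩ := ih T (fun s hs hL => hfix s hs.1 (fun y hy => by
      rcases List.mem_cons.1 hy with rfl | hy
      · exact hs.2
      · exact hL y hy)) hTorb
    have hcard : Nat.card S = Nat.card T * (orbit S x).ncard := by
      rw [← Subgroup.card_mul_index (stabilizer S x), index_stabilizer]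
      congr 1
      exact Nat.card_congr ⟨fun a => ⟨a.1.1, a.1.2, a.2⟩, fun t => ⟨⟨t.1, t.2.1⟩, t.2.2⟩,
        fun _ => rfl, fun _ => rfl⟩
    have hpos : 0 < (orbit S x).ncard :=
      (Set.ncard_pos (Set.toFinite _)).2 ⟨x, mem_orbit_self x⟩
    have h5 := horb x
    rw [List.length_cons, pow_succ, pow_succ, hcard]
    refine ⟨Nat.mul_le_mul h1 h5, Nat.mul_dvd_mul h2 ?_⟩
    interval_cases hk : (orbit S x).ncard <;> norm_num

end Cfsg.Agent.H26.SingerMax
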