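import Cfsg.Agent.S0675
import Cfsg.Agent.H26.SingerMax.CharExc

/-!
Prime degree: a group with a non-normal regular subgroup of that order is two-transitive.
-/

set_option autoImplicit false
set_option linter.unusedSectionVars false
set_option linter.style.longLine false
set_option linter.style.haveILetI false

namespace Cfsg.Agent.H26.SingerMax

open MulAction

theorem twoTransitive_of_prime_degree {α : Type*} [Fintype α] [DecidableEq α]
    (Γ : Subgroup (Equiv.Perm α)) (A : Subgroup Γ) {p : ℕ} (hp : p.Prime)
    (hα : Nat.card α = p) (hA : Nat.card A = p) (hfree : ∀ a ∈ A, a ≠ 1 → ∀ x : α, a • x ≠ x)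
    (hnn : ¬ A.Normal) (hp2 : ¬ p * p ∣ Nat.card Γ) :
    ∀ x y x' y' : α, x ≠ y → x' ≠ y' → ∃ g : Γ, g • x = x' ∧ g • y = y' := by
  classical
  haveI : Fintype Γ := Fintype.ofFinite Γ
  have hAtrans : ∀ x y : α, ∃ a ∈ A, a • x = y := by
    intro x y
    have hinj : Function.Injective (fun a : A => (a : Γ) • x) := by
      intro a b hab
      by_contra hne
      refine hfree ((b : Γ)⁻¹ * a) (A.mul_mem (A.inv_mem b.2) a.2) (fun h0 => hne ?_) x ?_
      · exact Subtype.ext (inv_mul_eq_one.1 h0).symm
      · rw [mul_smul, inv_smul_eq_iff]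
        exact hab
    obtain ⟨a, ha⟩ := (Function.Injective.bijective_of_nat_card_le hinj (by rw [hA, hα])).2 y
    exact ⟨a, a.2, ha⟩
  haveI : IsPretransitive Γ α := ⟨fun x y => by
    obtain ⟨a, -, ha⟩ := hAtrans x y
    exact ⟨a, ha⟩⟩
  have hα' : (Fintype.card α).Prime := by rwa [← Nat.card_eq_fintype_card, hα]
  rcases S0675.result hα' Γ with hsol | h2
  · exfalso
    obtain ⟨x₀⟩ : Nonempty α := Fintype.card_pos_iff.1 hα'.pos
    -- the last nontrivial derived subgroup
    haveI : Nontrivial Γ := by
      by_contra hn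
      rw [not_nontrivial_iff_subsingleton] at hn
      refine hnn ⟨fun a ha g => ?_⟩
      rw [Subsingleton.elim (g * a * g⁻¹) a]
      exact ha
    obtain ⟨n, hn⟩ := hsol.solvable
    have hex : ∃ k, derivedSeries Γ k = ⊥ := ⟨n, hn⟩
    obtain ⟨k, hk⟩ : ∃ k, Nat.find hex = k + 1 := by
      refine ⟨Nat.find hex - 1, ?_⟩
      have : Nat.find hex ≠ 0 := fun h0 => by
        have := Nat.find_spec hex
        rw [h0, derivedSeries_zero] at this
        exact top_ne_bot this
      omega
    set D := derivedSeries Γ k with hD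
    have hDbot : D ≠ ⊥ := Nat.find_min hex (by omega)
    have hDcomm : ∀ a ∈ D, ∀ b ∈ D, a * b = b * a := by
      intro a ha b hb
      have h1 : derivedSeries Γ (k + 1) = ⊥ := hk ▸ Nat.find_spec hex
      rw [derivedSeries_succ, Subgroup.commutator_eq_bot_iff_le_centralizer] at h1
      exact (Subgroup.mem_centralizer_iff.1 (h1 hb) a ha)
    haveI hDn : D.Normal := derivedSeries_normal Γ k
    have horb : ∀ x : α, (orbit D x).ncard = p := by
      intro x
      have h1 := orbit_normal_dvd D x
      rw [orbit_eq_univ Γ x, Set.ncard_univ, hα] at h1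
      rcases (Nat.dvd_prime hp).1 h1 with h2 | h2
      · exfalso
        refine hDbot ((Subgroup.eq_bot_iff_forall D).2 fun s hs => Subtype.ext (Equiv.ext fun y => ?_))
        obtain ⟨g, hg⟩ := exists_smul_eq Γ x y
        obtain ⟨z, hz⟩ := Set.ncard_eq_one.1 h2
        have hfx : (g⁻¹ * s * g) • x = x := by
          have hm : g⁻¹ * s * g ∈ D := by simpa using hDn.conj_mem s hs g⁻¹
          have e1 : (g⁻¹ * s * g) • x ∈ orbit D x := ⟨⟨_, hm⟩, rfl⟩
          have e2 : x ∈ orbit D x := mem_orbit_self x
          rw [hz, Set.mem_singleton_iff] at e1 e2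
          exact e1.trans e2.symm
        show s • y = y
        rw [← hg]
        rw [mul_smul, mul_smul, inv_smul_eq_iff] at hfx
        exact hfx
      · exact h2
    have hDcard : Nat.card D = p := by
      have hstab : stabilizer D x₀ = ⊥ := by
        refine (Subgroup.eq_bot_iff_forall _).2 fun a ha => Subtype.ext (Subtype.ext (Equiv.ext fun y => ?_))
        have : orbit D x₀ = Set.univ :=
          Set.eq_of_subset_of_ncard_le (Set.subset_univ _) (by rw [Set.ncard_univ, hα, horb]) (Set.toFinite _)
        obtain ⟨b, hb⟩ : y ∈ orbit D x₀ := this ▸ Set.mem_univ y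
        show (a : Γ) • y = y
        rw [← hb]
        show (a : Γ) • (b : Γ) • x₀ = (b : Γ) • x₀
        rw [← mul_smul, hDcomm a a.2 b b.2, mul_smul]
        exact congrArg _ ha
      have h1 := Subgroup.card_mul_index (stabilizer D x₀)
      rw [index_stabilizer, horb, hstab, Subgroup.card_bot, one_mul] at h1
      exact h1.symm
    by_cases hle : A ≤ D
    · exact hnn (Subgroup.eq_of_le_of_card_ge hle (by rw [hDcard, hA]) ▸ hDn)
    · refine hp2 ?_
      have hinj : Function.Injective ((QuotientGroup.mk' D).comp A.subtype) := by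
        rw [injective_iff_map_eq_one]
        intro a ha
        rw [MonoidHom.comp_apply, QuotientGroup.mk'_apply, QuotientGroup.eq_one_iff] at ha
        by_contra hne
        haveI := Fact.mk hp
        refine hle fun b hb => ?_
        have hA' : (Subgroup.zpowers a : Subgroup A) = ⊤ := zpowers_eq_top_of_prime_card hA hne
        obtain ⟨i, hi⟩ := Subgroup.mem_zpowers_iff.1 (hA' ▸ Subgroup.mem_top (⟨b, hb⟩ : A))
        have : ((a : Γ) ^ i) = b := congrArg Subtype.val hi
        exact this ▸ D.zpow_mem ha i
      have h1 := Subgroup.card_dvd_of_injective _ hinj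
      rw [hA, ← Subgroup.index_eq_card] at h1
      have h2 := Subgroup.card_mul_index D
      rw [hDcard] at h2
      rw [← h2]
      exact Nat.mul_dvd_mul_left p h1
  · exact fun x y x' y' hxy hxy' => is_two_pretransitive_iff.1 h2 hxy hxy'

end Cfsg.Agent.H26.SingerMax
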