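import Cfsg.Agent.H26.SingerMax.CharFive
import Cfsg.Agent.H26.SingerMax.PrimeDegree
import Cfsg.Agent.H26.SingerMax.FieldFive
import Cfsg.Agent.H26.SingerMax.PointsFive

/-!
An overgroup of the Singer normaliser is two-transitive on points.
-/

set_option autoImplicit false
set_option linter.unusedSectionVars false
set_option linter.style.longLine false
set_option linter.style.haveILetI false

namespace Cfsg.Agent.H26.SingerMax

open scoped MatrixGroups Matrix LinearAlgebra.Projectivization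
open MulAction Cfsg.Geo

/-- The fixed points: a stable orbit contains one. -/
theorem SingerData.exists_fixed {Γ : Type*} [Group Γ] [Fintype Γ] {A : Subgroup Γ} {f : Γ}
    (h : SingerData A f) {Ω : Type*} [MulAction Γ Ω] (hst : ∀ x : Ω, ∃ a ∈ A, f • x = a • x)
    (x : Ω) : ∃ b ∈ A, f • b • x = b • x := by
  haveI : Fintype A := Fintype.ofFinite A
  obtain ⟨a, ha, hfa⟩ := hst x
  obtain ⟨b, hb⟩ := h.exists_comm_eq ⟨a⁻¹, A.inv_mem ha⟩
  refine ⟨b, b.2, ?_⟩
  have e : a = (f * b * f⁻¹)⁻¹ * b := by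
    have h1 : a⁻¹ = (b : Γ)⁻¹ * (f * b * f⁻¹) := congrArg Subtype.val hb
    rw [← inv_inv a, h1, mul_inv_rev, inv_inv]
  calc f • (b : Γ) • x = (f * b * f⁻¹) • f • x := by
        rw [← mul_smul, ← mul_smul, inv_mul_cancel_right]
    _ = (b : Γ) • x := by rw [hfa, e, ← mul_smul, mul_inv_cancel_left]

theorem card_eq_of_five {q : ℕ} {d c : ℕ} (hm : mFive q = d * c)
    (hd : d = 1 ∧ q % 5 ≠ 1 ∨ d = 5 ∧ q % 5 = 1) : ¬ 5 ∣ c := by
  rcases hd with ⟨rfl, h⟩ | ⟨rfl, h⟩
  · rw [one_mul] at hm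
    have key : ∀ x : ZMod 5, x ≠ 1 → x ^ 4 + x ^ 3 + x ^ 2 + x + 1 ≠ 0 := by decide
    intro h5
    rw [← hm, mFive, ← ZMod.natCast_eq_zero_iff] at h5
    push_cast at h5
    refine key (q : ZMod 5) (fun h1 => h ?_) h5
    rw [← Nat.cast_one, ZMod.natCast_eq_natCast_iff'] at h1
    exact h1
  · obtain ⟨i, rfl⟩ : ∃ i, q = 5 * i + 1 := ⟨q / 5, by omega⟩
    have hc : c = 125 * i ^ 4 + 125 * i ^ 3 + 50 * i ^ 2 + 10 * i + 1 := by
      have : 5 * c = 5 * (125 * i ^ 4 + 125 * i ^ 3 + 50 * i ^ 2 + 10 * i + 1) := by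
        rw [← hm, mFive]; ring
      omega
    omega

theorem small_group_excluded {q c N : ℕ} (hq : IsPrimePow q) (h5 : q % 5 = 1) (hm : mFive q = 5 * c)
    (hN5 : N ≤ 5 ^ 6) (hN : N ∣ 120 ^ 6) (hdiv : c ∣ N - 1) (hN0 : 0 < N) : N = 1 := by
  by_contra hne
  obtain ⟨i, rfl⟩ : ∃ i, q = 5 * i + 1 := ⟨q / 5, by omega⟩
  have hc : c = 125 * i ^ 4 + 125 * i ^ 3 + 50 * i ^ 2 + 10 * i + 1 := by
    have : 5 * c = 5 * (125 * i ^ 4 + 125 * i ^ 3 + 50 * i ^ 2 + 10 * i + 1) := by
      rw [← hm, mFive]; ring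
    omega
  obtain ⟨j, hj⟩ := hdiv
  have hj0 : 0 < j := Nat.pos_of_ne_zero fun h0 => by subst h0; omega
  have hNeq : N = c * j + 1 := by omega
  have hi4 : i < 4 := by
    by_contra hi
    push Not at hi
    have h1 : 125 * 4 ^ 4 ≤ 125 * i ^ 4 := Nat.mul_le_mul_left _ (Nat.pow_le_pow_left hi 4)
    have h2 : c ≤ c * j := Nat.le_mul_of_pos_right c hj0
    omega
  interval_cases i
  · exact not_isPrimePow_one hq
  · obtain ⟨p, k, hp, hk, hpk⟩ := (isPrimePow_nat_iff _).1 hq
    have hp6 : p ≤ 6 := by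
      rw [show 5 * 1 + 1 = 6 by rfl] at hpk
      exact hpk ▸ Nat.le_self_pow (by omega) p
    have hk3 : k < 3 := by
      by_contra hk3
      push Not at hk3
      have := Nat.pow_le_pow_right hp.one_lt.le hk3
      have := Nat.pow_le_pow_left hp.two_le 3
      omega
    interval_cases p <;> interval_cases k <;> first | omega | (norm_num at hp) | (norm_num at hpk)
  · norm_num at hc
    subst hc
    have hj4 : j ≤ 4 := by omega
    subst hNeq
    interval_cases j <;> norm_num at hN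
  · norm_num at hc
    subst hc
    have hj1 : j ≤ 1 := by omega
    subst hNeq
    interval_cases j
    norm_num at hN

variable {F : Type*} [Field F] [Fintype F] {K : Subalgebra F (Matrix (Fin 5) (Fin 5) F)}

theorem ptsHom_eq_iff (g g' : GL (Fin 5) F) :
    ptsHom g = ptsHom g' ↔
      ∃ c : F, (g : Matrix (Fin 5) (Fin 5) F) = c • (g' : Matrix (Fin 5) (Fin 5) F) := by
  rw [← inv_mul_eq_one, ← map_inv, ← map_mul, ptsHom_eq_one_iff]
  constructor
  · rintro ⟨c, hc⟩
    rcases eq_or_ne c 0 with rfl | hc0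
    · exact absurd (by rw [hc, zero_smul]) (g⁻¹ * g').isUnit.ne_zero
    refine ⟨c⁻¹, ?_⟩
    rw [Units.val_mul] at hc
    have h1 : (g' : Matrix (Fin 5) (Fin 5) F) = c • (g : Matrix (Fin 5) (Fin 5) F) := by
      have h2 := congrArg ((g : Matrix (Fin 5) (Fin 5) F) * ·) hc
      simpa [← mul_assoc] using h2
    rw [h1, smul_smul, inv_mul_cancel₀ hc0, one_smul]
  · rintro ⟨c, hc⟩
    rcases eq_or_ne c 0 with rfl | hc0
    · exact absurd (by rw [hc, zero_smul]) g.isUnit.ne_zero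
    refine ⟨c⁻¹, ?_⟩
    have h1 : (g' : Matrix (Fin 5) (Fin 5) F) = c⁻¹ • (g : Matrix (Fin 5) (Fin 5) F) := by
      rw [hc, smul_smul, inv_mul_cancel₀ hc0, one_smul]
    rw [Units.val_mul, h1, Matrix.mul_smul, ← Units.val_mul, inv_mul_cancel, Units.val_one]

theorem eq_field_of_smul (hK : IsFieldSubalgebra 5 K) {g : GL (Fin 5) F} {k : GL (Fin 5) F}
    (hk : k ∈ singerGroup hK) (h : ptsHom g = ptsHom k) : (g : Matrix (Fin 5) (Fin 5) F) ∈ K := by
  obtain ⟨c, hc⟩ := (ptsHom_eq_iff g k).1 h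
  rw [hc]
  exact K.smul_mem hk.2 c

set_option maxHeartbeats 1000000 in
theorem two_transitive_five (hK : IsFieldSubalgebra 5 K) {M : Subgroup (GL (Fin 5) F)}
    (hNM : subalgebraNormalizer K ⊓ specialLinear (Fin 5) F ≤ M) (hMSL : M ≤ specialLinear (Fin 5) F)
    (hMN : ¬ M ≤ subalgebraNormalizer K) :
    ∀ x y x' y' : ℙ F (Fin 5 → F), x ≠ y → x' ≠ y' →
      ∃ g ∈ M, ptsHom g x = x' ∧ ptsHom g y = y' := by
  classical
  haveI : Fintype (ℙ F (Fin 5 → F)) := Fintype.ofFinite _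
  set C := singerGroup hK with hCdef
  have hCM : C ≤ M := (singerGroup_le hK).trans hNM
  obtain ⟨f, hfSL, hf5, hfN, ⟨v₀, hv₀, hfv₀⟩, hfne⟩ := exists_frobenius_five hK
  have hfM : f ∈ M := hNM ⟨hfN, hfSL⟩
  set Γ := M.map ptsHom with hΓ
  haveI : Fintype Γ := Fintype.ofFinite Γ
  let π : M →* Γ := ptsHom.subgroupMap M
  have hπsurj : Function.Surjective π := ptsHom.subgroupMap_surjective M
  have hsmul : ∀ (g : M) (x : ℙ F (Fin 5 → F)), π g • x = ptsHom (g : GL (Fin 5) F) x := fun g x => rfl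
  have hπ : ∀ g : M, ((π g : Γ) : Equiv.Perm (ℙ F (Fin 5 → F))) = ptsHom (g : GL (Fin 5) F) := fun g => rfl
  set A : Subgroup Γ := (C.map ptsHom).subgroupOf Γ with hAdef
  have hmemA : ∀ g : M, π g ∈ A ↔ ∃ k ∈ C, ptsHom (k : GL (Fin 5) F) = ptsHom (g : GL (Fin 5) F) := fun g => by
    rw [hAdef, Subgroup.mem_subgroupOf, hπ, Subgroup.mem_map]
  have hexA : ∀ a ∈ A, ∃ (k : GL (Fin 5) F) (hk : k ∈ C), a = π ⟨k, hCM hk⟩ := by
    intro a ha
    obtain ⟨k, hk, hka⟩ := Subgroup.mem_map.1 (Subgroup.mem_subgroupOf.1 ha)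
    exact ⟨k, hk, Subtype.ext hka.symm⟩
  have hAmem : ∀ (k : GL (Fin 5) F) (hk : k ∈ C), π ⟨k, hCM hk⟩ ∈ A := fun k hk =>
    (hmemA _).2 ⟨k, hk, rfl⟩
  -- the order
  have hCpow : ∀ g ∈ C, ptsHom g = 1 → g ^ 5 = 1 := by
    intro g hg h1
    obtain ⟨c, hc⟩ := (ptsHom_eq_one_iff g).1 h1
    have hc5 : c ^ 5 = 1 := by
      have h2 : Matrix.GeneralLinearGroup.det g = 1 := MonoidHom.mem_ker.1 hg.1
      have h3 := congrArg Units.val h2
      rw [Matrix.GeneralLinearGroup.val_det_apply, hc, Matrix.det_smul, Matrix.det_one, mul_one,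
        Fintype.card_fin, Units.val_one] at h3
      exact h3
    refine Units.ext ?_
    rw [Units.val_pow_eq_pow_val, hc, smul_pow, hc5, one_pow, one_smul, Units.val_one]
  set θ : C →* Equiv.Perm (ℙ F (Fin 5 → F)) := ptsHom.comp C.subtype with hθ
  set d := Nat.card θ.ker with hd
  set c := Nat.card A with hc
  have hmdc : mFive (Fintype.card F) = d * c := by
    have h1 := Subgroup.card_mul_index θ.ker
    rw [Subgroup.index_ker, card_singerGroup hK] at h1
    have h2 : Nat.card θ.range = c := by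
      rw [hc, hAdef, Nat.card_congr (Subgroup.subgroupOfEquivOfLe (Subgroup.map_mono hCM)).toEquiv]
      congr 2
      rw [hθ, MonoidHom.range_comp, Subgroup.range_subtype]
    rw [h2] at h1
    exact h1.symm
  have hd5 : d = 1 ∧ Fintype.card F % 5 ≠ 1 ∨ d = 5 ∧ Fintype.card F % 5 = 1 := by
    have hker5 : ∀ x : θ.ker, x ^ 5 = 1 := fun x =>
      Subtype.ext (Subtype.ext (hCpow _ x.1.2 x.2))
    haveI : Fact (Nat.Prime 5) := ⟨by norm_num⟩
    have hP : IsPGroup 5 θ.ker := fun x => ⟨1, by rw [pow_one]; exact hker5 x⟩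
    obtain ⟨n, hn⟩ := IsPGroup.iff_card.1 hP
    have hle : d ≤ 5 := by
      choose s hs using fun x : θ.ker => (ptsHom_eq_one_iff (x.1 : GL (Fin 5) F)).1 x.2
      have hroot : ∀ x, s x ∈ (Polynomial.nthRoots 5 (1 : F)).toFinset := by
        intro x
        rw [Multiset.mem_toFinset, Polynomial.mem_nthRoots (by norm_num : 0 < 5)]
        have h2 : Matrix.GeneralLinearGroup.det (x.1 : GL (Fin 5) F) = 1 := MonoidHom.mem_ker.1 x.1.2.1
        have h3 := congrArg Units.val h2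
        rw [Matrix.GeneralLinearGroup.val_det_apply, hs x, Matrix.det_smul, Matrix.det_one, mul_one,
          Fintype.card_fin, Units.val_one] at h3
        exact h3
      have h1 : d ≤ Nat.card (Polynomial.nthRoots 5 (1 : F)).toFinset :=
        Nat.card_le_card_of_injective (fun x => (⟨s x, hroot x⟩ : (Polynomial.nthRoots 5 (1 : F)).toFinset))
          fun x y hxy => by
            refine Subtype.ext (Subtype.ext (Units.ext ?_))
            rw [hs x, hs y, show s x = s y from congrArg Subtype.val hxy]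
      rw [Nat.card_eq_fintype_card (α := (Polynomial.nthRoots 5 (1 : F)).toFinset), Fintype.card_coe] at h1
      exact h1.trans ((Multiset.toFinset_card_le _).trans (Polynomial.card_nthRoots 5 1))
    have hd15 : d = 1 ∨ d = 5 := by
      rw [← hd] at hn
      rcases n with _ | _ | n
      · exact Or.inl (by simpa using hn)
      · exact Or.inr (by simpa using hn)
      · exfalso
        have : 5 ^ 2 ≤ 5 ^ (n + 2) := Nat.pow_le_pow_right (by norm_num) (by omega)
        rw [show n + 1 + 1 = n + 2 by rfl] at hn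
        omega
    rcases hd15 with h | h
    · refine Or.inl ⟨h, fun hq => ?_⟩
      have hdvd : 5 ∣ Nat.card Fˣ := by
        rw [Nat.card_units, Nat.card_eq_fintype_card]
        have : 0 < Fintype.card F := Fintype.card_pos
        omega
      obtain ⟨z, hz⟩ := exists_prime_orderOf_dvd_card' 5 hdvd
      have hz5 : z ^ 5 = 1 := orderOf_dvd_iff_pow_eq_one.1 (dvd_of_eq hz)
      let g : GL (Fin 5) F := Units.map (Matrix.scalar (Fin 5) : F →+* Matrix (Fin 5) (Fin 5) F).toMonoidHom z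
      have hgval : (g : Matrix (Fin 5) (Fin 5) F) = (z : F) • 1 := by
        simp [g, Matrix.smul_one_eq_diagonal]
      have hgC : g ∈ C := ⟨by
        show Matrix.GeneralLinearGroup.det g = 1
        refine Units.ext ?_
        rw [Matrix.GeneralLinearGroup.val_det_apply, hgval, Matrix.det_smul, Matrix.det_one, mul_one,
          Fintype.card_fin, ← Units.val_pow_eq_pow_val, hz5], hgval ▸ K.smul_mem K.one_mem _⟩
      have hgker : (⟨g, hgC⟩ : C) ∈ θ.ker := (ptsHom_eq_one_iff g).2 ⟨_, hgval⟩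
      have hbot : θ.ker = ⊥ := Subgroup.card_eq_one.1 h
      rw [hbot, Subgroup.mem_bot] at hgker
      have h1 : (g : Matrix (Fin 5) (Fin 5) F) = 1 := congrArg (fun x : C => ((x : GL (Fin 5) F) : Matrix (Fin 5) (Fin 5) F)) hgker
      rw [hgval] at h1
      have h2 : z = 1 := Units.ext (by simpa using congrFun (congrFun h1 0) 0)
      rw [h2, orderOf_one] at hz
      norm_num at hz
    · refine Or.inr ⟨h, ?_⟩
      have hex : 5 ∣ Nat.card θ.ker := by rw [← hd, h]
      obtain ⟨x, hx⟩ := exists_prime_orderOf_dvd_card' 5 hex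
      obtain ⟨s, hs⟩ := (ptsHom_eq_one_iff (x.1 : GL (Fin 5) F)).1 x.2
      have hs5 : s ^ 5 = 1 := by
        have h2 : Matrix.GeneralLinearGroup.det (x.1 : GL (Fin 5) F) = 1 := MonoidHom.mem_ker.1 x.1.2.1
        have h3 := congrArg Units.val h2
        rw [Matrix.GeneralLinearGroup.val_det_apply, hs, Matrix.det_smul, Matrix.det_one, mul_one,
          Fintype.card_fin, Units.val_one] at h3
        exact h3
      have hs1 : s ≠ 1 := fun h1 => by
        have : x = 1 := Subtype.ext (Subtype.ext (Units.ext (by rw [hs, h1, one_smul]; rfl)))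
        rw [this, orderOf_one] at hx
        norm_num at hx
      have hs0 : s ≠ 0 := fun h0 => by rw [h0] at hs5; norm_num at hs5
      have hord : orderOf (Units.mk0 s hs0) = 5 :=
        orderOf_eq_prime (Units.ext (by simpa using hs5)) (fun h1 => hs1 (by simpa using congrArg Units.val h1))
      have hdvd := orderOf_dvd_natCard (Units.mk0 s hs0)
      rw [hord, Nat.card_units, Nat.card_eq_fintype_card] at hdvd
      have : 0 < Fintype.card F := Fintype.card_pos
      omega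
  have hc5 := card_eq_of_five hmdc hd5
  -- structure
  have hcomm : ∀ a ∈ A, ∀ b ∈ A, a * b = b * a := by
    intro a ha b hb
    obtain ⟨k, hk, rfl⟩ := hexA a ha
    obtain ⟨k', hk', rfl⟩ := hexA b hb
    rw [← map_mul, ← map_mul]
    exact congrArg π (Subtype.ext (Units.ext (hK.comm _ hk.2 _ hk'.2)))
  have hnormK : ∀ (g : M) (k : GL (Fin 5) F) (hk : k ∈ C),
      π ⟨k, hCM hk⟩ ≠ 1 → π g * π ⟨k, hCM hk⟩ * (π g)⁻¹ ∈ A →
      (g : GL (Fin 5) F) ∈ subalgebraNormalizer K := by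
    intro g k hk hne hmem
    rw [← map_inv, ← map_mul, ← map_mul, hmemA] at hmem
    obtain ⟨k', hk', hkk⟩ := hmem
    refine mem_normalizer_of_conj_five hK hk.2 (fun l hl => hne (Subtype.ext ((ptsHom_eq_one_iff k).2 ⟨l, hl⟩))) ?_
    have := eq_field_of_smul hK hk' hkk.symm
    simpa using this
  have hdec : ∀ g : M, (g : GL (Fin 5) F) ∈ subalgebraNormalizer K →
      ∃ i : ℕ, π g * π ⟨f, hfM⟩ ^ i ∈ A := by
    intro g hg
    obtain ⟨i, hi⟩ := normalizer_five hK hfN hf5 hfne hg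
    refine ⟨i, ?_⟩
    rw [← map_pow, ← map_mul, hmemA]
    exact ⟨(g : GL (Fin 5) F) * f ^ i, ⟨(specialLinear (Fin 5) F).mul_mem (hMSL g.2)
      ((specialLinear (Fin 5) F).pow_mem hfSL i), hi⟩, rfl⟩
  have hfpow : π ⟨f, hfM⟩ ^ 5 = 1 := by
    rw [← map_pow, show (⟨f, hfM⟩ : M) ^ 5 = 1 from Subtype.ext hf5, map_one]
  have hfout : π ⟨f, hfM⟩ ∉ A := by
    intro h
    obtain ⟨k, hk, hkf⟩ := (hmemA _).1 h
    obtain ⟨k', hk', hne⟩ := hfne
    exact hne (hK.comm _ (eq_field_of_smul hK hk hkf.symm) _ hk')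
  have hcent : ∀ a ∈ A, a ≠ 1 → ∀ γ : Γ, γ * a = a * γ → γ ∈ A := by
    intro a ha hne γ hγ
    obtain ⟨k, hk, rfl⟩ := hexA a ha
    obtain ⟨g, rfl⟩ := hπsurj γ
    have hgN := hnormK g k hk hne (by rw [hγ, mul_inv_cancel_right]; exact ha)
    obtain ⟨i, hi⟩ := hdec g hgN
    by_cases h5i : 5 ∣ i
    · obtain ⟨j, rfl⟩ := h5i
      simpa [pow_mul, hfpow] using hi
    exfalso
    have hfi : π ⟨f, hfM⟩ ^ i * π ⟨k, hCM hk⟩ = π ⟨k, hCM hk⟩ * π ⟨f, hfM⟩ ^ i := by
      have h1 : Commute (π ⟨k, hCM hk⟩) (π g) := hγ.symm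
      have h2 : Commute (π ⟨k, hCM hk⟩) (π g * π ⟨f, hfM⟩ ^ i) := hcomm _ ha _ hi
      have h3 := h1.inv_right.mul_right h2
      rw [inv_mul_cancel_left] at h3
      exact h3.symm.eq
    have hfiP : ptsHom (f ^ i * k) = ptsHom (k * f ^ i) := by
      have := congrArg Subtype.val hfi
      simpa [hπ] using this
    obtain ⟨μ, hμ⟩ := (ptsHom_eq_iff _ _).1 hfiP
    rw [Units.val_mul, Units.val_mul] at hμ
    set P : Matrix (Fin 5) (Fin 5) F := ((f ^ i : GL (Fin 5) F) : Matrix (Fin 5) (Fin 5) F) with hP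
    set a : Matrix (Fin 5) (Fin 5) F := (k : Matrix (Fin 5) (Fin 5) F) with ha'
    have hiter : ∀ j : ℕ, P ^ j * a = μ ^ j • (a * P ^ j) := by
      intro j
      induction j with
      | zero => simp
      | succ j ih =>
        rw [pow_succ, mul_assoc, hμ, Matrix.mul_smul, ← mul_assoc, ih, Matrix.smul_mul, smul_smul,
          mul_assoc, pow_succ, mul_comm μ]
    have hP5 : P ^ 5 = 1 := by
      rw [hP, ← Units.val_pow_eq_pow_val, ← pow_mul, mul_comm, pow_mul, hf5, one_pow, Units.val_one]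
    have hμ5 : μ ^ 5 = 1 := by
      have h1 := hiter 5
      rw [hP5, one_mul, mul_one] at h1
      by_contra hμne
      have h2 : (1 - μ ^ 5) • a = 0 := by rw [sub_smul, one_smul, ← h1, sub_self]
      exact k.isUnit.ne_zero ((smul_eq_zero.1 h2).resolve_left (sub_ne_zero.2 (Ne.symm hμne)))
    have hpow : ∀ j : ℕ, P * a ^ j = μ ^ j • (a ^ j * P) := by
      intro j
      induction j with
      | zero => simp
      | succ j ih =>
        rw [pow_succ, ← mul_assoc, ih, Matrix.smul_mul, mul_assoc, hμ, Matrix.mul_smul, smul_smul,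
          ← mul_assoc, pow_succ]
    have hcom : Commute P (a ^ 5) := by
      show P * a ^ 5 = a ^ 5 * P
      rw [hpow 5, hμ5, one_smul]
    obtain ⟨j, hj⟩ := exists_pow_eq_self_of_coprime (x := f) (n := i)
      ((((Nat.Prime.coprime_iff_not_dvd (by norm_num)).2 h5i).symm).of_dvd_right (orderOf_dvd_of_pow_eq_one hf5))
    have hfa : Commute (f : Matrix (Fin 5) (Fin 5) F) (a ^ 5) := by
      rw [← hj, Units.val_pow_eq_pow_val]
      exact hcom.pow_left j
    obtain ⟨l, hl⟩ := scalar_of_commute_five hK hfne (K.pow_mem hk.2 5) hfa.eq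
    have ha5 : π ⟨k, hCM hk⟩ ^ 5 = 1 := by
      rw [← map_pow]
      refine Subtype.ext ?_
      show ptsHom (k ^ 5) = 1
      rw [ptsHom_eq_one_iff]
      exact ⟨l, by rw [Units.val_pow_eq_pow_val]; exact hl⟩
    have hordA : orderOf (π ⟨k, hCM hk⟩) ∣ c := Subgroup.orderOf_dvd_natCard A ha
    have hord5 := orderOf_dvd_of_pow_eq_one ha5
    rcases (Nat.dvd_prime (by norm_num : Nat.Prime 5)).1 hord5 with h1 | h1
    · exact hne (orderOf_eq_one_iff.1 h1)
    · exact hc5 (h1 ▸ hordA)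
  have hfnorm : ∀ a ∈ A, π ⟨f, hfM⟩ * a * (π ⟨f, hfM⟩)⁻¹ ∈ A := by
    intro a ha
    obtain ⟨k, hk, rfl⟩ := hexA a ha
    rw [← map_inv, ← map_mul, ← map_mul, hmemA]
    refine ⟨f * k * f⁻¹, ⟨(specialLinear (Fin 5) F).mul_mem ((specialLinear (Fin 5) F).mul_mem hfSL hk.1)
      ((specialLinear (Fin 5) F).inv_mem hfSL), ?_⟩, rfl⟩
    simpa using (hfN _).1 hk.2
  have hq2 : 2 ≤ Fintype.card F := Fintype.one_lt_card
  have hqp : IsPrimePow (Fintype.card F) := FiniteField.isPrimePow_card F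
  have hbig1 : 1 < c := by
    rcases hd5 with ⟨h1, -⟩ | ⟨h1, hq5⟩
    · rw [h1, one_mul] at hmdc
      rw [← hmdc, mFive]
      omega
    · rw [h1] at hmdc
      have : mFive 2 ≤ mFive (Fintype.card F) := by
        simp only [mFive]
        gcongr
      rw [show mFive 2 = 31 by rfl] at this
      omega
  obtain ⟨a₀, ha₀, ha₀ne⟩ : ∃ a ∈ A, a ≠ 1 := by
    by_contra hh
    push Not at hh
    have : A = ⊥ := (Subgroup.eq_bot_iff_forall A).2 hh
    rw [hc, this, Subgroup.card_bot] at hbig1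
    omega
  have hnorm : ∀ γ : Γ, (∀ a ∈ A, γ * a * γ⁻¹ ∈ A) → ∃ i : ℕ, γ * π ⟨f, hfM⟩ ^ i ∈ A := by
    intro γ hγ
    obtain ⟨g, rfl⟩ := hπsurj γ
    obtain ⟨k, hk, rfl⟩ := hexA a₀ ha₀
    exact hdec g (hnormK g k hk ha₀ne (hγ _ ha₀))
  have hnn : ¬ A.Normal := by
    intro hn
    refine hMN fun g hg => ?_
    obtain ⟨k, hk, rfl⟩ := hexA a₀ ha₀
    exact hnormK ⟨g, hg⟩ k hk ha₀ne (hn.conj_mem _ ha₀ _)
  have hcardΩ : Nat.card (ℙ F (Fin 5 → F)) = d * c := by rw [card_points_five, hmdc]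
  have hfree : ∀ a ∈ A, a ≠ 1 → ∀ x : ℙ F (Fin 5 → F), a • x ≠ x := by
    intro a ha hne x hx
    obtain ⟨k, hk, rfl⟩ := hexA a ha
    induction x using Projectivization.ind with
    | h v hv =>
      obtain ⟨l, hl⟩ := (ptsHom_fix_iff k v hv).1 hx
      refine hne (Subtype.ext ((ptsHom_eq_one_iff k).2 ⟨l, ?_⟩))
      have h0 := mulVec_eq_zero_five hK (K.sub_mem hk.2 (K.smul_mem K.one_mem l)) hv
        (by rw [Matrix.sub_mulVec, hl, Matrix.smul_mulVec, Matrix.one_mulVec, sub_self])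
      exact sub_eq_zero.1 h0
  have hstable : ∀ x : ℙ F (Fin 5 → F), ∃ a ∈ A, π ⟨f, hfM⟩ • x = a • x := by
    intro x
    induction x using Projectivization.ind with
    | h v hv =>
      obtain ⟨k, hk, rfl⟩ := exists_mulVec_five hK hv₀ v
      have hk0 : k ≠ 0 := fun h0 => hv (by rw [h0, Matrix.zero_mulVec])
      obtain ⟨y, hy, hky⟩ := hK.inv k hk hk0
      let u : GL (Fin 5) F := ⟨k, y, hky, by rw [hK.comm y hy k hk, hky]⟩
      have huK : ((u⁻¹ : GL (Fin 5) F) : Matrix (Fin 5) (Fin 5) F) ∈ K := hy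
      have haC : f * u * f⁻¹ * u⁻¹ ∈ C := by
        refine ⟨?_, ?_⟩
        · show Matrix.GeneralLinearGroup.det _ = 1
          rw [map_mul, map_mul, map_mul, map_inv, map_inv, mul_inv_cancel_comm, mul_inv_cancel]
        · rw [Units.val_mul]
          exact K.mul_mem (by simpa using (hfN k).1 hk) huK
      refine ⟨π ⟨_, hCM haC⟩, hAmem _ haC, ?_⟩
      show ptsHom f (Projectivization.mk F _ hv) = ptsHom (f * u * f⁻¹ * u⁻¹) (Projectivization.mk F _ hv)
      rw [ptsHom_mk, ptsHom_mk]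
      congr 1
      have e1 : ((u⁻¹ : GL (Fin 5) F) : Matrix (Fin 5) (Fin 5) F) *ᵥ (k *ᵥ v₀) = v₀ := by
        rw [Matrix.mulVec_mulVec, show ((u⁻¹ : GL (Fin 5) F) : Matrix (Fin 5) (Fin 5) F) * k = 1 from u.inv_val,
          Matrix.one_mulVec]
      have e2 : ((f⁻¹ : GL (Fin 5) F) : Matrix (Fin 5) (Fin 5) F) *ᵥ v₀ = v₀ := by
        conv_lhs => rw [← hfv₀]
        rw [Matrix.mulVec_mulVec, ← Units.val_mul, inv_mul_cancel, Units.val_one, Matrix.one_mulVec]
      rw [Units.val_mul, Units.val_mul, Units.val_mul, ← Matrix.mulVec_mulVec, e1, ← Matrix.mulVec_mulVec, e2,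
        ← Matrix.mulVec_mulVec]
  have hΓdvd : Nat.card Γ ∣ glFive (Fintype.card F) := by
    rw [← card_gl_five]
    exact (Subgroup.card_dvd_of_surjective π hπsurj).trans (Subgroup.card_subgroup_dvd_card M)
  have hmain : ∀ x y x' y' : ℙ F (Fin 5 → F), x ≠ y → x' ≠ y' → ∃ γ : Γ, γ • x = x' ∧ γ • y = y' := by
    rcases Nat.lt_or_ge (Fintype.card F) 3 with h3 | h3
    · have hq : Fintype.card F = 2 := by omega
      have hd1 : d = 1 := by
        rcases hd5 with ⟨h1, -⟩ | ⟨-, h1⟩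
        · exact h1
        · omega
      have hc31 : c = 31 := by
        rw [hd1, one_mul, hq] at hmdc
        exact hmdc.symm
      refine twoTransitive_of_prime_degree Γ A (p := 31) (by norm_num) ?_ hc31 hfree hnn ?_
      · rw [hcardΩ, hd1, hc31]
      · intro hdvd
        have := hdvd.trans hΓdvd
        rw [hq, glFive, mFive] at this
        norm_num at this
    · have hbig : 121 ≤ c := by
        rcases hd5 with ⟨h1, -⟩ | ⟨h1, hq5⟩
        · rw [h1, one_mul] at hmdc
          rw [← hmdc]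
          calc 121 = mFive 3 := rfl
            _ ≤ mFive (Fintype.card F) := by simp only [mFive]; gcongr
        · rw [h1] at hmdc
          have : mFive 6 ≤ mFive (Fintype.card F) := by
            simp only [mFive]
            gcongr <;> omega
          rw [show mFive 6 = 1555 by rfl] at this
          omega
      have h : SingerData A (π ⟨f, hfM⟩) :=
        ⟨hcomm, hbig, hc5, hcent, hfpow, hfout, hfnorm, hnorm, hnn⟩
      refine h.twoTransitive hcardΩ (by rcases hd5 with ⟨h1, -⟩ | ⟨h1, -⟩ <;> omega)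
        (by rcases hd5 with ⟨h1, -⟩ | ⟨h1, -⟩ <;> omega) (h.exists_fixed hstable) hfree ?_ ?_
      · intro t b ht hb1 hb2 hbt hne hdvd
        rcases hd5 with ⟨h1, -⟩ | ⟨h1, hq5⟩
        · refine hne ?_
          rw [h1] at ht ⊢
          simp only [Prod.mk.injEq]
          omega
        · rw [h1] at ht hne
          refine not_dvd_glFive hqp hq5 (t := t) (b := b) (P := t * c - b) ?_ ?_ (hdvd.trans hΓdvd)
          · simp only [ne_eq, Prod.mk.injEq] at hne
            simp only [degPairs, List.mem_cons, List.not_mem_nil, or_false, Prod.mk.injEq]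
            omega
          · have hbc : b ≤ t * c := hbt.trans (Nat.le_mul_of_pos_right t (by omega))
            rw [hmdc, h1, ← mul_assoc, mul_comm t 5, mul_assoc]
            omega
      · intro R hRn hcop hdiv horb
        rcases hd5 with ⟨h1, -⟩ | ⟨h1, hq5⟩
        · rw [h1] at horb
          refine (Subgroup.eq_bot_iff_forall R).2 fun r hr => Subtype.ext (Equiv.ext fun x => ?_)
          have e1 : r • x ∈ orbit R x := ⟨⟨r, hr⟩, rfl⟩
          exact (Set.ncard_le_one (Set.toFinite _)).1 (horb x) _ e1 _ (mem_orbit_self x)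
        · rw [h1] at horb hmdc
          obtain ⟨e1, e2⟩ := card_le_of_small_orbits (Γ := Γ) (sixPts (F := F)) R (fun γ _ hfix => by
            obtain ⟨g, rfl⟩ := hπsurj γ
            refine Subtype.ext ((hπ g).trans (ptsHom_eq_one_of_fix_six (g : GL (Fin 5) F) fun x hx => ?_))
            rw [← hsmul]
            exact hfix x hx) horb
          rw [sixPts_length] at e1 e2
          exact Subgroup.card_eq_one.1 (small_group_excluded hqp hq5 hmdc e1 e2 hdiv Nat.card_pos)
  intro x y x' y' hxy hxy'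
  obtain ⟨γ, h1, h2⟩ := hmain x y x' y' hxy hxy'
  obtain ⟨g, rfl⟩ := hπsurj γ
  exact ⟨g, g.2, h1, h2⟩

end Cfsg.Agent.H26.SingerMax
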