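import Cfsg.Agent.H26.SingerMax.GammaFive
import Cfsg.Agent.H26.SingerMax.Five
import Cfsg.Agent.Linear.Generation

/-!
The Singer normaliser is maximal in `SL_5`.
-/

set_option autoImplicit false
set_option linter.unusedSectionVars false
set_option linter.style.longLine false
set_option linter.style.haveILetI false

namespace Cfsg.Agent.H26.SingerMax

open scoped MatrixGroups Matrix LinearAlgebra.Projectivization
open Cfsg.Geo Module

universe u

variable {F : Type*} [Field F] [Fintype F]

/-- Some transvection does not normalise the field. -/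
theorem exists_not_normalizing_five {K : Subalgebra F (Matrix (Fin 5) (Fin 5) F)}
    (hK : IsFieldSubalgebra 5 K) :
    ¬ specialLinear (Fin 5) F ≤ subalgebraNormalizer K := by
  intro hle
  have hij : (0 : Fin 5) ≠ 1 := by decide
  set E : Matrix (Fin 5) (Fin 5) F := Matrix.single 0 1 1 with hE
  have hE2 : E * E = 0 := by rw [hE, Matrix.single_mul_single_of_ne]; decide
  let t : GL (Fin 5) F := ⟨1 + E, 1 - E,
    by rw [add_mul, one_mul, mul_sub, mul_one, hE2]; abel,
    by rw [sub_mul, one_mul, mul_add, mul_one, hE2]; abel⟩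
  have htSL : t ∈ specialLinear (Fin 5) F := by
    show Matrix.GeneralLinearGroup.det t = 1
    refine Units.ext ?_
    rw [Matrix.GeneralLinearGroup.val_det_apply, Units.val_one]
    show (Matrix.transvection (0 : Fin 5) 1 (1 : F)).det = 1
    exact Matrix.det_transvection_of_ne _ _ hij _
  have htN := hle htSL
  have hEv : ∀ (v : Fin 5 → F), v 1 = 0 → E *ᵥ v = 0 := fun v hv => by
    rw [hE, Matrix.single_mulVec_eq]
    ext i
    simp [hv]
  have hcomm : ∀ k ∈ K, (1 + E) * k = k * (1 + E) := by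
    intro k hk
    have hk' : (1 + E) * k * (1 - E) ∈ K := (htN k).1 hk
    let L : (Fin 5 → F) →ₗ[F] F × F :=
      (LinearMap.proj 1).prod (LinearMap.proj 1 ∘ₗ Matrix.toLin' k)
    obtain ⟨v, hv, hv0⟩ : ∃ v, L v = 0 ∧ v ≠ 0 := by
      by_contra hc
      push Not at hc
      have hinj : Function.Injective L := (injective_iff_map_eq_zero L).2 hc
      have := LinearMap.finrank_le_finrank_of_injective hinj
      rw [Module.finrank_fin_fun, Module.finrank_prod, Module.finrank_self] at this
      omega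
    have h1 : v 1 = 0 := congrArg Prod.fst hv
    have h2 : (k *ᵥ v) 1 = 0 := by simpa [L] using congrArg Prod.snd hv
    have hu := mulVec_eq_zero_five hK (K.sub_mem hk' hk) hv0 (by
      rw [Matrix.sub_mulVec, ← Matrix.mulVec_mulVec, ← Matrix.mulVec_mulVec, Matrix.sub_mulVec,
        Matrix.one_mulVec, hEv v h1, sub_zero, Matrix.add_mulVec, Matrix.one_mulVec, hEv _ h2, add_zero,
        sub_self])
    rw [sub_eq_zero] at hu
    calc (1 + E) * k = (1 + E) * k * ((1 - E) * (1 + E)) := by
          rw [show (1 - E) * (1 + E) = 1 from t.inv_val, mul_one]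
      _ = k * (1 + E) := by rw [← mul_assoc, hu]
  have hEK : E ∈ K := by
    have h1 := K.sub_mem (mem_of_commute_five hK hcomm) K.one_mem
    rwa [add_sub_cancel_left] at h1
  obtain ⟨v, hv0, hv1⟩ : ∃ v : Fin 5 → F, v ≠ 0 ∧ v 1 = 0 := ⟨Pi.single 0 1, by simp, by simp⟩
  have := mulVec_eq_zero_five hK hEK hv0 (hEv v hv1)
  rw [hE] at this
  have h01 := congrFun (congrFun this 0) 1
  simp at h01

/-- The Singer normaliser is a maximal subgroup of `SL_5`. -/
theorem singer_maximal_five (K : Subalgebra F (Matrix (Fin 5) (Fin 5) F))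
    (hK : IsFieldSubalgebra 5 K) :
    IsMaximalIn (specialLinear (Fin 5) F) (subalgebraNormalizer K ⊓ specialLinear (Fin 5) F) := by
  classical
  set SL := specialLinear (Fin 5) F with hSL
  set N := subalgebraNormalizer K with hN
  refine ⟨lt_of_le_of_ne inf_le_right fun h => exists_not_normalizing_five hK (inf_eq_right.1 h),
    fun M h1 h2 => ?_⟩
  by_cases hMN : M ≤ N
  · exact Or.inl (le_antisymm (le_inf hMN h2) h1)
  refine Or.inr (le_antisymm h2 ?_)
  have h2t := two_transitive_five hK h1 h2 hMN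
  set G : Subgroup ((Fin 5 → F) ≃ₗ[F] (Fin 5 → F)) :=
    (M ⊔ Cfsg.Geo.scalars (Fin 5) F).map (glEquiv (F := F)).toMonoidHom with hG
  have hscal : ∀ c : Fˣ, ∃ s ∈ Cfsg.Geo.scalars (Fin 5) F, glEquiv s = LinearEquiv.smulOfUnit c := by
    intro c
    refine ⟨_, ⟨c, rfl⟩, LinearEquiv.ext fun v => ?_⟩
    rw [glEquiv_apply, scalar_apply]
    show (Matrix.scalar (Fin 5) (c : F)) *ᵥ v = _
    rw [Matrix.scalar_apply, ← Matrix.smul_one_eq_diagonal, Matrix.smul_mulVec, Matrix.one_mulVec]
  have hS : HasScalars G := by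
    intro c
    obtain ⟨s, hs, hse⟩ := hscal c
    exact ⟨s, (le_sup_right : Cfsg.Geo.scalars (Fin 5) F ≤ M ⊔ Cfsg.Geo.scalars (Fin 5) F) hs, hse⟩
  have hmemG : ∀ g ∈ M, glEquiv g ∈ G := fun g hg =>
    ⟨g, (le_sup_left : M ≤ M ⊔ Cfsg.Geo.scalars (Fin 5) F) hg, rfl⟩
  have hT : TwoTrans G := by
    intro x y x' y' hx hy hx' hy'
    have hy0 : y ≠ 0 := fun h => hy (h ▸ Submodule.zero_mem _)
    have hy0' : y' ≠ 0 := fun h => hy' (h ▸ Submodule.zero_mem _)
    obtain ⟨g, hg, hgx, hgy⟩ := h2t (Projectivization.mk F x hx) (Projectivization.mk F y hy0)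
      (Projectivization.mk F x' hx') (Projectivization.mk F y' hy0')
      (fun h => by
        obtain ⟨c, hc⟩ := (Projectivization.mk_eq_mk_iff' F x y hx hy0).1 h
        have hc0 : c ≠ 0 := fun h0 => hx (by rw [← hc, h0, zero_smul])
        exact hy (Submodule.mem_span_singleton.2 ⟨c⁻¹, by rw [← hc, smul_smul, inv_mul_cancel₀ hc0, one_smul]⟩))
      (fun h => by
        obtain ⟨c, hc⟩ := (Projectivization.mk_eq_mk_iff' F x' y' hx' hy0').1 h
        have hc0 : c ≠ 0 := fun h0 => hx' (by rw [← hc, h0, zero_smul])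
        exact hy' (Submodule.mem_span_singleton.2 ⟨c⁻¹, by rw [← hc, smul_smul, inv_mul_cancel₀ hc0, one_smul]⟩))
    rw [ptsHom_mk, Projectivization.mk_eq_mk_iff'] at hgx hgy
    obtain ⟨c, hc⟩ := hgx
    obtain ⟨c', hc'⟩ := hgy
    have hc0 : c ≠ 0 := fun h0 => mulVec_ne_zero_gl g hx (by rw [← hc, h0, zero_smul])
    refine ⟨LinearEquiv.smulOfUnit (Units.mk0 c hc0)⁻¹ * glEquiv g, G.mul_mem (hS _) (hmemG g hg), ?_, ?_⟩
    · rw [LinearEquiv.mul_apply, scalar_apply, glEquiv_apply, ← hc, smul_smul]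
      simp [hc0]
    · rw [LinearEquiv.mul_apply, scalar_apply, glEquiv_apply, ← hc', smul_smul]
      exact Submodule.smul_mem _ _ (Submodule.mem_span_singleton_self y')
  have hdim : finrank F (Fin 5 → F) = 5 := Module.finrank_fin_fun F
  obtain ⟨a, φ, ha, hφ, h0⟩ := hT.exists_transvection_five hS hdim
  have hall := hT.all_transvections hS (by omega) ha hφ h0
  intro X hX
  let X' : Matrix.SpecialLinearGroup (Fin 5) F :=
    ⟨X, by simpa using congrArg Units.val (MonoidHom.mem_ker.1 hX)⟩
  have htr : Matrix.SpecialLinearGroup.toGL X' ∈ M := by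
    refine Cfsg.Agent.Linear.transvection_induction (P := fun B => Matrix.SpecialLinearGroup.toGL B ∈ M)
      (by simp) (fun i j hij c => ?_) (fun B D hB hD => by rw [map_mul]; exact M.mul_mem hB hD) X'
    obtain ⟨-, u, ⟨w, hw, rfl⟩, hu⟩ := hall (Pi.single i 1) (c • LinearMap.proj j) (by simp [hij.symm])
    set T : GL (Fin 5) F :=
      Matrix.SpecialLinearGroup.toGL (Matrix.SpecialLinearGroup.transvection hij c) with hTdef
    have hTw : T = w := by
      refine Units.ext (Matrix.ext_iff_mulVec.2 fun v => ?_)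
      have hv := hu v
      simp only [MulEquiv.coe_toMonoidHom, glEquiv_apply] at hv
      rw [hv, hTdef, Matrix.SpecialLinearGroup.coe_GL_coe_matrix, Matrix.SpecialLinearGroup.transvection_coe,
        Matrix.add_mulVec, Matrix.one_mulVec, Matrix.single_mulVec_eq]
      simp
    rw [Subgroup.mul_normal] at hw
    obtain ⟨g, hg, s, hs, rfl⟩ := hw
    have hsSL : s ∈ SL := by
      have hTSL : T ∈ SL := by
        show Matrix.GeneralLinearGroup.det T = 1
        refine Units.ext ?_
        rw [Matrix.GeneralLinearGroup.val_det_apply, hTdef]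
        exact (Matrix.SpecialLinearGroup.transvection hij c).2
      rw [hTw] at hTSL
      exact (SL.mul_mem_cancel_left (h2 hg)).1 hTSL
    obtain ⟨l, hl⟩ := (Cfsg.Geo.mem_scalars_iff s).1 hs
    have hsC : s ∈ singerGroup hK := ⟨hsSL, hl ▸ K.smul_mem K.one_mem _⟩
    rw [hTw]
    exact M.mul_mem hg (h1 (singerGroup_le hK hsC))
  convert htr using 1
  exact Units.ext rfl

end Cfsg.Agent.H26.SingerMax
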