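import Cfsg.Agent.H26.SingerMax.SylowFive

/-!
Dimension five: the normalizer of the Sylow subgroup on its fixed and moved spaces.
-/

set_option autoImplicit false
set_option linter.unusedSectionVars false
set_option linter.style.haveILetI false
set_option linter.style.longLine false

namespace Cfsg.Agent.H26.SingerMax

open Module
open scoped Pointwise

variable {F V : Type*} [Field F] [AddCommGroup V] [Module F V] [Finite F] [Finite V]
  {G : Subgroup (V ≃ₗ[F] V)}

theorem stable_iff {g : V ≃ₗ[F] V} {W : Submodule F V} (h : ∀ v ∈ W, g v ∈ W) (v : V) :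
    g v ∈ W ↔ v ∈ W := by
  refine ⟨fun hv => ?_, h v⟩
  have hmaps : Set.MapsTo g (W : Set V) (W : Set V) := h
  obtain ⟨w, hw, hwv⟩ := (((Set.toFinite (W : Set V)).injOn_iff_bijOn_of_mapsTo hmaps).1
    g.injective.injOn).surjOn hv
  rwa [← g.injective hwv]

/-- The normalizer of the Sylow subgroup acts on a line and a complementary plane, two-transitively on the line. -/
theorem TwoTrans.exists_norm_five (hS : HasScalars G) (hG : TwoTrans G) (hdim : finrank F V = 5) :
    ∃ (L U : Submodule F V) (N : Subgroup (V ≃ₗ[F] V)) (hL : N ≤ subStab G L) (hU : N ≤ subStab G U),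
      finrank F L = 2 ∧ L ⊓ U = ⊥ ∧ L ⊔ U = ⊤ ∧
      Nat.card ((restrictHom G U).comp (Subgroup.inclusion hU)).range ∣ 3 * (Nat.card F ^ 3 - 1) ∧
      Nat.card F * (Nat.card F ^ 2 - 1) ∣
        Nat.card ((restrictHom G L).comp (Subgroup.inclusion hL)).range := by
  classical
  haveI : Finite (V ≃ₗ[F] V) := DFunLike.finite _
  obtain ⟨r, R, x, y, hr, hr3, hr2, hr1, hrF, hx, hy, hRp, hRne, hRG, hfix, hwitt⟩ :=
    hG.exists_torus_five hS hdim
  haveI := Fact.mk hr
  set q := Nat.card F with hq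
  have hq1 : 2 ≤ q := Finite.one_lt_card
  set L := (F ∙ x) ⊔ F ∙ y with hLdef
  have hL2 : finrank F L = 2 := by rw [hLdef, finrank_span_insert hy, finrank_span_singleton hx]
  have hxL : x ∈ L := Submodule.mem_sup_left (Submodule.mem_span_singleton_self x)
  have hyL : y ∈ L := Submodule.mem_sup_right (Submodule.mem_span_singleton_self y)
  have hLfix : ∀ g ∈ R, L ≤ fixSp g := by
    intro g hg
    exact sup_le ((Submodule.span_singleton_le_iff_mem _ _).2 (mem_fixSp.2 (hfix g hg).1))
      ((Submodule.span_singleton_le_iff_mem _ _).2 (mem_fixSp.2 (hfix g hg).2))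
  have hpow : ∀ g ∈ R, ∃ k : ℕ, g ^ r ^ k = 1 := fun g hg => by
    obtain ⟨k, hk⟩ := hRp ⟨g, hg⟩
    exact ⟨k, congrArg Subtype.val hk⟩
  have hcast : ∀ k : ℕ, ((r ^ k : ℕ) : F) ≠ 0 := fun k => by
    rw [Nat.cast_pow]
    exact pow_ne_zero _ hrF
  have hdvd3 : ∀ k : ℕ, 0 < k → k ≤ 3 → r ∣ q ^ k - 1 → k = 3 := by
    intro k h0 h3 h
    interval_cases k
    · exact absurd (by simpa using h) hr1
    · exact absurd h hr2
    · rfl
  have helt : ∀ g ∈ R, g ≠ 1 → fixSp g = L ∧ finrank F (movSp g) = 3 := by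
    intro g hg hne
    obtain ⟨k, hk⟩ := hpow g hg
    have hdis := disjoint_fix_mov hk (hcast k)
    have hsum := finrank_fix_add_mov g
    have hle := Submodule.finrank_mono (hLfix g hg)
    have hpos : 0 < finrank F (movSp g) := by
      by_contra h0
      refine hne (LinearEquiv.ext fun v => sub_eq_zero.1 ?_)
      have hm := sub_mem_movSp g v
      rw [Submodule.finrank_eq_zero.1 (by omega : finrank F (movSp g) = 0)] at hm
      exact (Submodule.mem_bot F).1 hm
    have h3 : finrank F (movSp g) = 3 := by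
      refine hdvd3 _ hpos (by omega) (dvd_of_fixed_point_free hk (movSp g) ?_ ?_)
      · rintro _ ⟨w, rfl⟩
        exact ⟨g w, by simp⟩
      · intro w hw hw'
        have : w ∈ fixSp g ⊓ movSp g := ⟨mem_fixSp.2 hw', hw⟩
        rwa [hdis, Submodule.mem_bot] at this
    exact ⟨(Submodule.eq_of_le_of_finrank_eq (hLfix g hg) (by omega)).symm, h3⟩
  haveI : Nontrivial ↥R := (Subgroup.nontrivial_iff_ne_bot R).2 hRne
  haveI : Nontrivial (Subgroup.center ↥R) := hRp.center_nontrivial
  obtain ⟨⟨⟨g₀, hg₀⟩, hg₀c⟩, hg₀ne⟩ := exists_ne (1 : Subgroup.center ↥R)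
  have hg₀1 : g₀ ≠ 1 := fun h => hg₀ne (Subtype.ext (Subtype.ext h))
  have hcomm : ∀ g ∈ R, g * g₀ = g₀ * g := fun g hg =>
    congrArg Subtype.val (Subgroup.mem_center_iff.1 hg₀c ⟨g, hg⟩)
  set U := movSp g₀ with hUdef
  have hU3 : finrank F U = 3 := (helt g₀ hg₀ hg₀1).2
  have hdisLU : L ⊓ U = ⊥ := by
    obtain ⟨k, hk⟩ := hpow g₀ hg₀
    rw [← (helt g₀ hg₀ hg₀1).1]
    exact disjoint_fix_mov hk (hcast k)
  have hsupLU : L ⊔ U = ⊤ := by
    refine Submodule.eq_top_of_finrank_eq ?_
    have := Submodule.finrank_sup_add_finrank_inf_eq L U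
    rw [hdisLU, finrank_bot, hL2, hU3] at this
    omega
  have hRU : ∀ g ∈ R, ∀ v ∈ U, g v ∈ U := by
    rintro g hg _ ⟨w, rfl⟩
    refine ⟨g w, ?_⟩
    simp only [LinearMap.sub_apply, LinearEquiv.coe_coe, LinearMap.id_coe, id_eq, map_sub]
    rw [show g₀ (g w) = g (g₀ w) from by rw [← LinearEquiv.mul_apply, ← hcomm g hg]; rfl]
  have hmovU : ∀ g ∈ R, g ≠ 1 → movSp g = U := by
    intro g hg hne
    refine Submodule.eq_of_le_of_finrank_eq ?_ (by rw [(helt g hg hne).2, hU3])
    rintro _ ⟨v, rfl⟩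
    obtain ⟨l, hl, u, hu, rfl⟩ := Submodule.mem_sup.1 (show v ∈ L ⊔ U by rw [hsupLU]; trivial)
    have hgl : g l = l := mem_fixSp.1 (hLfix g hg hl)
    simp only [LinearMap.sub_apply, LinearEquiv.coe_coe, LinearMap.id_coe, id_eq, map_add, hgl]
    simpa using U.sub_mem (hRU g hg u hu) hu
  set N : Subgroup (V ≃ₗ[F] V) := G ⊓ Subgroup.normalizer (R : Set (V ≃ₗ[F] V)) with hN
  have hmemN : ∀ n, n ∈ N ↔ n ∈ G ∧ ∀ g, g ∈ R ↔ n * g * n⁻¹ ∈ R := fun n => by
    rw [hN, Subgroup.mem_inf, Subgroup.mem_normalizer_iff]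
  have hconj : ∀ n ∈ N, n * g₀ * n⁻¹ ∈ R ∧ n * g₀ * n⁻¹ ≠ 1 := fun n hn =>
    ⟨(((hmemN n).1 hn).2 g₀).1 hg₀, fun h => hg₀1 (by simpa using h)⟩
  have hNL : N ≤ subStab G L := by
    intro n hn
    refine ⟨((hmemN n).1 hn).1, stable_iff fun v hv => ?_⟩
    obtain ⟨h1, h2⟩ := hconj n hn
    rw [← (helt _ h1 h2).1, mem_fixSp, mul_inv_apply, mem_fixSp.1 (hLfix g₀ hg₀ hv)]
  have hNU : N ≤ subStab G U := by
    intro n hn
    refine ⟨((hmemN n).1 hn).1, stable_iff ?_⟩
    rintro _ ⟨w, rfl⟩
    obtain ⟨h1, h2⟩ := hconj n hn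
    rw [← hmovU _ h1 h2]
    refine ⟨n w, ?_⟩
    simp [mul_inv_apply]
  have hRN : R ≤ N := fun g hg => (hmemN g).2 ⟨hRG hg, fun h =>
    ⟨fun hh => R.mul_mem (R.mul_mem hg hh) (R.inv_mem hg), fun hh => by
      simpa [mul_assoc] using R.mul_mem (R.mul_mem (R.inv_mem hg) hh) hg⟩⟩
  refine ⟨L, U, N, hNL, hNU, hL2, hdisLU, hsupLU, ?_, ?_⟩
  · -- the action on the moved space
    set ρ := (restrictHom G U).comp (Subgroup.inclusion hNU) with hρ
    let e : ↥N → Module.End F U := fun n => (ρ n).toLinearMap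
    have heapply : ∀ (n : ↥N) (u : U), ((e n u : U) : V) = (n : V ≃ₗ[F] V) u := fun _ _ => rfl
    have hemul : ∀ m n : ↥N, e (m * n) = e m * e n := fun m n =>
      LinearMap.ext fun u => Subtype.ext rfl
    have heone : e 1 = 1 := LinearMap.ext fun u => Subtype.ext rfl
    -- nonzero endomorphisms commuting with an element of `R` are injective
    have hinj : ∀ g : ↥N, (g : V ≃ₗ[F] V) ∈ R → (g : V ≃ₗ[F] V) ≠ 1 → ∀ c : Module.End F U,
        e g * c = c * e g → c ≠ 0 → Function.Injective c := by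
      intro g hg hne c hc hc0
      rw [← LinearMap.ker_eq_bot]
      by_contra hk
      obtain ⟨k, hkk⟩ := hpow _ hg
      set K := (LinearMap.ker c).map U.subtype with hK
      have hKU : K ≤ U := Submodule.map_subtype_le _ _
      have hKdim : finrank F K = finrank F (LinearMap.ker c) :=
        (Submodule.equivMapOfInjective _ U.injective_subtype _).finrank_eq.symm
      have h1 : 0 < finrank F (LinearMap.ker c) := Submodule.one_le_finrank_iff.2 hk
      have h2 : finrank F (LinearMap.ker c) < 3 := by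
        rw [← hU3]
        exact Submodule.finrank_lt (fun h => hc0 (LinearMap.ker_eq_top.1 h))
      have := hdvd3 (finrank F K) (by omega) (by omega) (dvd_of_fixed_point_free hkk K ?_ ?_)
      · omega
      · rintro _ ⟨u, hu, rfl⟩
        refine ⟨e g u, ?_, rfl⟩
        show c (e g u) = 0
        rw [← Module.End.mul_apply, ← hc, Module.End.mul_apply, show c u = 0 from hu, map_zero]
      · intro w hw hw'
        have : w ∈ fixSp (g : V ≃ₗ[F] V) ⊓ movSp (g : V ≃ₗ[F] V) :=
          ⟨mem_fixSp.2 hw', by rw [hmovU _ hg hne]; exact hKU hw⟩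
        rwa [disjoint_fix_mov hkk (hcast k), Submodule.mem_bot] at this
    have hcent : ∀ g : ↥N, (g : V ≃ₗ[F] V) ∈ R → (g : V ≃ₗ[F] V) ≠ 1 →
        IsField ↥(Subalgebra.centralizer F ({e g} : Set (Module.End F U))) := by
      intro g hg hne
      haveI : Nontrivial U := Module.nontrivial_of_finrank_pos (R := F) (by omega)
      haveI : Finite (Module.End F U) := DFunLike.finite _
      haveI : NoZeroDivisors ↥(Subalgebra.centralizer F ({e g} : Set (Module.End F U))) := by
        refine ⟨fun {a b} hab => ?_⟩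
        by_contra hc
        push Not at hc
        refine hc.2 (Subtype.ext (LinearMap.ext fun u => ?_))
        have ha := hinj g hg hne a.1 (a.2 _ rfl) (fun h => hc.1 (Subtype.ext h))
        exact ha (by rw [← Module.End.mul_apply, show a.1 * b.1 = 0 from congrArg Subtype.val hab]; simp)
      haveI : IsDomain ↥(Subalgebra.centralizer F ({e g} : Set (Module.End F U))) :=
        (NoZeroDivisors.to_isDomain ↥(Subalgebra.centralizer F ({e g} : Set (Module.End F U))) :)
      exact (Finite.isDomain_to_isField ↥(Subalgebra.centralizer F ({e g} : Set (Module.End F U))) :)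
    let gU : ↥N := ⟨g₀, hRN hg₀⟩
    set C := Subalgebra.centralizer F ({e gU} : Set (Module.End F U)) with hC
    have hCeq : ∀ g : ↥N, (g : V ≃ₗ[F] V) ∈ R → (g : V ≃ₗ[F] V) ≠ 1 →
        Subalgebra.centralizer F ({e g} : Set (Module.End F U)) = C := by
      intro g hg hne
      have hgg : g * gU = gU * g := Subtype.ext (hcomm _ hg)
      have hee : e g * e gU = e gU * e g := by rw [← hemul, ← hemul, hgg]
      ext c
      constructor
      · intro hc
        rw [hC, Subalgebra.mem_centralizer_iff]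
        rintro _ rfl
        exact congrArg Subtype.val ((hcent g hg hne).mul_comm ⟨e gU, by
          rw [Subalgebra.mem_centralizer_iff]; rintro _ rfl; exact hee⟩ ⟨c, hc⟩)
      · intro hc
        rw [Subalgebra.mem_centralizer_iff]
        rintro _ rfl
        exact congrArg Subtype.val ((hcent gU hg₀ hg₀1).mul_comm ⟨e g, by
          rw [Subalgebra.mem_centralizer_iff]; rintro _ rfl; exact hee.symm⟩ ⟨c, hc⟩)
    haveI : Finite (Module.End F U) := DFunLike.finite _
    letI : Field ↥C := (hcent gU hg₀ hg₀1).toField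
    haveI : FiniteDimensional F ↥C := Module.Finite.of_finite
    obtain ⟨u₀, hu₀⟩ : ∃ u : U, u ≠ 0 := by
      haveI : Nontrivial U := Module.nontrivial_of_finrank_pos (R := F) (by omega)
      exact exists_ne 0
    have hd3 : finrank F ↥C = 3 := by
      let ev : ↥C →ₗ[F] U :=
        { toFun := fun c => c.1 u₀, map_add' := fun _ _ => rfl, map_smul' := fun _ _ => rfl }
      have hev : Function.Injective ev := by
        rw [← LinearMap.ker_eq_bot, eq_bot_iff]
        intro c hc
        rw [Submodule.mem_bot]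
        by_contra h0
        refine hu₀ (hinj gU hg₀ hg₀1 c.1 (c.2 _ rfl) (fun h => h0 (Subtype.ext h)) ?_)
        rw [map_zero]
        exact hc
      have hle : finrank F ↥C ≤ 3 := hU3 ▸ LinearMap.finrank_le_finrank_of_injective hev
      refine hdvd3 _ Module.finrank_pos hle ?_
      obtain ⟨k, hk⟩ := hpow g₀ hg₀
      set w : ↥C := ⟨e gU, by rw [hC, Subalgebra.mem_centralizer_iff]; rintro _ rfl; rfl⟩ with hw
      have hwk : w ^ r ^ k = 1 := by
        refine Subtype.ext ?_
        rw [SubmonoidClass.coe_pow]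
        have : ∀ i : ℕ, e gU ^ i = e (gU ^ i) := by
          intro i
          induction i with
          | zero => simp [heone]
          | succ i ih => rw [pow_succ, pow_succ, hemul, ih]
        show e gU ^ r ^ k = _
        rw [this, show gU ^ r ^ k = 1 from Subtype.ext hk, heone]
        rfl
      have hw1 : w ≠ 1 := by
        intro h
        refine hg₀1 (LinearEquiv.ext fun v => ?_)
        obtain ⟨l, hl, u, hu, rfl⟩ := Submodule.mem_sup.1 (show v ∈ L ⊔ U by rw [hsupLU]; trivial)
        have h1 : g₀ u = u := by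
          have := congrArg (fun c : ↥C => ((c.1 ⟨u, hu⟩ : U) : V)) h
          exact this
        rw [map_add, h1, mem_fixSp.1 (hLfix g₀ hg₀ hl)]
        rfl
      have hw0 : w ≠ 0 := fun h => by simp [h, zero_pow (pow_ne_zero k hr.ne_zero)] at hwk
      set W := Units.mk0 w hw0
      have hdvd : r ∣ orderOf W := by
        have h1 : orderOf W ∣ r ^ k := orderOf_dvd_of_pow_eq_one (Units.ext (by simpa [W] using hwk))
        obtain ⟨j, -, hj⟩ := (Nat.dvd_prime_pow hr).1 h1
        rw [hj]
        refine dvd_pow_self r fun hj0 => ?_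
        rw [hj0, pow_zero, orderOf_eq_one_iff] at hj
        exact hw1 (congrArg Units.val hj)
      have := hdvd.trans (orderOf_dvd_natCard W)
      rwa [Nat.card_units, Module.natCard_eq_pow_finrank (K := F)] at this
    -- conjugation on the centraliser
    have hstab : ∀ (n : ↥ρ.range) (c : Module.End F U), c ∈ C →
        (n.1 : U →ₗ[F] U) * c * (n.1.symm : U →ₗ[F] U) ∈ C := by
      rintro ⟨_, n, rfl⟩ c hc
      obtain ⟨h1, h2⟩ := hconj n.1 n.2
      have hg' : ((n * gU * n⁻¹ : ↥N) : V ≃ₗ[F] V) ∈ R := h1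
      rw [← hCeq (n * gU * n⁻¹) hg' h2, Subalgebra.mem_centralizer_iff]
      rintro _ rfl
      have hc' : e gU * c = c * e gU := hc _ rfl
      have hsymm : ((ρ n).symm : U →ₗ[F] U) = e n⁻¹ := by
        show _ = (ρ n⁻¹).toLinearMap
        rw [map_inv]
        rfl
      show e (n * gU * n⁻¹) * (e n * c * ((ρ n).symm : U →ₗ[F] U)) =
        e n * c * ((ρ n).symm : U →ₗ[F] U) * e (n * gU * n⁻¹)
      rw [hsymm, hemul, hemul]
      have hnn : e n⁻¹ * e n = 1 := by rw [← hemul, inv_mul_cancel, heone]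
      calc e n * e gU * e n⁻¹ * (e n * c * e n⁻¹)
          = e n * e gU * (e n⁻¹ * e n) * c * e n⁻¹ := by noncomm_ring
        _ = e n * (e gU * c) * e n⁻¹ := by rw [hnn]; noncomm_ring
        _ = e n * c * (e gU * e n⁻¹) := by rw [hc']; noncomm_ring
        _ = e n * c * (e n⁻¹ * e n) * (e gU * e n⁻¹) := by rw [hnn, mul_one]
        _ = e n * c * e n⁻¹ * (e n * e gU * e n⁻¹) := by noncomm_ring
    have hsl : ∀ m : U ≃ₗ[F] U, (m.symm : U →ₗ[F] U) * (m : U →ₗ[F] U) = 1 := fun m =>
      LinearMap.ext fun u => m.symm_apply_apply u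
    have hls : ∀ m : U ≃ₗ[F] U, (m : U →ₗ[F] U) * (m.symm : U →ₗ[F] U) = 1 := fun m =>
      LinearMap.ext fun u => m.apply_symm_apply u
    let ψ : ↥ρ.range →* (↥C ≃ₐ[F] ↥C) :=
      { toFun := fun n =>
          { toFun := fun c => ⟨_, hstab n c.1 c.2⟩
            invFun := fun c => ⟨_, hstab n⁻¹ c.1 c.2⟩
            left_inv := fun c => Subtype.ext (by
              show (n.1.symm : U →ₗ[F] U) * ((n.1 : U →ₗ[F] U) * c.1 * (n.1.symm : U →ₗ[F] U)) *
                (n.1 : U →ₗ[F] U) = c.1
              calc (n.1.symm : U →ₗ[F] U) * ((n.1 : U →ₗ[F] U) * c.1 * (n.1.symm : U →ₗ[F] U)) * (n.1 : U →ₗ[F] U)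
                  = ((n.1.symm : U →ₗ[F] U) * (n.1 : U →ₗ[F] U)) * c.1 *
                    ((n.1.symm : U →ₗ[F] U) * (n.1 : U →ₗ[F] U)) := by noncomm_ring
                _ = c.1 := by rw [hsl, one_mul, mul_one])
            right_inv := fun c => Subtype.ext (by
              show (n.1 : U →ₗ[F] U) * ((n.1.symm : U →ₗ[F] U) * c.1 * (n.1 : U →ₗ[F] U)) *
                (n.1.symm : U →ₗ[F] U) = c.1
              calc (n.1 : U →ₗ[F] U) * ((n.1.symm : U →ₗ[F] U) * c.1 * (n.1 : U →ₗ[F] U)) * (n.1.symm : U →ₗ[F] U)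
                  = ((n.1 : U →ₗ[F] U) * (n.1.symm : U →ₗ[F] U)) * c.1 *
                    ((n.1 : U →ₗ[F] U) * (n.1.symm : U →ₗ[F] U)) := by noncomm_ring
                _ = c.1 := by rw [hls, one_mul, mul_one])
            map_mul' := fun a b => Subtype.ext (by
              show (n.1 : U →ₗ[F] U) * (a.1 * b.1) * (n.1.symm : U →ₗ[F] U) =
                ((n.1 : U →ₗ[F] U) * a.1 * (n.1.symm : U →ₗ[F] U)) *
                  ((n.1 : U →ₗ[F] U) * b.1 * (n.1.symm : U →ₗ[F] U))
              calc (n.1 : U →ₗ[F] U) * (a.1 * b.1) * (n.1.symm : U →ₗ[F] U)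
                  = (n.1 : U →ₗ[F] U) * a.1 * ((n.1.symm : U →ₗ[F] U) * (n.1 : U →ₗ[F] U)) * b.1 *
                    (n.1.symm : U →ₗ[F] U) := by rw [hsl]; noncomm_ring
                _ = _ := by noncomm_ring)
            map_add' := fun a b => Subtype.ext (by
              show (n.1 : U →ₗ[F] U) * (a.1 + b.1) * (n.1.symm : U →ₗ[F] U) = _ + _
              noncomm_ring)
            commutes' := fun a => Subtype.ext (by
              show (n.1 : U →ₗ[F] U) * algebraMap F (Module.End F U) a * (n.1.symm : U →ₗ[F] U) = _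
              rw [← Algebra.commutes, mul_assoc, hls, mul_one]
              rfl) }
        map_one' := AlgEquiv.ext fun c => Subtype.ext (LinearMap.ext fun _ => rfl)
        map_mul' := fun m n => AlgEquiv.ext fun c => Subtype.ext (LinearMap.ext fun _ => rfl) }
    have himage : Nat.card ψ.range ∣ 3 := by
      have := Subgroup.card_subgroup_dvd_card ψ.range
      rwa [IsGalois.card_aut_eq_finrank, hd3] at this
    have hker : Nat.card ψ.ker ∣ Nat.card F ^ 3 - 1 := by
      have hmem : ∀ n : ↥ψ.ker, (n.1.1 : U →ₗ[F] U) ∈ C := by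
        rintro ⟨n, hn⟩
        refine (Subalgebra.mem_centralizer_iff F).2 ?_
        rintro _ rfl
        have h1 := congrArg (fun f : ↥C ≃ₐ[F] ↥C =>
          ((f ⟨e gU, by rw [hC, Subalgebra.mem_centralizer_iff]; rintro _ rfl; rfl⟩ : ↥C) : Module.End F U))
          (MonoidHom.mem_ker.1 hn)
        have h2 : (n.1 : U →ₗ[F] U) * e gU * (n.1.symm : U →ₗ[F] U) = e gU := h1
        calc e gU * (n.1 : U →ₗ[F] U)
            = (n.1 : U →ₗ[F] U) * e gU * (n.1.symm : U →ₗ[F] U) * (n.1 : U →ₗ[F] U) := by rw [h2]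
          _ = (n.1 : U →ₗ[F] U) * e gU := by rw [mul_assoc, hsl, mul_one]
      let κ : ↥ψ.ker →* (↥C)ˣ :=
        { toFun := fun n => ⟨⟨_, hmem n⟩, ⟨_, hmem n⁻¹⟩, Subtype.ext (hls n.1.1), Subtype.ext (hsl n.1.1)⟩
          map_one' := Units.ext (Subtype.ext (LinearMap.ext fun _ => rfl))
          map_mul' := fun _ _ => Units.ext (Subtype.ext (LinearMap.ext fun _ => rfl)) }
      have hκ : Function.Injective κ := fun a b h => by
        refine Subtype.ext (Subtype.ext (LinearEquiv.toLinearMap_injective ?_))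
        exact congrArg (fun u : (↥C)ˣ => ((u : ↥C) : Module.End F U)) h
      have := Subgroup.card_dvd_of_injective κ hκ
      rwa [Nat.card_units, Module.natCard_eq_pow_finrank (K := F) (V := ↥C), hd3] at this
    rw [← Subgroup.card_mul_index ψ.ker, Subgroup.index_ker, mul_comm 3]
    exact Nat.mul_dvd_mul hker himage
  · -- the action on the fixed space
    set ρ := (restrictHom G L).comp (Subgroup.inclusion hNL) with hρ
    have hscal : ∀ c : Fˣ, LinearEquiv.smulOfUnit c ∈ N := fun c => (hmemN _).2 ⟨hS c, fun g => by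
      have e : LinearEquiv.smulOfUnit c * g * (LinearEquiv.smulOfUnit c)⁻¹ = g := by
        rw [mul_inv_eq_iff_eq_mul]
        exact LinearEquiv.ext fun v => by simp [scalar_apply]
      rw [e]⟩
    set x₁ : L := ⟨x, hxL⟩
    set y₁ : L := ⟨y, hyL⟩
    have hpair : ∀ a b : L, a ≠ 0 → b ∉ F ∙ a → ∀ a' b' : L, a' ≠ 0 → b' ∉ F ∙ a' →
        ∃ g ∈ ρ.range, g a = a' ∧ g b ∈ F ∙ b' := by
      have hto : ∀ a b : L, a ≠ 0 → b ∉ F ∙ a →
          ∃ n ∈ N, n (a : V) ∈ F ∙ x ∧ n (b : V) ∈ F ∙ y := by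
        intro a b ha hb
        have hab : (b : V) ∉ F ∙ (a : V) := fun h => hb (by
          obtain ⟨c, hc⟩ := Submodule.mem_span_singleton.1 h
          exact Submodule.mem_span_singleton.2 ⟨c, Subtype.ext hc⟩)
        obtain ⟨n, hn, hiff, hna, hnb⟩ := hwitt a b (by simpa using ha) hab fun g hg =>
          ⟨mem_fixSp.1 (hLfix g hg a.2), mem_fixSp.1 (hLfix g hg b.2)⟩
        exact ⟨n, (hmemN n).2 ⟨hn, hiff⟩, hna, hnb⟩
      intro a b ha hb a' b' ha' hb'
      obtain ⟨n₁, hn₁, h1a, h1b⟩ := hto a b ha hb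
      obtain ⟨n₂, hn₂, h2a, h2b⟩ := hto a' b' ha' hb'
      obtain ⟨α, hα⟩ := Submodule.mem_span_singleton.1 h1a
      obtain ⟨β, hβ⟩ := Submodule.mem_span_singleton.1 h2a
      have hα0 : α ≠ 0 := by
        rintro rfl
        rw [zero_smul, eq_comm, map_eq_zero_iff n₁ n₁.injective] at hα
        exact ha (Subtype.ext hα)
      have hβ0 : β ≠ 0 := by
        rintro rfl
        rw [zero_smul, eq_comm, map_eq_zero_iff n₂ n₂.injective] at hβ
        exact ha' (Subtype.ext hβ)
      have hm : n₂⁻¹ * (LinearEquiv.smulOfUnit (Units.mk0 (β / α) (div_ne_zero hβ0 hα0)) * n₁) ∈ N :=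
        N.mul_mem (N.inv_mem hn₂) (N.mul_mem (hscal _) hn₁)
      refine ⟨_, ⟨⟨_, hm⟩, rfl⟩, Subtype.ext ?_, ?_⟩
      · show n₂.symm ((β / α) • n₁ (a : V)) = _
        rw [← hα, smul_smul, div_mul_cancel₀ _ hα0, hβ, n₂.symm_apply_apply]
      · obtain ⟨γ, hγ⟩ := Submodule.mem_span_singleton.1 h1b
        obtain ⟨δ, hδ⟩ := Submodule.mem_span_singleton.1 h2b
        have hδ0 : δ ≠ 0 := by
          rintro rfl
          rw [zero_smul, eq_comm, map_eq_zero_iff n₂ n₂.injective] at hδ
          exact hb' ((show b' = 0 from Subtype.ext hδ) ▸ Submodule.zero_mem _)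
        refine Submodule.mem_span_singleton.2 ⟨β / α * γ / δ, Subtype.ext ?_⟩
        show (β / α * γ / δ) • (b' : V) = n₂.symm ((β / α) • n₁ (b : V))
        rw [← hγ, smul_smul, eq_comm, LinearEquiv.symm_apply_eq, map_smul, ← hδ, smul_smul,
          div_mul_cancel₀ _ hδ0]
    have hx₁ : x₁ ≠ 0 := fun h => hx (congrArg Subtype.val h)
    have hy₁ : y₁ ∉ F ∙ x₁ := fun h => hy (by
      obtain ⟨c, hc⟩ := Submodule.mem_span_singleton.1 h
      exact Submodule.mem_span_singleton.2 ⟨c, congrArg Subtype.val hc⟩)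
    have horbx : MulAction.orbit ↥ρ.range x₁ = {(0 : L)}ᶜ := by
      ext v
      constructor
      · rintro ⟨g, rfl⟩ h
        exact hx₁ (g.1.map_eq_zero_iff.1 h)
      · intro hv
        obtain ⟨w, hw⟩ : ∃ w, w ∉ F ∙ v := by
          by_contra hc
          push Not at hc
          have hle := Submodule.finrank_mono (show (⊤ : Submodule F L) ≤ F ∙ v from fun u _ => hc u)
          rw [finrank_top, finrank_span_singleton hv, hL2] at hle
          omega
        obtain ⟨g, hg, hgv, -⟩ := hpair x₁ y₁ hx₁ hy₁ v w hv hw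
        exact ⟨⟨g, hg⟩, hgv⟩
    set S₁ := MulAction.stabilizer ↥ρ.range x₁ with hS₁
    set S := S₁.map ρ.range.subtype with hS'
    have horby : MulAction.orbit ↥S (F ∙ y₁) = Set.range fun a : F => F ∙ (y₁ + a • x₁) := by
      ext W
      constructor
      · rintro ⟨⟨g, hg⟩, rfl⟩
        obtain ⟨g', hg', rfl⟩ := hg
        have hgx : g'.1 x₁ = x₁ := hg'
        have htop : (F ∙ x₁) ⊔ F ∙ y₁ = ⊤ := Submodule.eq_top_of_finrank_eq
          (by rw [finrank_span_insert hy₁, finrank_span_singleton hx₁, hL2])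
        obtain ⟨u, hu, w, hw, huw⟩ := Submodule.mem_sup.1
          (show g'.1 y₁ ∈ (F ∙ x₁) ⊔ F ∙ y₁ by rw [htop]; trivial)
        obtain ⟨α, rfl⟩ := Submodule.mem_span_singleton.1 hu
        obtain ⟨β, rfl⟩ := Submodule.mem_span_singleton.1 hw
        have hβ : β ≠ 0 := by
          rintro rfl
          refine hy₁ (Submodule.mem_span_singleton.2 ⟨α, g'.1.injective ?_⟩)
          rw [map_smul, hgx, ← huw, zero_smul, add_zero]
        refine ⟨α / β, ?_⟩
        have hline : g'.1 y₁ = β • (y₁ + (α / β) • x₁) := by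
          rw [smul_add, smul_smul, mul_div_cancel₀ _ hβ, add_comm, huw]
        ext v
        constructor
        · intro hv
          obtain ⟨c, rfl⟩ := Submodule.mem_span_singleton.1 hv
          refine (mem_smul_iff _ _ _).2 ⟨(c / β) • y₁, Submodule.smul_mem _ _ (Submodule.mem_span_singleton_self _), ?_⟩
          show g'.1 ((c / β) • y₁) = _
          rw [map_smul, hline, smul_smul, div_mul_cancel₀ _ hβ]
        · intro hv
          obtain ⟨w, hw, rfl⟩ := (mem_smul_iff _ _ _).1 hv
          obtain ⟨c, rfl⟩ := Submodule.mem_span_singleton.1 hw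
          show g'.1 (c • y₁) ∈ F ∙ (y₁ + (α / β) • x₁)
          rw [map_smul, hline]
          exact Submodule.smul_mem _ _ (Submodule.smul_mem _ _ (Submodule.mem_span_singleton_self _))
      · rintro ⟨a, rfl⟩
        have hne : y₁ + a • x₁ ∉ F ∙ x₁ := fun h => hy₁ (by
          simpa using Submodule.sub_mem _ h (Submodule.smul_mem _ a (Submodule.mem_span_singleton_self x₁)))
        obtain ⟨g, hg, hgx, hgy⟩ := hpair x₁ y₁ hx₁ hy₁ x₁ (y₁ + a • x₁) hx₁ hne
        refine ⟨⟨g, ⟨g, hg⟩, hgx, rfl⟩, ?_⟩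
        obtain ⟨c, hc⟩ := Submodule.mem_span_singleton.1 hgy
        have hc0 : c ≠ 0 := by
          rintro rfl
          rw [zero_smul, eq_comm, map_eq_zero_iff g g.injective] at hc
          exact hy₁ (hc ▸ Submodule.zero_mem _)
        ext v
        constructor
        · intro hv
          obtain ⟨w, hw, rfl⟩ := (mem_smul_iff _ _ _).1 hv
          obtain ⟨d, rfl⟩ := Submodule.mem_span_singleton.1 hw
          show g (d • y₁) ∈ _
          rw [map_smul, ← hc]
          exact Submodule.smul_mem _ _ (Submodule.smul_mem _ _ (Submodule.mem_span_singleton_self _))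
        · intro hv
          obtain ⟨d, rfl⟩ := Submodule.mem_span_singleton.1 hv
          refine (mem_smul_iff _ _ _).2 ⟨(d / c) • y₁, Submodule.smul_mem _ _ (Submodule.mem_span_singleton_self _), ?_⟩
          show g ((d / c) • y₁) = _
          rw [map_smul, ← hc, smul_smul, div_mul_cancel₀ _ hc0]
    have hinjl : Function.Injective fun a : F => F ∙ (y₁ + a • x₁) := by
      intro a b hab
      have hmem : y₁ + a • x₁ ∈ F ∙ (y₁ + b • x₁) := by
        rw [← show (F ∙ (y₁ + a • x₁)) = F ∙ (y₁ + b • x₁) from hab]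
        exact Submodule.mem_span_singleton_self _
      obtain ⟨c, hc⟩ := Submodule.mem_span_singleton.1 hmem
      by_contra hne
      rcases eq_or_ne c 1 with rfl | hc1
      · rw [one_smul] at hc
        exact hne (smul_left_injective F hx₁ (add_left_cancel hc)).symm
      · refine hy₁ (Submodule.mem_span_singleton.2 ⟨(c - 1)⁻¹ * (a - c * b), ?_⟩)
        have h : (c - 1) • y₁ = (a - c * b) • x₁ := by
          rw [smul_add, smul_smul] at hc
          rw [sub_smul, sub_smul, one_smul, sub_eq_sub_iff_add_eq_add, hc, add_comm]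
        rw [mul_smul, ← h, smul_smul, inv_mul_cancel₀ (sub_ne_zero.2 hc1), one_smul]
    have h1 : q ∣ Nat.card S := by
      have h := Subgroup.index_dvd_card (MulAction.stabilizer ↥S (F ∙ y₁))
      rwa [MulAction.index_stabilizer, horby, Set.ncard_range_of_injective hinjl] at h
    have h2 := Subgroup.card_mul_index S₁
    rw [hS₁, MulAction.index_stabilizer, horbx, Set.ncard_compl, Set.ncard_singleton,
      Module.natCard_eq_pow_finrank (K := F) (V := L), hL2, ← hS₁] at h2
    rw [← h2]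
    refine Nat.mul_dvd_mul_right ?_ _
    rwa [hS', Subgroup.card_map_of_injective ρ.range.subtype_injective] at h1

end Cfsg.Agent.H26.SingerMax
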