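import Cfsg.Agent.H26.SingerMax.Points

/-!
In a doubly transitive linear group the stabiliser of a plane is transitive on its lines.
-/

set_option autoImplicit false
set_option linter.unusedSectionVars false
set_option linter.style.haveILetI false

namespace Cfsg.Agent.H26.SingerMax

open Module
open scoped Classical

variable {F V : Type*} [Field F] [AddCommGroup V] [Module F V] [Finite F] [Finite V]
  {G : Subgroup (V ≃ₗ[F] V)}

theorem card_annihilator (W : Submodule F V) :
    Nat.card W.dualAnnihilator = Nat.card F ^ (finrank F V - finrank F W) := by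
  rw [Module.natCard_eq_pow_finrank (K := F)]
  congr 1
  have := Subspace.finrank_add_finrank_dualAnnihilator_eq W
  omega

theorem card_submodule (W : Submodule F V) : Nat.card W = Nat.card F ^ finrank F W :=
  Module.natCard_eq_pow_finrank (K := F)

/-- The functionals killing `A` and not killing all of `B`. -/
theorem card_ann_diff [Fintype (Dual F V)] {A B : Submodule F V} (h : A ≤ B) :
    (Finset.univ.filter fun φ : Dual F V => φ ∈ A.dualAnnihilator ∧ φ ∉ B.dualAnnihilator).card =
      Nat.card F ^ (finrank F V - finrank F A) - Nat.card F ^ (finrank F V - finrank F B) := by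
  rw [← card_annihilator A, ← card_annihilator B, Nat.card_eq_fintype_card,
    Nat.card_eq_fintype_card, Fintype.card_subtype, Fintype.card_subtype,
    ← Finset.card_sdiff_of_subset]
  · congr 1
    ext φ
    simp
  · intro φ hφ
    simp only [Finset.mem_filter, Finset.mem_univ, true_and] at hφ ⊢
    exact Submodule.dualAnnihilator_anti h hφ

theorem finrank_span_insert {W : Submodule F V} {v : V} (hv : v ∉ W) :
    finrank F ↥(W ⊔ F ∙ v) = finrank F W + 1 := by
  have h1 := Submodule.finrank_sup_add_finrank_inf_eq W (F ∙ v)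
  have hv0 : v ≠ 0 := fun h0 => hv (h0 ▸ W.zero_mem)
  have h2 : W ⊓ F ∙ v = ⊥ := by
    rw [eq_bot_iff]
    rintro w ⟨hw, hw'⟩
    obtain ⟨c, rfl⟩ := Submodule.mem_span_singleton.1 hw'
    rcases eq_or_ne c 0 with rfl | hc
    · simp
    · exact absurd ((W.smul_mem_iff hc).1 hw) hv
  rw [h2, finrank_bot, finrank_span_singleton hv0] at h1
  omega

theorem map_mem_sup {g : V ≃ₗ[F] V} {A B : Submodule F V} (hA : ∀ v ∈ A, g v ∈ A) (hB : ∀ v ∈ B, g v ∈ B)
    {v : V} (hv : v ∈ A ⊔ B) : g v ∈ A ⊔ B := by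
  obtain ⟨a, ha, b, hb, rfl⟩ := Submodule.mem_sup.1 hv
  rw [map_add]
  exact Submodule.add_mem_sup (hA a ha) (hB b hb)

theorem mem_dualAnnihilator_line {φ : Dual F V} {v : V} :
    φ ∈ (F ∙ v).dualAnnihilator ↔ φ v = 0 := by
  rw [Submodule.mem_dualAnnihilator]
  refine ⟨fun h => h v (Submodule.mem_span_singleton_self v), fun h w hw => ?_⟩
  obtain ⟨c, rfl⟩ := Submodule.mem_span_singleton.1 hw
  simp [h]

/-- The cone lemma. -/
theorem TwoTrans.cone (hS : HasScalars G) (hG : TwoTrans G) {x y z : V} (hx : x ≠ 0)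
    (hy : y ∉ F ∙ x) (hz : z ∉ (F ∙ x) ⊔ F ∙ y) :
    ∃ g ∈ G, g x ∈ F ∙ x ∧ g y ∈ F ∙ y ∧ g (z + y) ∈ (F ∙ x) ⊔ F ∙ z := by
  letI : Fintype V := Fintype.ofFinite V
  haveI : Finite (Dual F V) := DFunLike.finite _
  letI : Fintype (Dual F V) := Fintype.ofFinite _
  set q := Nat.card F with hq
  have hq1 : 2 ≤ q := Finite.one_lt_card
  set P := (F ∙ x) ⊔ F ∙ y with hP
  set L := (F ∙ x) ⊔ F ∙ z with hL
  set W := P ⊔ F ∙ z with hW
  have hz0 : z ∉ F ∙ x := fun h => hz (Submodule.mem_sup_left h)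
  have hP2 : finrank F P = 2 := by rw [hP, finrank_span_insert hy, finrank_span_singleton hx]
  have hL2 : finrank F L = 2 := by rw [hL, finrank_span_insert hz0, finrank_span_singleton hx]
  have hW3 : finrank F W = 3 := by rw [hW, finrank_span_insert hz, hP2]
  have hdim : 3 ≤ finrank F V := hW3 ▸ Submodule.finrank_le W
  have hLW : L ≤ W := sup_le (le_sup_left.trans le_sup_left) le_sup_right
  have hPW : P ≤ W := le_sup_left
  have hLP : ∀ v ∈ L, v ∈ P → v ∈ F ∙ x := by
    intro v hv hv'
    obtain ⟨a, ha, b, hb, rfl⟩ := Submodule.mem_sup.1 hv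
    have hbP : b ∈ P := by simpa using P.sub_mem hv' (Submodule.mem_sup_left ha : a ∈ P)
    obtain ⟨c, rfl⟩ := Submodule.mem_span_singleton.1 hb
    rcases eq_or_ne c 0 with rfl | hc
    · simpa using ha
    · exact absurd ((P.smul_mem_iff hc).1 hbP) hz
  -- the orbit cone
  set O : Finset V := Finset.univ.filter fun v =>
    v ∉ F ∙ x ∧ ∃ g ∈ G, g x ∈ F ∙ x ∧ g y ∈ F ∙ y ∧ g v ∈ L with hO
  have hOP : ∀ v ∈ O, v ∉ P := by
    intro v hv hvP
    obtain ⟨hvx, g, -, hgx, hgy, hgv⟩ := (Finset.mem_filter.1 hv).2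
    refine hvx ?_
    have h1 : g v ∈ P := map_mem_sup (fun w => map_mem_line hgx) (fun w => map_mem_line hgy) hvP
    have h2 := map_mem_line (symm_mem_line hgx) (hLP _ hgv h1)
    rwa [g.symm_apply_apply] at h2
  have hOinv : ∀ h : V ≃ₗ[F] V, h ∈ G → h x ∈ F ∙ x → h y ∈ F ∙ y → ∀ v ∈ O, h v ∈ O := by
    intro h hh hhx hhy v hv
    obtain ⟨hvx, g, hg, hgx, hgy, hgv⟩ := (Finset.mem_filter.1 hv).2
    refine Finset.mem_filter.2 ⟨Finset.mem_univ _, fun h0 => hvx ?_,
      g * h⁻¹, G.mul_mem hg (G.inv_mem hh), ?_, ?_, ?_⟩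
    · simpa using map_mem_line (symm_mem_line hhx) h0
    · show g (h.symm x) ∈ F ∙ x
      exact map_mem_line hgx (symm_mem_line hhx)
    · show g (h.symm y) ∈ F ∙ y
      exact map_mem_line hgy (symm_mem_line hhy)
    · show g (h.symm (h v)) ∈ L
      rwa [h.symm_apply_apply]
  -- the functionals
  set S : Finset (Dual F V) := Finset.univ.filter fun φ =>
    φ ∈ (F ∙ x).dualAnnihilator ∧ φ ∉ P.dualAnnihilator with hSdef
  have hSmem : ∀ φ : Dual F V, φ ∈ S ↔ φ x = 0 ∧ φ y ≠ 0 := by
    intro φ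
    simp only [hSdef, Finset.mem_filter, Finset.mem_univ, true_and, mem_dualAnnihilator_line,
      hP, Submodule.dualAnnihilator_sup_eq, Submodule.mem_inf]
    tauto
  obtain ⟨φ₀, hφ₀⟩ : S.Nonempty := by
    obtain ⟨φ, hφy, hφx⟩ := Submodule.exists_dual_map_eq_bot_of_notMem hy inferInstance
    refine ⟨φ, (hSmem φ).2 ⟨?_, hφy⟩⟩
    have : φ x ∈ (F ∙ x).map φ := ⟨x, Submodule.mem_span_singleton_self x, rfl⟩
    rwa [hφx, Submodule.mem_bot] at this
  set a := (O.filter fun v => φ₀ v = 0).card with ha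
  have hconst : ∀ φ ∈ S, (O.filter fun v => φ v = 0).card = a := by
    intro φ hφ
    obtain ⟨h1, h2⟩ := (hSmem φ).1 hφ
    obtain ⟨h1', h2'⟩ := (hSmem φ₀).1 hφ₀
    obtain ⟨g, hg, hgx, hgy, hgv⟩ := hG.move_pair hS (by omega) hx h1 h2 h1' h2'
    refine Finset.card_bij' (fun v _ => g v) (fun v _ => g.symm v) ?_ ?_ (fun v _ => g.symm_apply_apply v)
      (fun v _ => g.apply_symm_apply v)
    · intro v hv
      simp only [Finset.mem_filter] at hv ⊢
      exact ⟨hOinv g hg hgx hgy v hv.1, (hgv v).2 hv.2⟩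
    · intro v hv
      simp only [Finset.mem_filter] at hv ⊢
      refine ⟨hOinv g⁻¹ (G.inv_mem hg) (symm_mem_line hgx) (symm_mem_line hgy) v hv.1, ?_⟩
      rw [← hgv, g.apply_symm_apply]
      exact hv.2
  set n := finrank F V with hn
  set c3 := q ^ (n - 2) - q ^ (n - 3) with hc3
  have hcount : ∀ (A : Submodule F V), F ∙ x ≤ A → y ∉ A →
      (S.filter fun φ => φ ∈ A.dualAnnihilator).card =
        q ^ (n - finrank F A) - q ^ (n - (finrank F A + 1)) := by
    intro A hxA hyA
    rw [← finrank_span_insert hyA, hq, hn, ← card_ann_diff (le_sup_left : A ≤ A ⊔ F ∙ y)]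
    congr 1
    ext φ
    simp only [Finset.mem_filter, hSmem, Finset.mem_univ, true_and, Submodule.dualAnnihilator_sup_eq,
      Submodule.mem_inf, mem_dualAnnihilator_line]
    constructor
    · rintro ⟨⟨-, h2⟩, h3⟩
      exact ⟨h3, fun h => h2 h.2⟩
    · rintro ⟨h3, h4⟩
      exact ⟨⟨mem_dualAnnihilator_line.1 (Submodule.dualAnnihilator_anti hxA h3),
        fun h2 => h4 ⟨h3, h2⟩⟩, h3⟩
  have hin : ∀ (A : Submodule F V) (v : V) (φ : Dual F V), φ ∈ (A ⊔ F ∙ v).dualAnnihilator ↔
      φ ∈ A.dualAnnihilator ∧ φ v = 0 := by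
    intro A v φ
    rw [Submodule.dualAnnihilator_sup_eq, Submodule.mem_inf, mem_dualAnnihilator_line]
  have hSx : ∀ φ ∈ S, φ ∈ (F ∙ x).dualAnnihilator := fun φ hφ =>
    mem_dualAnnihilator_line.2 ((hSmem φ).1 hφ).1
  have hyline : ∀ v, v ∉ P → y ∉ (F ∙ x) ⊔ F ∙ v := by
    intro v hv h
    obtain ⟨a', ha', b, hb, hab⟩ := Submodule.mem_sup.1 h
    obtain ⟨c, rfl⟩ := Submodule.mem_span_singleton.1 hb
    rcases eq_or_ne c 0 with rfl | hc
    · exact hy (by simpa [← hab] using ha')
    · refine hv ((P.smul_mem_iff hc).1 ?_)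
      rw [show c • v = y - a' from eq_sub_of_add_eq' hab]
      exact P.sub_mem (Submodule.mem_sup_right (Submodule.mem_span_singleton_self y))
        (Submodule.mem_sup_left ha')
  have hT : ∀ v ∈ O, (S.filter fun φ => φ v = 0).card = c3 := by
    intro v hv
    have hvP := hOP v hv
    have hvx : v ∉ F ∙ x := fun h => hvP (Submodule.mem_sup_left h)
    have := hcount ((F ∙ x) ⊔ F ∙ v) le_sup_left (hyline v hvP)
    rw [finrank_span_insert hvx, finrank_span_singleton hx] at this
    rw [hc3]
    refine Eq.trans ?_ this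
    congr 1
    refine Finset.filter_congr fun φ hφ => ?_
    rw [hin]
    exact (and_iff_right (hSx φ hφ)).symm
  have hScard : S.card = q * c3 := by
    have h := hcount (F ∙ x) le_rfl hy
    rw [Finset.filter_true_of_mem hSx, finrank_span_singleton hx] at h
    rw [h, hc3, Nat.mul_sub, ← pow_succ', ← pow_succ']
    congr 2 <;> omega
  set Sz := S.filter fun φ => φ z = 0 with hSz
  have hyL : y ∉ L := hyline z hz
  have hSzc : Sz.card = c3 := by
    have := hcount L le_sup_left hyL
    rw [hL2] at this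
    rw [hc3]
    refine Eq.trans ?_ this
    congr 1
    refine Finset.filter_congr fun φ hφ => ?_
    rw [hL, hin]
    exact (and_iff_right (hSx φ hφ)).symm
  have hI : ∀ v ∈ O, (v ∈ L → (Sz.filter fun φ => φ v = 0).card = c3) ∧
      (v ∈ W → v ∉ L → (Sz.filter fun φ => φ v = 0).card = 0) ∧
      (v ∉ W → q * (Sz.filter fun φ => φ v = 0).card = c3) := by
    intro v hv
    refine ⟨fun hvL => ?_, fun hvW hvL => ?_, fun hvW => ?_⟩
    · rw [Finset.filter_true_of_mem fun φ hφ => ?_, hSzc]
      obtain ⟨hφS, hφz⟩ := Finset.mem_filter.1 hφ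
      exact (Submodule.mem_dualAnnihilator φ).1 ((hin _ _ φ).2 ⟨hSx φ hφS, hφz⟩) v hvL
    · rw [Finset.card_eq_zero, Finset.filter_eq_empty_iff]
      intro φ hφ hφv
      obtain ⟨hφS, hφz⟩ := Finset.mem_filter.1 hφ
      obtain ⟨h1, h2⟩ := (hSmem φ).1 hφS
      obtain ⟨p, hp, w, hw, rfl⟩ := Submodule.mem_sup.1 hvW
      obtain ⟨u, hu, t, ht, rfl⟩ := Submodule.mem_sup.1 hp
      obtain ⟨α, rfl⟩ := Submodule.mem_span_singleton.1 hu
      obtain ⟨β, rfl⟩ := Submodule.mem_span_singleton.1 ht
      obtain ⟨γ, rfl⟩ := Submodule.mem_span_singleton.1 hw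
      simp [h1, h2, hφz] at hφv
      subst hφv
      refine hvL ?_
      simp only [zero_smul, add_zero]
      exact Submodule.add_mem_sup (Submodule.smul_mem _ _ (Submodule.mem_span_singleton_self x))
        (Submodule.smul_mem _ _ (Submodule.mem_span_singleton_self z))
    · have hvL : v ∉ L := fun h => hvW (hLW h)
      have hy4 : y ∉ L ⊔ F ∙ v := by
        intro h
        obtain ⟨a', ha', b, hb, hab⟩ := Submodule.mem_sup.1 h
        obtain ⟨c, rfl⟩ := Submodule.mem_span_singleton.1 hb
        rcases eq_or_ne c 0 with rfl | hc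
        · exact hyL (by simpa [← hab] using ha')
        · refine hvW ((W.smul_mem_iff hc).1 ?_)
          rw [show c • v = y - a' from eq_sub_of_add_eq' hab]
          exact W.sub_mem (hPW (Submodule.mem_sup_right (Submodule.mem_span_singleton_self y))) (hLW ha')
      have := hcount (L ⊔ F ∙ v) (le_sup_left.trans le_sup_left) hy4
      have h4 : 4 ≤ n := by
        have := Submodule.finrank_le (W ⊔ F ∙ v)
        rw [finrank_span_insert hvW, hW3] at this
        exact this
      rw [finrank_span_insert hvL, hL2] at this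
      rw [show (Sz.filter fun φ => φ v = 0) = S.filter fun φ => φ ∈ (L ⊔ F ∙ v).dualAnnihilator from ?_,
        this, hc3, Nat.mul_sub, ← pow_succ', ← pow_succ']
      · congr 2 <;> omega
      · rw [hSz, Finset.filter_filter]
        refine Finset.filter_congr fun φ hφ => ?_
        rw [hL, hin, hin, and_iff_right (hSx φ hφ)]
  -- double counting
  have hd1 : S.card * a = O.card * c3 := by
    have h := Finset.sum_card_bipartiteAbove_eq_sum_card_bipartiteBelow (fun (φ : Dual F V) (v : V) => φ v = 0)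
      (s := S) (t := O)
    simp only [Finset.bipartiteAbove, Finset.bipartiteBelow] at h
    rw [Finset.sum_congr rfl hconst, Finset.sum_congr rfl hT] at h
    simpa using h
  have hd2 : q * (Sz.card * a) + c3 * (O.filter fun v => v ∈ W).card =
      q * c3 * (O.filter fun v => v ∈ L).card + c3 * O.card := by
    have h := Finset.sum_card_bipartiteAbove_eq_sum_card_bipartiteBelow (fun (φ : Dual F V) (v : V) => φ v = 0)
      (s := Sz) (t := O)
    simp only [Finset.bipartiteAbove, Finset.bipartiteBelow] at h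
    rw [Finset.sum_congr rfl fun φ hφ => hconst φ (Finset.mem_filter.1 hφ).1, Finset.sum_const,
      smul_eq_mul] at h
    rw [h, Finset.mul_sum, Finset.card_filter, Finset.card_filter, Finset.card_eq_sum_ones O,
      Finset.mul_sum, Finset.mul_sum, Finset.mul_sum, ← Finset.sum_add_distrib,
      ← Finset.sum_add_distrib]
    refine Finset.sum_congr rfl fun v hv => ?_
    obtain ⟨i1, i2, i3⟩ := hI v hv
    by_cases hvL : v ∈ L
    · rw [i1 hvL, if_pos (hLW hvL), if_pos hvL]
      ring
    · by_cases hvW : v ∈ W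
      · rw [i2 hvW hvL, if_pos hvW, if_neg hvL]
        ring
      · rw [i3 hvW, if_neg hvW, if_neg hvL]
        simp
  have hc3pos : 0 < c3 := Nat.sub_pos_of_lt (Nat.pow_lt_pow_right (by omega) (by omega))
  have hOW : (O.filter fun v => v ∈ W).card = q * (O.filter fun v => v ∈ L).card := by
    rw [hScard] at hd1
    rw [hSzc] at hd2
    refine Nat.eq_of_mul_eq_mul_left hc3pos ?_
    nlinarith
  have hsub : ∀ (A B : Submodule F V), B ≤ A →
      (Finset.univ.filter fun v => v ∈ A ∧ v ∉ B).card = q ^ finrank F A - q ^ finrank F B := by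
    intro A B hBA
    rw [hq, ← card_submodule A, ← card_submodule B, Nat.card_eq_fintype_card, Nat.card_eq_fintype_card,
      Fintype.card_subtype, Fintype.card_subtype, ← Finset.card_sdiff_of_subset]
    · congr 1
      ext v
      simp
    · intro v hv
      simp only [Finset.mem_filter, Finset.mem_univ, true_and] at hv ⊢
      exact hBA hv
  have hOL : (O.filter fun v => v ∈ L).card = q ^ 2 - q := by
    have := hsub L (F ∙ x) le_sup_left
    rw [hL2, finrank_span_singleton hx, pow_one] at this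
    rw [← this]
    congr 1
    ext v
    simp only [hO, Finset.mem_filter, Finset.mem_univ, true_and]
    exact ⟨fun h => ⟨h.2, h.1.1⟩, fun h => ⟨⟨h.2, 1, G.one_mem, Submodule.mem_span_singleton_self x,
      Submodule.mem_span_singleton_self y, h.1⟩, h.1⟩⟩
  have hall : (O.filter fun v => v ∈ W) = Finset.univ.filter fun v => v ∈ W ∧ v ∉ P := by
    refine Finset.eq_of_subset_of_card_le (fun v hv => ?_) ?_
    · simp only [Finset.mem_filter, Finset.mem_univ, true_and] at hv ⊢
      exact ⟨hv.2, hOP v hv.1⟩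
    · rw [hsub W P hPW, hW3, hP2, hOW, hOL, Nat.mul_sub]
      exact le_of_eq (by ring_nf)
  have hzy : z + y ∈ O.filter fun v => v ∈ W := by
    rw [hall]
    refine Finset.mem_filter.2 ⟨Finset.mem_univ _, ?_, fun h => hz ?_⟩
    · exact W.add_mem (Submodule.mem_sup_right (Submodule.mem_span_singleton_self z))
        (hPW (Submodule.mem_sup_right (Submodule.mem_span_singleton_self y)))
    · simpa using P.sub_mem h (Submodule.mem_sup_right (Submodule.mem_span_singleton_self y) : y ∈ P)
  obtain ⟨-, g, hg, hgx, hgy, hgv⟩ := (Finset.mem_filter.1 (Finset.mem_filter.1 hzy).1).2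
  exact ⟨g, hg, hgx, hgy, hgv⟩

/-- The stabiliser of a subspace, acting on it. -/
def subStab (G : Subgroup (V ≃ₗ[F] V)) (W : Submodule F V) : Subgroup (V ≃ₗ[F] V) where
  carrier := {g | g ∈ G ∧ ∀ v, g v ∈ W ↔ v ∈ W}
  mul_mem' {a b} ha hb := ⟨G.mul_mem ha.1 hb.1, fun v => (ha.2 (b v)).trans (hb.2 v)⟩
  one_mem' := ⟨G.one_mem, fun _ => Iff.rfl⟩
  inv_mem' {g} hg := ⟨G.inv_mem hg.1, fun v => by
    show g.symm v ∈ W ↔ v ∈ W
    rw [← hg.2 (g.symm v), g.apply_symm_apply]⟩

/-- Restriction to an invariant subspace. -/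
def restrictHom (G : Subgroup (V ≃ₗ[F] V)) (W : Submodule F V) :
    subStab G W →* (W ≃ₗ[F] W) where
  toFun g :=
    { toFun := fun w => ⟨g.1 w, (g.2.2 w).2 w.2⟩
      invFun := fun w => ⟨g.1.symm w, ((subStab G W).inv_mem g.2).2 w |>.2 w.2⟩
      map_add' := fun a b => Subtype.ext (map_add g.1 a.1 b.1)
      map_smul' := fun c a => Subtype.ext (map_smul g.1 c a.1)
      left_inv := fun w => Subtype.ext (g.1.symm_apply_apply w)
      right_inv := fun w => Subtype.ext (g.1.apply_symm_apply w) }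
  map_one' := LinearEquiv.ext fun _ => rfl
  map_mul' _ _ := LinearEquiv.ext fun _ => rfl

theorem restrictHom_apply (W : Submodule F V) (g : subStab G W) (w : W) :
    (restrictHom G W g w : V) = g.1 w := rfl

/-- The stabiliser of a plane is transitive on the nonzero functionals of the plane. -/
theorem TwoTrans.plane_dvd (hS : HasScalars G) (hG : TwoTrans G) (W : Submodule F V)
    (hW : finrank F W = 3) : Nat.card F ^ 3 - 1 ∣ Nat.card G := by
  haveI : Finite (V ≃ₗ[F] V) := DFunLike.finite _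
  haveI : Finite (Dual F W) := DFunLike.finite _
  letI : MulAction ↥(subStab G W) (Dual F W) :=
    MulAction.compHom _ (dualHom.comp (restrictHom G W))
  obtain ⟨ψ₀, hψ₀⟩ : ∃ ψ : Dual F W, ψ ≠ 0 := by
    haveI : Nontrivial W := Module.nontrivial_of_finrank_pos (R := F) (by omega)
    exact exists_ne 0
  have horb : MulAction.orbit ↥(subStab G W) ψ₀ = {(0 : Dual F W)}ᶜ := by
    refine Set.eq_of_subset_of_subset ?_ fun ψ hψ => ?_
    · rintro _ ⟨g, rfl⟩ h
      exact hψ₀ ((LinearEquiv.map_eq_zero_iff (dualHom (restrictHom G W g))).1 h)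
    have hψ0 : ψ ≠ 0 := hψ
    -- map the kernel of `ψ` to the kernel of `ψ₀`
    have key : ∃ g : ↥(subStab G W), ∀ w : W, ψ w = 0 → ψ₀ (restrictHom G W g w) = 0 := by
      by_cases hker : LinearMap.ker ψ ≤ LinearMap.ker ψ₀
      · exact ⟨1, fun w hw => by rw [map_one]; exact hker hw⟩
      obtain ⟨z', hz', hz'0⟩ := SetLike.not_le_iff_exists.1 hker
      rw [LinearMap.mem_ker] at hz' hz'0
      have hk : ∀ φ : Dual F W, φ ≠ 0 → finrank F (LinearMap.ker φ) = 2 := by
        intro φ hφ
        have e1 := LinearMap.finrank_range_add_finrank_ker φ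
        rw [LinearMap.range_eq_top.2 (LinearMap.surjective hφ), finrank_top, Module.finrank_self, hW] at e1
        omega
      obtain ⟨x, hxI, hx0⟩ : ∃ x ∈ LinearMap.ker ψ ⊓ LinearMap.ker ψ₀, x ≠ 0 := by
        refine Submodule.exists_mem_ne_zero_of_ne_bot fun h => ?_
        have e := Submodule.finrank_sup_add_finrank_inf_eq (LinearMap.ker ψ) (LinearMap.ker ψ₀)
        rw [h, finrank_bot, hk _ hψ0, hk _ hψ₀] at e
        have := Submodule.finrank_le (LinearMap.ker ψ ⊔ LinearMap.ker ψ₀)
        omega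
      obtain ⟨hxψ : ψ x = 0, hxψ₀ : ψ₀ x = 0⟩ := hxI
      obtain ⟨z, hz, hzx⟩ : ∃ z : W, ψ₀ z = 0 ∧ z ∉ F ∙ x := by
        by_contra hc
        push Not at hc
        have := Submodule.finrank_mono (show LinearMap.ker ψ₀ ≤ F ∙ x from fun w hw => hc w hw)
        rw [hk _ hψ₀, finrank_span_singleton hx0] at this
        omega
      set y := z' - z with hy
      have hψz : ψ z ≠ 0 := by
        intro h
        have hle : (F ∙ x) ⊔ F ∙ z ≤ LinearMap.ker ψ := by
          refine sup_le ?_ ?_ <;> rw [Submodule.span_singleton_le_iff_mem, LinearMap.mem_ker] <;> assumption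
        have hle0 : (F ∙ x) ⊔ F ∙ z ≤ LinearMap.ker ψ₀ := by
          refine sup_le ?_ ?_ <;> rw [Submodule.span_singleton_le_iff_mem, LinearMap.mem_ker] <;> assumption
        have hf : finrank F ↥((F ∙ x) ⊔ F ∙ z) = 2 := by
          rw [finrank_span_insert hzx, finrank_span_singleton hx0]
        have e1 := Submodule.eq_of_le_of_finrank_eq hle (by rw [hf, hk _ hψ0])
        exact hker (e1 ▸ hle0)
      have hψ₀y : ψ₀ y ≠ 0 := by simp [hy, hz, hz'0]
      have hyx : y ∉ F ∙ x := fun h => hψ₀y (by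
        obtain ⟨c, hc⟩ := Submodule.mem_span_singleton.1 h
        simp [← hc, hxψ₀])
      have hzP : z ∉ (F ∙ x) ⊔ F ∙ y := by
        intro h
        obtain ⟨a', ha', b, hb, hab⟩ := Submodule.mem_sup.1 h
        obtain ⟨α, rfl⟩ := Submodule.mem_span_singleton.1 ha'
        obtain ⟨β, rfl⟩ := Submodule.mem_span_singleton.1 hb
        have h0 := congrArg ψ₀ hab
        simp [hxψ₀, hz, hψ₀y] at h0
        subst h0
        exact hzx (hab ▸ by simp [Submodule.mem_span_singleton])
      have hcoe : ∀ (A : Submodule F W) (w : W), (w : V) ∈ A.map W.subtype ↔ w ∈ A := fun A w => by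
        simp
      have hline : ∀ w : W, (F ∙ w).map W.subtype = F ∙ (w : V) := fun w => by
        rw [Submodule.map_span, Set.image_singleton, Submodule.coe_subtype]
      obtain ⟨g, hg, hgx, hgy, hgz⟩ := hG.cone hS (x := (x : V)) (y := (y : V)) (z := (z : V))
        (by simpa using hx0) (by rw [← hline, hcoe]; exact hyx)
        (by rw [← hline, ← hline, ← Submodule.map_sup, hcoe]; exact hzP)
      have hzy : (z : V) + (y : V) = (z' : V) := by simp [hy]
      rw [hzy] at hgz
      have hspan : ∀ w : W, g w ∈ W := by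
        set T : Submodule F W := (W.comap (g : V →ₗ[F] V)).comap W.subtype with hT
        suffices hT' : T = ⊤ from fun w => (hT' ▸ Submodule.mem_top : w ∈ T)
        have h1 : x ∈ T := show g x ∈ W from (Submodule.span_singleton_le_iff_mem _ _).2 x.2 hgx
        have h2 : y ∈ T := show g y ∈ W from (Submodule.span_singleton_le_iff_mem _ _).2 y.2 hgy
        have h3 : z' ∈ T := show g z' ∈ W from sup_le ((Submodule.span_singleton_le_iff_mem _ _).2 x.2)
          ((Submodule.span_singleton_le_iff_mem _ _).2 z.2) hgz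
        have h4 : z ∈ T := by simpa [hy] using T.sub_mem h3 h2
        refine eq_top_iff.2 (le_trans (le_of_eq ?_) (sup_le (sup_le ((Submodule.span_singleton_le_iff_mem _ _).2 h1)
          ((Submodule.span_singleton_le_iff_mem _ _).2 h2)) ((Submodule.span_singleton_le_iff_mem _ _).2 h4)))
        refine (Submodule.eq_top_of_finrank_eq ?_).symm
        rw [finrank_span_insert hzP, finrank_span_insert hyx, finrank_span_singleton hx0, hW]
      have hmaps : Set.MapsTo g (W : Set V) (W : Set V) := fun w hw => hspan ⟨w, hw⟩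
      have hmem : g ∈ subStab G W := by
        refine ⟨hg, fun v => ⟨fun hv => ?_, fun hv => hspan ⟨v, hv⟩⟩⟩
        obtain ⟨w, hw, hwv⟩ := (((Set.toFinite (W : Set V)).injOn_iff_bijOn_of_mapsTo hmaps).1
          g.injective.injOn).surjOn hv
        rwa [← g.injective hwv]
      refine ⟨⟨g, hmem⟩, ?_⟩
      have hle : (F ∙ x) ⊔ F ∙ z' ≤ LinearMap.ker ψ := by
        refine sup_le ?_ ?_ <;> rw [Submodule.span_singleton_le_iff_mem, LinearMap.mem_ker] <;> assumption
      have hzx' : z' ∉ F ∙ x := fun h => hz'0 (by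
        obtain ⟨c, hc⟩ := Submodule.mem_span_singleton.1 h
        simp [← hc, hxψ₀])
      have e1 := Submodule.eq_of_le_of_finrank_eq hle
        (by rw [finrank_span_insert hzx', finrank_span_singleton hx0, hk _ hψ0])
      intro w hw
      have hw' : w ∈ (F ∙ x) ⊔ F ∙ z' := by rw [e1]; exact hw
      set T : Submodule F W := LinearMap.ker (ψ₀.comp (restrictHom G W ⟨g, hmem⟩).toLinearMap) with hT
      have h1 : x ∈ T := by
        show ψ₀ (restrictHom G W ⟨g, hmem⟩ x) = 0
        obtain ⟨c, hc⟩ := Submodule.mem_span_singleton.1 hgx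
        rw [show restrictHom G W ⟨g, hmem⟩ x = c • x from Subtype.ext hc.symm, map_smul, hxψ₀, smul_zero]
      have h2 : z' ∈ T := by
        show ψ₀ (restrictHom G W ⟨g, hmem⟩ z') = 0
        obtain ⟨a', ha', b, hb, hab⟩ := Submodule.mem_sup.1 hgz
        obtain ⟨α, rfl⟩ := Submodule.mem_span_singleton.1 ha'
        obtain ⟨β, rfl⟩ := Submodule.mem_span_singleton.1 hb
        rw [show restrictHom G W ⟨g, hmem⟩ z' = α • x + β • z from Subtype.ext hab.symm, map_add,
          map_smul, map_smul, hxψ₀, hz, smul_zero, smul_zero, add_zero]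
      exact sup_le ((Submodule.span_singleton_le_iff_mem _ _).2 h1)
        ((Submodule.span_singleton_le_iff_mem _ _).2 h2) hw'
    obtain ⟨g, hg⟩ := key
    -- adjust by a scalar
    obtain ⟨v, hv⟩ : ∃ v : W, ψ v = 1 := LinearMap.surjective hψ0 1
    set c := ψ₀ (restrictHom G W g v) with hc
    have hprop : ∀ w : W, ψ₀ (restrictHom G W g w) = c * ψ w := by
      intro w
      have := hg (w - ψ w • v) (by simp [hv])
      simp [← hc] at this
      rw [sub_eq_zero] at this
      rw [this, mul_comm]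
    have hc0 : c ≠ 0 := by
      intro h0
      refine hψ₀ (LinearMap.ext fun w => ?_)
      obtain ⟨u, rfl⟩ := (restrictHom G W g).surjective w
      simp [hprop, h0]
    have hm : LinearEquiv.smulOfUnit (Units.mk0 c hc0) * g.1⁻¹ ∈ subStab G W := by
      refine (subStab G W).mul_mem ⟨hS _, fun v => ?_⟩ ((subStab G W).inv_mem g.2)
      rw [scalar_apply]
      exact W.smul_mem_iff hc0
    refine ⟨⟨_, hm⟩, LinearMap.ext fun w => ?_⟩
    have hinv : (restrictHom G W ⟨_, hm⟩).symm w = c⁻¹ • restrictHom G W g w := by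
      rw [LinearEquiv.symm_apply_eq]
      refine Subtype.ext ?_
      show (w : V) = c • g.1.symm (c⁻¹ • g.1 w)
      rw [map_smul, g.1.symm_apply_apply, smul_smul, mul_inv_cancel₀ hc0, one_smul]
    show ψ₀ ((restrictHom G W ⟨_, hm⟩).symm w) = ψ w
    rw [hinv, map_smul, hprop, smul_eq_mul, ← mul_assoc, inv_mul_cancel₀ hc0, one_mul]
  have h1 : (MulAction.stabilizer ↥(subStab G W) ψ₀).index = Nat.card F ^ 3 - 1 := by
    rw [MulAction.index_stabilizer, horb, Set.ncard_compl, Set.ncard_singleton,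
      Module.natCard_eq_pow_finrank (K := F), Subspace.dual_finrank_eq, hW]
  rw [← h1]
  exact (Subgroup.index_dvd_card _).trans (Subgroup.card_dvd_of_le fun g hg => hg.1)

end Cfsg.Agent.H26.SingerMax
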