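import Mathlib

/-!
Linear groups that are doubly transitive on the points of a projective space: transitivity on
antiflags, and on the lines of every plane.
-/

set_option autoImplicit false
set_option linter.style.haveILetI false
set_option linter.unusedSectionVars false

namespace Cfsg.Agent.H26.SingerMax

open Module
open scoped Pointwise

variable {F V : Type*} [Field F] [AddCommGroup V] [Module F V]

/-- The group contains all scalars. -/
def HasScalars (G : Subgroup (V ≃ₗ[F] V)) : Prop := ∀ c : Fˣ, LinearEquiv.smulOfUnit c ∈ G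

/-- Doubly transitive on points, for a group containing the scalars. -/
def TwoTrans (G : Subgroup (V ≃ₗ[F] V)) : Prop :=
  ∀ x y x' y' : V, x ≠ 0 → y ∉ F ∙ x → x' ≠ 0 → y' ∉ F ∙ x' →
    ∃ g ∈ G, g x = x' ∧ g y ∈ F ∙ y'

/-- The contragredient action. -/
def dualHom : (V ≃ₗ[F] V) →* (Dual F V ≃ₗ[F] Dual F V) where
  toFun g := g.symm.dualMap
  map_one' := rfl
  map_mul' _ _ := rfl

theorem dualHom_apply (g : V ≃ₗ[F] V) (φ : Dual F V) (v : V) : dualHom g φ v = φ (g.symm v) := rfl

theorem scalar_apply (c : Fˣ) (v : V) : (LinearEquiv.smulOfUnit c : V ≃ₗ[F] V) v = (c : F) • v := rfl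

theorem map_mem_line {g : V ≃ₗ[F] V} {x v : V} (hx : g x ∈ F ∙ x) (hv : v ∈ F ∙ x) : g v ∈ F ∙ x := by
  obtain ⟨c, rfl⟩ := Submodule.mem_span_singleton.1 hv
  rw [map_smul]
  exact Submodule.smul_mem _ _ hx

theorem symm_mem_line {g : V ≃ₗ[F] V} {x : V} (hx : g x ∈ F ∙ x) : g.symm x ∈ F ∙ x := by
  obtain ⟨c, hc⟩ := Submodule.mem_span_singleton.1 hx
  rcases eq_or_ne c 0 with rfl | hc0
  · rw [zero_smul, eq_comm, map_eq_zero_iff g g.injective] at hc
    simp [hc]
  · refine Submodule.mem_span_singleton.2 ⟨c⁻¹, g.injective ?_⟩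
    rw [map_smul, g.apply_symm_apply, ← hc, smul_smul, inv_mul_cancel₀ hc0, one_smul]

/-- The stabiliser of the point `F ∙ x`. -/
def pointStab (G : Subgroup (V ≃ₗ[F] V)) (x : V) : Subgroup (V ≃ₗ[F] V) where
  carrier := {g | g ∈ G ∧ g x ∈ F ∙ x}
  mul_mem' {a b} ha hb :=
    ⟨G.mul_mem ha.1 hb.1, show a (b x) ∈ F ∙ x from map_mem_line ha.2 hb.2⟩
  one_mem' := ⟨G.one_mem, Submodule.mem_span_singleton_self x⟩
  inv_mem' {a} ha := ⟨G.inv_mem ha.1, symm_mem_line ha.2⟩

theorem mem_pointStab {G : Subgroup (V ≃ₗ[F] V)} {x : V} {g : V ≃ₗ[F] V} :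
    g ∈ pointStab G x ↔ g ∈ G ∧ g x ∈ F ∙ x := Iff.rfl

theorem mem_smul_iff {J : Subgroup (V ≃ₗ[F] V)} (g : ↥J) (H : Submodule F V) (v : V) :
    v ∈ g • H ↔ ∃ w ∈ H, (g : V ≃ₗ[F] V) w = v := Iff.rfl

theorem card_fixed_dual [Finite F] [FiniteDimensional F V] (g : V ≃ₗ[F] V) :
    Nat.card {φ : Dual F V // dualHom g φ = φ} = Nat.card {v : V // g v = v} := by
  set f : V →ₗ[F] V := (g.symm : V →ₗ[F] V) - LinearMap.id with hf
  have h1 : Nat.card {φ : Dual F V // dualHom g φ = φ} = Nat.card (LinearMap.ker f.dualMap) := by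
    refine Nat.card_congr (Equiv.subtypeEquivRight fun φ => ?_)
    rw [LinearMap.mem_ker, LinearMap.ext_iff, LinearMap.ext_iff]
    refine forall_congr' fun v => ?_
    simp [hf, dualHom_apply, sub_eq_zero]
  have h2 : Nat.card {v : V // g v = v} = Nat.card (LinearMap.ker f) := by
    refine Nat.card_congr (Equiv.subtypeEquivRight fun v => ?_)
    simp [hf, sub_eq_zero]
    rw [LinearEquiv.symm_apply_eq, eq_comm]
  have h3 : finrank F (LinearMap.ker f.dualMap) = finrank F (LinearMap.ker f) := by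
    have e1 := LinearMap.finrank_range_add_finrank_ker f.dualMap
    have e2 := LinearMap.finrank_range_add_finrank_ker f
    rw [LinearMap.finrank_range_dualMap_eq_finrank_range, Subspace.dual_finrank_eq] at e1
    omega
  rw [h1, h2, Module.natCard_eq_pow_finrank (K := F), h3,
    ← Module.natCard_eq_pow_finrank (K := F)]

/-- A subgroup has as many orbits on vectors as on functionals. -/
theorem card_orbits_eq [Finite F] [Finite V] (J : Subgroup (V ≃ₗ[F] V)) :
    letI : MulAction ↥J (Dual F V) := MulAction.compHom _ (dualHom.comp J.subtype)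
    Nat.card (MulAction.orbitRel.Quotient ↥J (Dual F V)) =
      Nat.card (MulAction.orbitRel.Quotient ↥J V) := by
  classical
  letI : MulAction ↥J (Dual F V) := MulAction.compHom _ (dualHom.comp J.subtype)
  haveI : Finite (V ≃ₗ[F] V) := DFunLike.finite _
  haveI : Finite (Dual F V) := DFunLike.finite _
  letI : Fintype ↥J := Fintype.ofFinite _
  haveI : Fintype (MulAction.orbitRel.Quotient ↥J V) := Fintype.ofFinite _
  haveI : Fintype (MulAction.orbitRel.Quotient ↥J (Dual F V)) := Fintype.ofFinite _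
  haveI : ∀ g : ↥J, Fintype (MulAction.fixedBy V g) := fun g => Fintype.ofFinite _
  haveI : ∀ g : ↥J, Fintype (MulAction.fixedBy (Dual F V) g) := fun g => Fintype.ofFinite _
  have h1 := MulAction.sum_card_fixedBy_eq_card_orbits_mul_card_group ↥J V
  have h2 := MulAction.sum_card_fixedBy_eq_card_orbits_mul_card_group ↥J (Dual F V)
  have h3 : ∀ g : ↥J, Fintype.card (MulAction.fixedBy (Dual F V) g) =
      Fintype.card (MulAction.fixedBy V g) := fun g => by
    rw [← Nat.card_eq_fintype_card, ← Nat.card_eq_fintype_card]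
    exact card_fixed_dual (g : V ≃ₗ[F] V)
  rw [Finset.sum_congr rfl (fun g _ => h3 g), h1] at h2
  simp only [Nat.card_eq_fintype_card]
  exact (Nat.eq_of_mul_eq_mul_right Fintype.card_pos h2).symm

variable [Finite F] [Finite V] {G : Subgroup (V ≃ₗ[F] V)}

theorem TwoTrans.move (hS : HasScalars G) (hG : TwoTrans G) {x z z' : V} (hx : x ≠ 0)
    (hz : z ∉ F ∙ x) (hz' : z' ∉ F ∙ x) : ∃ g ∈ pointStab G x, g z = z' := by
  obtain ⟨g, hg, hgx, hgz⟩ := hG x z x z' hx hz hx hz'
  obtain ⟨c, hc⟩ := Submodule.mem_span_singleton.1 hgz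
  have hc0 : c ≠ 0 := by
    rintro rfl
    rw [zero_smul, eq_comm, map_eq_zero_iff g g.injective] at hc
    exact hz (hc ▸ Submodule.zero_mem _)
  refine ⟨LinearEquiv.smulOfUnit (Units.mk0 c hc0)⁻¹ * g, ⟨G.mul_mem (hS _) hg, ?_⟩, ?_⟩
  · rw [LinearEquiv.mul_apply, scalar_apply, hgx]
    exact Submodule.smul_mem _ _ (Submodule.mem_span_singleton_self x)
  · rw [LinearEquiv.mul_apply, scalar_apply, ← hc, smul_smul]
    simp [hc0]

/-- The stabiliser of a point is transitive on the hyperplanes avoiding it and on those through it. -/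
theorem TwoTrans.move_dual (hS : HasScalars G) (hG : TwoTrans G) {x : V} (hx : x ≠ 0)
    (hdim : 2 ≤ finrank F V) {φ φ' : Dual F V} (hφ : φ ≠ 0) (hφ' : φ' ≠ 0)
    (h : φ x = 0 ↔ φ' x = 0) : ∃ g ∈ pointStab G x, ∀ v, φ' (g v) = φ v := by
  classical
  set J := pointStab G x
  letI : MulAction ↥J (Dual F V) := MulAction.compHom _ (dualHom.comp J.subtype)
  have hsm : ∀ (g : ↥J) (ψ : Dual F V) (v : V), (g • ψ) v = ψ ((g : V ≃ₗ[F] V).symm v) :=
    fun _ _ _ => rfl
  obtain ⟨z, hz⟩ : ∃ z, z ∉ F ∙ x := by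
    by_contra hc
    push Not at hc
    have hle := Submodule.finrank_mono (show (⊤ : Submodule F V) ≤ F ∙ x from fun v _ => hc v)
    rw [finrank_top, finrank_span_singleton hx] at hle
    omega
  -- at most three orbits of vectors
  let rep : Fin 3 → MulAction.orbitRel.Quotient ↥J V := ![⟦0⟧, ⟦x⟧, ⟦z⟧]
  have hrep : Function.Surjective rep := by
    intro Q
    induction Q using Quotient.inductionOn with
    | h v =>
      by_cases hv0 : v = 0
      · exact ⟨0, by subst hv0; rfl⟩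
      by_cases hv : v ∈ F ∙ x
      · obtain ⟨c, rfl⟩ := Submodule.mem_span_singleton.1 hv
        have hc0 : c ≠ 0 := fun h0 => hv0 (by rw [h0, zero_smul])
        refine ⟨1, Quotient.sound ?_⟩
        have hmem : LinearEquiv.smulOfUnit (Units.mk0 c hc0)⁻¹ ∈ J :=
          ⟨hS _, Submodule.smul_mem _ _ (Submodule.mem_span_singleton_self x)⟩
        refine ⟨⟨_, hmem⟩, ?_⟩
        show (LinearEquiv.smulOfUnit (Units.mk0 c hc0)⁻¹ : V ≃ₗ[F] V) (c • x) = x
        rw [scalar_apply, smul_smul]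
        simp [hc0]
      · obtain ⟨g, hg, hgv⟩ := hG.move hS hx hv hz
        exact ⟨2, Quotient.sound ⟨⟨g, hg⟩, hgv⟩⟩
  have hcard : Nat.card (MulAction.orbitRel.Quotient ↥J (Dual F V)) ≤ 3 := by
    rw [card_orbits_eq J]
    simpa using Nat.card_le_card_of_surjective rep hrep
  -- three invariant classes of functionals
  let cls : Dual F V → Fin 3 := fun ψ => if ψ = 0 then 0 else if ψ x = 0 then 1 else 2
  have hinv : ∀ (g : ↥J) (ψ : Dual F V), cls (g • ψ) = cls ψ := by
    intro g ψ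
    have h0 : g • ψ = 0 ↔ ψ = 0 :=
      (map_eq_zero_iff (dualHom (g : V ≃ₗ[F] V)) (dualHom (g : V ≃ₗ[F] V)).injective)
    have h1 : (g • ψ) x = 0 ↔ ψ x = 0 := by
      rw [hsm]
      obtain ⟨c, hc⟩ := Submodule.mem_span_singleton.1 (symm_mem_line g.2.2)
      have hc0 : c ≠ 0 := by
        rintro rfl
        rw [zero_smul, eq_comm, map_eq_zero_iff _ (LinearEquiv.injective _)] at hc
        exact hx hc
      rw [← hc, map_smul, smul_eq_mul, mul_eq_zero, or_iff_right hc0]
    simp only [cls, h0, h1]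
  let qcls : MulAction.orbitRel.Quotient ↥J (Dual F V) → Fin 3 :=
    Quotient.lift cls (by rintro a b ⟨g, rfl⟩; exact hinv g b)
  obtain ⟨φ₂, hφ₂⟩ : ∃ ψ : Dual F V, ψ x ≠ 0 := by
    by_contra hc
    push Not at hc
    exact hx ((Module.forall_dual_apply_eq_zero_iff F x).1 hc)
  obtain ⟨φ₁, hφ₁, hφ₁x⟩ : ∃ ψ : Dual F V, ψ ≠ 0 ∧ ψ x = 0 := by
    obtain ⟨ψ, hψ, hψm⟩ := Submodule.exists_dual_map_eq_bot_of_notMem hz inferInstance
    refine ⟨ψ, fun h0 => hψ (by simp [h0]), ?_⟩
    have : ψ x ∈ (F ∙ x).map ψ := ⟨x, Submodule.mem_span_singleton_self x, rfl⟩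
    rwa [hψm, Submodule.mem_bot] at this
  have hsurj : Function.Surjective qcls := by
    intro i
    fin_cases i
    · exact ⟨⟦0⟧, by simp [qcls, cls]⟩
    · exact ⟨⟦φ₁⟧, by simp [qcls, cls, hφ₁, hφ₁x]⟩
    · refine ⟨⟦φ₂⟧, ?_⟩
      have : φ₂ ≠ 0 := fun h0 => hφ₂ (by simp [h0])
      simp [qcls, cls, hφ₂, this]
  haveI : Finite (Dual F V) := DFunLike.finite _
  have hinj : Function.Injective qcls := by
    have hc3 : Nat.card (MulAction.orbitRel.Quotient ↥J (Dual F V)) = 3 :=
      le_antisymm hcard (by simpa using Nat.card_le_card_of_surjective qcls hsurj)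
    exact (hsurj.bijective_of_nat_card_le (by simp [hc3])).1
  have heq : (⟦φ'⟧ : MulAction.orbitRel.Quotient ↥J (Dual F V)) = ⟦φ⟧ := hinj (by
    show cls φ' = cls φ
    simp only [cls, hφ, hφ', if_false, h])
  obtain ⟨g, hg⟩ := Quotient.exact heq
  refine ⟨g, g.2, fun v => ?_⟩
  have := congrArg (fun ψ : Dual F V => ψ ((g : V ≃ₗ[F] V) v)) hg
  simp only [hsm, LinearEquiv.symm_apply_apply] at this
  exact this.symm

/-- An antiflag stabiliser is transitive on the points of its hyperplane. -/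
theorem TwoTrans.move_antiflag (hS : HasScalars G) (hG : TwoTrans G) {x : V} {φ : Dual F V}
    (hx : φ x ≠ 0) (hdim : 2 ≤ finrank F V) {y y' : V} (hy : φ y = 0) (hy0 : y ≠ 0)
    (hy' : φ y' = 0) (hy0' : y' ≠ 0) :
    ∃ g ∈ pointStab G x, (∀ v, φ v = 0 → φ (g v) = 0) ∧ g y = y' := by
  classical
  haveI : Finite (V ≃ₗ[F] V) := DFunLike.finite _
  have hx0 : x ≠ 0 := fun h0 => hx (by rw [h0, map_zero])
  have hφ : φ ≠ 0 := fun h0 => hx (by rw [h0]; rfl)
  set q := Nat.card F with hq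
  set d := finrank F V with hd
  have hq1 : 2 ≤ q := Finite.one_lt_card
  set J := pointStab G x with hJ
  set H := LinearMap.ker φ with hH
  set K := MulAction.stabilizer ↥J H with hK
  -- orbit of the hyperplane
  have horbH : MulAction.orbit ↥J H =
      (fun ψ : {ψ : Dual F V // ψ x = 1} => LinearMap.ker ψ.1) '' Set.univ := by
    ext W
    simp only [MulAction.mem_orbit_iff, Set.image_univ, Set.mem_range]
    constructor
    · rintro ⟨g, rfl⟩
      set ψ0 : Dual F V := φ ∘ₗ ((g : V ≃ₗ[F] V).symm : V →ₗ[F] V) with hψ0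
      have hne : ψ0 x ≠ 0 := by
        obtain ⟨c, hc⟩ := Submodule.mem_span_singleton.1 (symm_mem_line g.2.2)
        rcases eq_or_ne c 0 with rfl | hc0
        · rw [zero_smul, eq_comm, map_eq_zero_iff _ (LinearEquiv.injective _)] at hc
          exact absurd hc hx0
        · simp [hψ0, ← hc, hc0, hx]
      refine ⟨⟨(ψ0 x)⁻¹ • ψ0, by simp [hne]⟩, ?_⟩
      ext v
      simp only [LinearMap.mem_ker, LinearMap.smul_apply, smul_eq_mul, mul_eq_zero, inv_eq_zero, hne,
        false_or]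
      rw [mem_smul_iff]
      constructor
      · intro hv
        exact ⟨(g : V ≃ₗ[F] V).symm v, hv, (g : V ≃ₗ[F] V).apply_symm_apply v⟩
      · rintro ⟨w, hw, rfl⟩
        show φ ((g : V ≃ₗ[F] V).symm ((g : V ≃ₗ[F] V) w)) = 0
        rw [LinearEquiv.symm_apply_apply]
        exact hw
    · rintro ⟨⟨ψ, hψ⟩, rfl⟩
      obtain ⟨g, hg, hgv⟩ := hG.move_dual hS hx0 hdim hφ
        (fun h0 : ψ = 0 => by simp [h0] at hψ) (by simp [hx, hψ])
      refine ⟨⟨g, hg⟩, ?_⟩
      ext v
      rw [mem_smul_iff]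
      constructor
      · rintro ⟨w, hw, rfl⟩
        exact (hgv w).trans hw
      · intro hv
        exact ⟨g.symm v, by rw [hH, LinearMap.mem_ker, ← hgv, g.apply_symm_apply]; exact hv,
          g.apply_symm_apply v⟩
  have hinjker : Function.Injective
      (fun ψ : {ψ : Dual F V // ψ x = 1} => LinearMap.ker ψ.1) := by
    rintro ⟨a, ha⟩ ⟨b, hb⟩ hab
    refine Subtype.ext (LinearMap.ext fun v => ?_)
    have hv : v - a v • x ∈ LinearMap.ker b := by
      rw [← show LinearMap.ker a = LinearMap.ker b from hab]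
      simp [ha]
    simp [hb] at hv
    exact (sub_eq_zero.1 hv).symm
  haveI : Finite (Dual F V) := DFunLike.finite _
  have hcardψ : Nat.card {ψ : Dual F V // ψ x = 1} * q = q ^ d := by
    obtain ⟨ψ₁, hψ₁⟩ : ∃ ψ : Dual F V, ψ x = 1 := ⟨(φ x)⁻¹ • φ, by simp [hx]⟩
    set ev : Dual F V →ₗ[F] F := Dual.eval F V x with hev
    have e1 := LinearMap.finrank_range_add_finrank_ker ev
    have hr : LinearMap.range ev = ⊤ := by
      refine LinearMap.range_eq_top.2 fun a => ⟨a • ψ₁, ?_⟩
      simp [hev, hψ₁]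
    rw [hr, finrank_top, Module.finrank_self, Subspace.dual_finrank_eq] at e1
    have e2 : Nat.card {ψ : Dual F V // ψ x = 1} = Nat.card (LinearMap.ker ev) := by
      refine Nat.card_congr ⟨fun a => ⟨a.1 - ψ₁, by simp [hev, a.2, hψ₁]⟩,
        fun b => ⟨b.1 + ψ₁, ?_⟩, fun a => by simp, fun b => by simp⟩
      have hb : b.1 x = 0 := b.2
      simp [hψ₁, hb]
    rw [e2, Module.natCard_eq_pow_finrank (K := F), ← pow_succ]
    congr 1
    omega
  have hK1 : Nat.card K * q ^ (d - 1) = Nat.card ↥J := by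
    have h1 := Subgroup.card_mul_index K
    rw [hK, MulAction.index_stabilizer, horbH, ← Nat.card_coe_set_eq,
      Nat.card_image_of_injective hinjker, Nat.card_coe_set_eq, Set.ncard_univ] at h1
    have h2 : Nat.card {ψ : Dual F V // ψ x = 1} = q ^ (d - 1) :=
      Nat.eq_of_mul_eq_mul_right (by omega : 0 < q)
        (by rw [hcardψ, ← pow_succ]; congr 1; omega)
    rw [h2] at h1
    exact h1
  -- orbit of the vector
  have hyx : y ∉ F ∙ x := fun h0 => by
    obtain ⟨c, rfl⟩ := Submodule.mem_span_singleton.1 h0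
    simp [hx] at hy
    simp [hy] at hy0
  have horby : MulAction.orbit ↥J y = ((F ∙ x : Submodule F V) : Set V)ᶜ := by
    ext v
    constructor
    · rintro ⟨g, rfl⟩ hv
      refine hyx ?_
      have := map_mem_line (symm_mem_line g.2.2) hv
      rwa [show (g : V ≃ₗ[F] V).symm (g • y) = y from (g : V ≃ₗ[F] V).symm_apply_apply y] at this
    · intro hv
      obtain ⟨g, hg, hgv⟩ := hG.move hS hx0 hyx hv
      exact ⟨⟨g, hg⟩, hgv⟩
  have hJ1 : Nat.card (MulAction.stabilizer ↥J y) * (q ^ d - q) = Nat.card ↥J := by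
    have h1 := Subgroup.card_mul_index (MulAction.stabilizer ↥J y)
    rw [MulAction.index_stabilizer, horby, Set.ncard_compl, ← Nat.card_coe_set_eq] at h1
    rw [show Nat.card ((F ∙ x : Submodule F V) : Set V) = q from ?_,
      Module.natCard_eq_pow_finrank (K := F) (V := V)] at h1
    · exact h1
    · show Nat.card (F ∙ x : Submodule F V) = q
      rw [Module.natCard_eq_pow_finrank (K := F), finrank_span_singleton hx0, pow_one]
  -- orbit of the vector under the antiflag stabiliser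
  have hsub : MulAction.orbit K y ⊆ (H : Set V) \ {0} := by
    rintro _ ⟨g, rfl⟩
    refine ⟨?_, fun h0 => hy0 ?_⟩
    · have hmem : g.1 • H = H := g.2
      show g.1 • y ∈ H
      rw [← hmem]
      exact Submodule.smul_mem_pointwise_smul y g.1 H hy
    · exact ((g.1 : V ≃ₗ[F] V).map_eq_zero_iff).1 h0
  have hH1 : ((H : Set V) \ {0}).ncard = q ^ (d - 1) - 1 := by
    rw [Set.ncard_sdiff_singleton_of_mem (by simp [hH] : (0 : V) ∈ (H : Set V)), ← Nat.card_coe_set_eq]
    congr 1
    show Nat.card H = _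
    rw [Module.natCard_eq_pow_finrank (K := F), hH]
    have e1 := LinearMap.finrank_range_add_finrank_ker φ
    rw [LinearMap.range_eq_top.2 (LinearMap.surjective hφ), finrank_top, Module.finrank_self] at e1
    congr 1
    omega
  set O := (MulAction.orbit K y).ncard with hO
  have hdiv : q ^ (d - 1) - 1 ∣ O := by
    have h2 : Nat.card (MulAction.stabilizer K y) * O = Nat.card K := by
      rw [hO, ← MulAction.index_stabilizer, Subgroup.card_mul_index]
    have h3 : Nat.card (MulAction.stabilizer K y) ∣ Nat.card (MulAction.stabilizer ↥J y) := by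
      refine Subgroup.card_dvd_of_injective
        (((K.subtype).comp (MulAction.stabilizer K y).subtype).codRestrict _ fun a => ?_) ?_
      · exact a.2
      · intro a b hab
        exact Subtype.ext (Subtype.ext (congrArg Subtype.val hab :))
    obtain ⟨t, ht⟩ := h3
    have hs0 : 0 < Nat.card (MulAction.stabilizer K y) := Nat.card_pos
    have h4 : t * (q ^ d - q) = O * q ^ (d - 1) := Nat.eq_of_mul_eq_mul_left hs0 (by
      rw [← mul_assoc, ← mul_assoc, ← ht, hJ1, h2, hK1])
    have hcop : (q ^ (d - 1) - 1).Coprime (q ^ (d - 1)) :=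
      (Nat.coprime_self_sub_left (Nat.one_le_pow _ _ (by omega))).2 (Nat.coprime_one_left _)
    refine hcop.dvd_of_dvd_mul_right (Dvd.intro_left (t * q) ?_)
    rw [← h4, mul_assoc, Nat.mul_sub, mul_one, ← pow_succ']
    congr 3
    omega
  have hOall : MulAction.orbit K y = (H : Set V) \ {0} := by
    refine Set.eq_of_subset_of_ncard_le hsub ?_ (Set.toFinite _)
    rw [hH1]
    exact Nat.le_of_dvd ((Set.ncard_pos (Set.toFinite _)).2 ⟨y, MulAction.mem_orbit_self y⟩) hdiv
  obtain ⟨g, hg⟩ : y' ∈ MulAction.orbit K y := by rw [hOall]; exact ⟨hy', by simpa using hy0'⟩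
  refine ⟨_, g.1.2, fun v hv => ?_, hg⟩
  have hmem : g.1 • H = H := g.2
  show g.1 • v ∈ H
  rw [← hmem]
  exact Submodule.smul_mem_pointwise_smul v g.1 H hv

/-- The stabiliser of two points is transitive on the hyperplanes through the first and not the second. -/
theorem TwoTrans.move_pair (hS : HasScalars G) (hG : TwoTrans G) (hdim : 2 ≤ finrank F V)
    {x y : V} (hx : x ≠ 0) {φ φ' : Dual F V} (h1 : φ x = 0) (h2 : φ y ≠ 0) (h1' : φ' x = 0)
    (h2' : φ' y ≠ 0) :
    ∃ g ∈ G, g x ∈ F ∙ x ∧ g y ∈ F ∙ y ∧ ∀ v, φ' (g v) = 0 ↔ φ v = 0 := by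
  have hy : y ≠ 0 := fun h0 => h2 (by rw [h0, map_zero])
  obtain ⟨g, ⟨hg, hgy⟩, hgv⟩ := hG.move_dual hS hy hdim (φ := φ) (φ' := φ') (fun h0 => h2 (by rw [h0]; rfl))
    (fun h0 => h2' (by rw [h0]; rfl)) (by simp [h2, h2'])
  obtain ⟨k, ⟨hk, hky⟩, hkv, hkx⟩ := hG.move_antiflag hS h2' hdim (y := g x) (y' := x)
    (by rw [hgv, h1]) (fun h0 => hx ((g.map_eq_zero_iff).1 h0)) h1' hx
  refine ⟨k * g, G.mul_mem hk hg, ?_, show k (g y) ∈ F ∙ y from map_mem_line hky hgy, fun v => ?_⟩
  · show k (g x) ∈ _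
    rw [hkx]
    exact Submodule.mem_span_singleton_self x
  · show φ' (k (g v)) = 0 ↔ _
    refine ⟨fun h => ?_, fun h => hkv _ (by rw [hgv, h])⟩
    rw [← hgv v]
    have hinj : Set.InjOn k {w | φ' w = 0} := k.injective.injOn
    have hmaps : Set.MapsTo k {w | φ' w = 0} {w | φ' w = 0} := fun w hw => hkv w hw
    have hbij := ((Set.toFinite _).injOn_iff_bijOn_of_mapsTo hmaps).1 hinj
    obtain ⟨w, hw, hwe⟩ := hbij.surjOn h
    rw [← k.injective hwe]
    exact hw

end Cfsg.Agent.H26.SingerMax
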