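import Cfsg.Agent.H26.SingerMax.Transvection

/-!
Elements of order prime to the characteristic: fixed space, moved space and centraliser.
-/

set_option autoImplicit false
set_option linter.unusedSectionVars false
set_option linter.style.haveILetI false

namespace Cfsg.Agent.H26.SingerMax

open Module

variable {F V : Type*} [Field F] [AddCommGroup V] [Module F V]

/-- The fixed space. -/
def fixSp (g : V ≃ₗ[F] V) : Submodule F V := LinearMap.ker ((g : V →ₗ[F] V) - LinearMap.id)

/-- The moved space. -/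
def movSp (g : V ≃ₗ[F] V) : Submodule F V := LinearMap.range ((g : V →ₗ[F] V) - LinearMap.id)

theorem mem_fixSp {g : V ≃ₗ[F] V} {v : V} : v ∈ fixSp g ↔ g v = v := by
  simp [fixSp, sub_eq_zero]

theorem sub_mem_movSp (g : V ≃ₗ[F] V) (v : V) : g v - v ∈ movSp g := ⟨v, by simp⟩

theorem pow_apply_fixed {g : V ≃ₗ[F] V} {v : V} (h : g v = v) (k : ℕ) : (g ^ k) v = v := by
  induction k with
  | zero => rfl
  | succ k ih => rw [pow_succ, LinearEquiv.mul_apply, h, ih]

theorem disjoint_fix_mov {g : V ≃ₗ[F] V} {N : ℕ} (hN : g ^ N = 1) (hNF : (N : F) ≠ 0) :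
    fixSp g ⊓ movSp g = ⊥ := by
  rw [eq_bot_iff]
  rintro v ⟨hv, ⟨w, hw⟩⟩
  have hv' : g v = v := mem_fixSp.1 hv
  have hw' : g w = w + v := by
    rw [← hw]; simp
  have hk : ∀ k : ℕ, (g ^ k) w = w + (k : F) • v := by
    intro k
    induction k with
    | zero => simp
    | succ k ih =>
      rw [pow_succ', LinearEquiv.mul_apply, ih, map_add, map_smul, hw', hv', Nat.cast_succ, add_smul,
        one_smul]
      abel
  have := hk N
  rw [hN] at this
  simp only [LinearEquiv.coe_one, id_eq, left_eq_add, smul_eq_zero, hNF, false_or] at this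
  simp [this]

theorem finrank_fix_add_mov [FiniteDimensional F V] (g : V ≃ₗ[F] V) :
    finrank F (fixSp g) + finrank F (movSp g) = finrank F V := by
  have := LinearMap.finrank_range_add_finrank_ker ((g : V →ₗ[F] V) - LinearMap.id)
  rw [fixSp, movSp]
  omega

/-- An element of prime power order without fixed vectors on an invariant subspace. -/
theorem dvd_of_fixed_point_free [Finite F] [Finite V] {r : ℕ} [hr : Fact r.Prime] {g : V ≃ₗ[F] V}
    {k : ℕ} (hk : g ^ r ^ k = 1) (W : Submodule F V) (hW : ∀ w ∈ W, g w ∈ W)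
    (hfree : ∀ w ∈ W, g w = w → w = 0) : r ∣ Nat.card F ^ finrank F W - 1 := by
  haveI : Finite (V ≃ₗ[F] V) := DFunLike.finite _
  have hpow : ∀ (i : ℕ) (w : V), w ∈ W → (g ^ i) w ∈ W := by
    intro i
    induction i with
    | zero => exact fun w hw => hw
    | succ i ih => exact fun w hw => by rw [pow_succ', LinearEquiv.mul_apply]; exact hW _ (ih w hw)
  have hinv : ∀ c : ↥(Subgroup.zpowers g), ∀ w ∈ W, (c : V ≃ₗ[F] V) w ∈ W := by
    rintro ⟨c, hc⟩ w hw
    obtain ⟨i, rfl⟩ := (Submonoid.mem_powers_iff _ _).1 ((mem_powers_iff_mem_zpowers).2 hc)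
    exact hpow i w hw
  letI : MulAction ↥(Subgroup.zpowers g) W :=
    { smul := fun c w => ⟨(c : V ≃ₗ[F] V) w, hinv c w w.2⟩
      one_smul := fun _ => rfl
      mul_smul := fun _ _ _ => rfl }
  have hp : IsPGroup r ↥(Subgroup.zpowers g) := by
    rintro ⟨c, hc⟩
    obtain ⟨i, rfl⟩ := Subgroup.mem_zpowers_iff.1 hc
    refine ⟨k, Subtype.ext ?_⟩
    show (g ^ i) ^ r ^ k = 1
    rw [← zpow_natCast, ← zpow_mul, mul_comm, zpow_mul, zpow_natCast, hk, one_zpow]
  have h := hp.card_modEq_card_fixedPoints W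
  have h1 : MulAction.fixedPoints ↥(Subgroup.zpowers g) W = {0} := by
    ext w
    constructor
    · intro hw
      exact Subtype.ext (hfree w w.2 (congrArg Subtype.val (hw ⟨g, Subgroup.mem_zpowers g⟩)))
    · rintro rfl c
      exact Subtype.ext (map_zero (c : V ≃ₗ[F] V))
  have hc : Nat.card (MulAction.fixedPoints ↥(Subgroup.zpowers g) W) = 1 := by rw [h1]; simp
  rw [hc, Module.natCard_eq_pow_finrank (K := F)] at h
  have h2 : 1 ≤ Nat.card F ^ finrank F W := Nat.one_le_pow _ _ Nat.card_pos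
  exact (Nat.modEq_iff_dvd' h2).1 h.symm

/-- Rank one unipotent elements are transvections. -/
theorem exists_hasTr {G : Subgroup (V ≃ₗ[F] V)} {g : V ≃ₗ[F] V} (hg : g ∈ G) (hne : g ≠ 1)
    {v : V} (hr : ∀ w, g w - w ∈ F ∙ v) (hv : g v = v) :
    ∃ (a : V) (φ : Dual F V), a ≠ 0 ∧ φ ≠ 0 ∧ HasTr G a φ := by
  classical
  have hv0 : v ≠ 0 := by
    rintro rfl
    refine hne (LinearEquiv.ext fun w => sub_eq_zero.1 ?_)
    simpa using hr w
  choose c hc using fun w => Submodule.mem_span_singleton.1 (hr w)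
  have hadd : ∀ w w', c (w + w') = c w + c w' := fun w w' =>
    smul_left_injective F hv0 (by simp only [hc, map_add, add_smul]; abel)
  have hsm : ∀ (a : F) w, c (a • w) = a * c w := fun a w =>
    smul_left_injective F hv0 (by simp only [hc, map_smul, mul_smul, smul_sub])
  let φ : Dual F V := { toFun := c, map_add' := hadd, map_smul' := hsm }
  refine ⟨v, φ, hv0, fun h0 => hne (LinearEquiv.ext fun w => sub_eq_zero.1 ?_), ?_, g, hg, fun w => ?_⟩
  · show g w - w = 0
    rw [← hc w, show c w = φ w from rfl, h0]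
    simp
  · show c v = 0
    exact smul_left_injective F hv0 (by simp [hc, hv])
  · show g w = w + c w • v
    rw [hc]
    abel

end Cfsg.Agent.H26.SingerMax
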