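import Cfsg.Agent.H26.SingerMax.Semisimple
import Cfsg.Agent.Arith.LargePrimDiv

/-!
Dimension five: a Sylow subgroup, for a primitive prime divisor of `q ^ 3 - 1`, of the stabiliser of
two points, and the action of its normalizer.
-/

set_option autoImplicit false
set_option linter.unusedSectionVars false
set_option linter.style.haveILetI false

namespace Cfsg.Agent.H26.SingerMax

open Module

variable {F V : Type*} [Field F] [AddCommGroup V] [Module F V] [Finite F] [Finite V]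
  {G : Subgroup (V ≃ₗ[F] V)}

theorem mul_inv_apply (n g : V ≃ₗ[F] V) (v : V) : (n * g * n⁻¹) (n v) = n (g v) := by
  show n (g (n.symm (n v))) = _
  rw [n.symm_apply_apply]

theorem TwoTrans.exists_torus_five (hS : HasScalars G) (hG : TwoTrans G)
    (hdim : finrank F V = 5) :
    ∃ (r : ℕ) (R : Subgroup (V ≃ₗ[F] V)) (x y : V), r.Prime ∧
      r ∣ Nat.card F ^ 3 - 1 ∧ ¬ r ∣ Nat.card F ^ 2 - 1 ∧ ¬ r ∣ Nat.card F - 1 ∧ ((r : ℕ) : F) ≠ 0 ∧
      x ≠ 0 ∧ y ∉ F ∙ x ∧ IsPGroup r R ∧ R ≠ ⊥ ∧ R ≤ G ∧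
      (∀ g ∈ R, g x = x ∧ g y = y) ∧
      ∀ x' y' : V, x' ≠ 0 → y' ∉ F ∙ x' → (∀ g ∈ R, g x' = x' ∧ g y' = y') →
        ∃ n ∈ G, (∀ g, g ∈ R ↔ n * g * n⁻¹ ∈ R) ∧ n x' ∈ F ∙ x ∧ n y' ∈ F ∙ y := by
  classical
  haveI : Finite (V ≃ₗ[F] V) := DFunLike.finite _
  set q := Nat.card F with hq
  have hq1 : 2 ≤ q := Finite.one_lt_card
  obtain ⟨r, hr, hr3, hrk⟩ := Cfsg.Agent.Arith.exists_isPPD (a := q) (n := 3) hq1 (by norm_num)
    (by omega) (by omega)
  haveI := Fact.mk hr
  have hr1 : ¬ r ∣ q - 1 := by simpa using hrk 1 (by norm_num) (by norm_num)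
  have hr2 : ¬ r ∣ q ^ 2 - 1 := hrk 2 (by norm_num) (by norm_num)
  have hrq : ¬ r ∣ q := fun h => by
    have h1 : r ∣ q ^ 3 := dvd_pow h (by norm_num)
    have h2 : 1 ≤ q ^ 3 := Nat.one_le_pow _ _ (by omega)
    have := Nat.dvd_sub h1 hr3
    rw [Nat.sub_sub_self h2] at this
    exact hr.one_lt.ne' (Nat.dvd_one.1 this)
  have hrF : ((r : ℕ) : F) ≠ 0 := by
    intro h0
    obtain ⟨p, hp⟩ := CharP.exists F
    haveI := hp
    letI := Fintype.ofFinite F
    obtain ⟨e, hpp, he⟩ := FiniteField.card F p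
    have hpr : p = r := (Nat.prime_dvd_prime_iff_eq hpp hr).1 ((CharP.cast_eq_zero_iff F p r).1 h0)
    refine hrq ?_
    rw [hq, Nat.card_eq_fintype_card, he, ← hpr]
    exact dvd_pow_self p e.pos.ne'
  have hmod : ∀ a, r ∣ q ^ (a + 3) - 1 → r ∣ q ^ a - 1 := by
    intro a h
    have h3 : 1 ≤ q ^ 3 := Nat.one_le_pow _ _ (by omega)
    have hle : 1 ≤ q ^ a := Nat.one_le_pow _ _ (by omega)
    have e : q ^ (a + 3) - 1 = (q ^ 3 - 1) * q ^ a + (q ^ a - 1) := by
      rw [Nat.sub_mul, one_mul, ← pow_add, add_comm 3 a]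
      have : q ^ a ≤ q ^ (a + 3) := Nat.pow_le_pow_right (by omega) (by omega)
      omega
    rw [e] at h
    exact (Nat.dvd_add_right (hr3.mul_right _)).1 h
  have hr4 : ¬ r ∣ q ^ 4 - 1 := fun h => hr1 (by simpa using hmod 1 h)
  have hr5 : ¬ r ∣ q ^ 5 - 1 := fun h => hr2 (hmod 2 h)
  -- the prime divides the order of the group
  obtain ⟨b⟩ : Nonempty (Basis (Fin 5) F V) := ⟨Module.finBasisOfFinrankEq F V hdim⟩
  set W : Submodule F V := Submodule.span F (Set.range (b ∘ Fin.castLE (show 3 ≤ 5 by norm_num)))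
  have hW : finrank F W = 3 := by
    rw [finrank_span_eq_card (b.linearIndependent.comp _ (Fin.castLE_injective _))]
    simp
  have hrG : r ∣ Nat.card G := hr3.trans (hG.plane_dvd hS W hW)
  -- two points
  set x := b 0
  set y := b 1
  have hx : x ≠ 0 := b.ne_zero 0
  have hy : y ∉ F ∙ x := fun h => by
    obtain ⟨c, hc⟩ := Submodule.mem_span_singleton.1 h
    have := congrArg (b.coord 1) hc
    simp [x, y] at this
  have horbx : MulAction.orbit ↥G x = {(0 : V)}ᶜ := by
    ext v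
    constructor
    · rintro ⟨g, rfl⟩ h
      exact hx ((g : V ≃ₗ[F] V).map_eq_zero_iff.1 h)
    · intro hv
      obtain ⟨w, hw⟩ : ∃ w, w ∉ F ∙ v := by
        by_contra hc
        push Not at hc
        have hle := Submodule.finrank_mono (show (⊤ : Submodule F V) ≤ F ∙ v from fun u _ => hc u)
        rw [finrank_top, finrank_span_singleton hv] at hle
        omega
      obtain ⟨g, hg, hgv, -⟩ := hG x y v w hx hy hv hw
      exact ⟨⟨g, hg⟩, hgv⟩
  have hG1 : r ∣ Nat.card (MulAction.stabilizer ↥G x) := by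
    have h1 := Subgroup.card_mul_index (MulAction.stabilizer ↥G x)
    rw [MulAction.index_stabilizer, horbx, Set.ncard_compl, Set.ncard_singleton,
      Module.natCard_eq_pow_finrank (K := F) (V := V), hdim] at h1
    rw [← h1] at hrG
    exact (hr.dvd_mul.1 hrG).resolve_right hr5
  set J := pointStab G x with hJ
  have hrJ : r ∣ Nat.card J := by
    refine hG1.trans (Subgroup.card_dvd_of_injective
      ((G.subtype.comp (MulAction.stabilizer ↥G x).subtype).codRestrict J fun g => ⟨g.1.2, ?_⟩) ?_)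
    · have : (g.1 : V ≃ₗ[F] V) x = x := g.2
      show (g.1 : V ≃ₗ[F] V) x ∈ F ∙ x
      rw [this]
      exact Submodule.mem_span_singleton_self x
    · exact fun a b hab => Subtype.ext (Subtype.ext (congrArg Subtype.val hab :))
  have hrJy : r ∣ Nat.card (MulAction.stabilizer ↥J y) := by
    have horby : MulAction.orbit ↥J y = ((F ∙ x : Submodule F V) : Set V)ᶜ := by
      ext v
      constructor
      · rintro ⟨g, rfl⟩ hv
        refine hy ?_
        have := map_mem_line (symm_mem_line g.2.2) hv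
        rwa [show (g : V ≃ₗ[F] V).symm (g • y) = y from (g : V ≃ₗ[F] V).symm_apply_apply y] at this
      · intro hv
        obtain ⟨g, hg, hgv⟩ := hG.move hS hx hy hv
        exact ⟨⟨g, hg⟩, hgv⟩
    have h1 := Subgroup.card_mul_index (MulAction.stabilizer ↥J y)
    rw [MulAction.index_stabilizer, horby, Set.ncard_compl, ← Nat.card_coe_set_eq,
      show Nat.card ((F ∙ x : Submodule F V) : Set V) = q from ?_,
      Module.natCard_eq_pow_finrank (K := F) (V := V), hdim] at h1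
    · rw [← h1] at hrJ
      refine (hr.dvd_mul.1 hrJ).resolve_right fun h => ?_
      have e : q ^ 5 - q = q * (q ^ 4 - 1) := by rw [Nat.mul_sub, mul_one, ← pow_succ']
      rw [e] at h
      exact (hr.dvd_mul.1 h).elim hrq hr4
    · show Nat.card (F ∙ x : Submodule F V) = q
      rw [Module.natCard_eq_pow_finrank (K := F), finrank_span_singleton hx, pow_one]
  -- the Sylow subgroup
  set T := pointStab G x ⊓ pointStab G y with hT
  have hrT : r ∣ Nat.card T := by
    refine hrJy.trans (Subgroup.card_dvd_of_injective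
      ((J.subtype.comp (MulAction.stabilizer ↥J y).subtype).codRestrict T fun g => ⟨g.1.2, g.1.2.1, ?_⟩) ?_)
    · have : (g.1 : V ≃ₗ[F] V) y = y := g.2
      show (g.1 : V ≃ₗ[F] V) y ∈ F ∙ y
      rw [this]
      exact Submodule.mem_span_singleton_self y
    · exact fun a b hab => Subtype.ext (Subtype.ext (congrArg Subtype.val hab :))
  obtain ⟨P⟩ := (inferInstance : Nonempty (Sylow r ↥T))
  set R := (P : Subgroup ↥T).map T.subtype with hR
  have hRp : IsPGroup r R := P.2.map _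
  have hRT : R ≤ T := Subgroup.map_subtype_le _
  have hfixeq : ∀ (g : V ≃ₗ[F] V) (v : V), (∃ k : ℕ, g ^ r ^ k = 1) → g v ∈ F ∙ v → g v = v := by
    rintro g v ⟨k, hk⟩ hgv
    rcases eq_or_ne v 0 with rfl | hv
    · exact map_zero g
    obtain ⟨c, hc⟩ := Submodule.mem_span_singleton.1 hgv
    have hpow : ∀ i : ℕ, (g ^ i) v = c ^ i • v := by
      intro i
      induction i with
      | zero => simp
      | succ i ih => rw [pow_succ', LinearEquiv.mul_apply, ih, map_smul, ← hc, smul_smul, ← pow_succ]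
    have hck : c ^ r ^ k = 1 := by
      have := hpow (r ^ k)
      rw [hk] at this
      refine smul_left_injective F hv ?_
      simpa using this.symm
    have hc0 : c ≠ 0 := by
      rintro rfl
      simp [zero_pow (pow_ne_zero k hr.ne_zero)] at hck
    have hcop : Nat.Coprime (r ^ k) (q - 1) := (Nat.Prime.coprime_iff_not_dvd hr).2 hr1 |>.pow_left k
    have hcq : c ^ (q - 1) = 1 := by
      letI := Fintype.ofFinite F
      rw [hq, Nat.card_eq_fintype_card]
      exact FiniteField.pow_card_sub_one_eq_one c hc0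
    have := pow_gcd_eq_one.2 ⟨hck, hcq⟩
    rw [hcop, pow_one] at this
    rw [← hc, this, one_smul]
  have hRfix : ∀ g ∈ R, g x = x ∧ g y = y := by
    intro g hg
    obtain ⟨k, hk⟩ := hRp ⟨g, hg⟩
    have hk' : g ^ r ^ k = 1 := congrArg Subtype.val hk
    exact ⟨hfixeq g x ⟨k, hk'⟩ (hRT hg).1.2, hfixeq g y ⟨k, hk'⟩ (hRT hg).2.2⟩
  have hRne : R ≠ ⊥ := by
    intro h
    have h1 : (P : Subgroup ↥T) = ⊥ := (Subgroup.map_eq_bot_iff_of_injective _ T.subtype_injective).1 h
    have h2 := P.dvd_card_of_dvd_card hrT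
    rw [h1, Subgroup.card_bot] at h2
    exact hr.one_lt.ne' (Nat.dvd_one.1 h2)
  refine ⟨r, R, x, y, hr, hr3, hr2, hr1, hrF, hx, hy, hRp, hRne, fun g hg => (hRT hg).1.1, hRfix, ?_⟩
  intro x' y' hx' hy' hfix
  obtain ⟨g₀, hg₀, hgx, hgy⟩ := hG x' y' x y hx' hy' hx hy
  set R' := R.map (MulAut.conj g₀).toMonoidHom with hR'
  have hR'T : R' ≤ T := by
    rintro _ ⟨g, hg, rfl⟩
    have hm : MulAut.conj g₀ g ∈ G := G.mul_mem (G.mul_mem hg₀ (hRT hg).1.1) (G.inv_mem hg₀)
    refine ⟨⟨hm, ?_⟩, hm, ?_⟩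
    · show (g₀ * g * g₀⁻¹) x ∈ F ∙ x
      rw [← hgx, mul_inv_apply, (hfix g hg).1]
      exact Submodule.mem_span_singleton_self _
    · show (g₀ * g * g₀⁻¹) y ∈ F ∙ y
      obtain ⟨c, hc⟩ := Submodule.mem_span_singleton.1 hgy
      have hc0 : c ≠ 0 := by
        rintro rfl
        rw [zero_smul, eq_comm, map_eq_zero_iff g₀ g₀.injective] at hc
        exact hy' (hc ▸ Submodule.zero_mem _)
      have e : (g₀ * g * g₀⁻¹) (c • y) = c • y := by rw [hc, mul_inv_apply, (hfix g hg).2]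
      rw [map_smul] at e
      rw [smul_right_injective V hc0 e]
      exact Submodule.mem_span_singleton_self _
  have hcardR : Nat.card R = r ^ (Nat.card T).factorization r := by
    rw [hR, Subgroup.card_map_of_injective T.subtype_injective]
    exact P.card_eq_multiplicity
  have hcard' : Nat.card (R'.subgroupOf T) = r ^ (Nat.card T).factorization r := by
    rw [Nat.card_congr (Subgroup.subgroupOfEquivOfLe hR'T).toEquiv, hR',
      Subgroup.card_map_of_injective (MulAut.conj g₀).injective, hcardR]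
  obtain ⟨t, ht⟩ := MulAction.exists_smul_eq ↥T (Sylow.ofCard (R'.subgroupOf T) hcard') P
  have hmap : R'.map (MulAut.conj (t : V ≃ₗ[F] V)).toMonoidHom = R := by
    have h1 : ((t • Sylow.ofCard (R'.subgroupOf T) hcard' : Sylow r ↥T) : Subgroup ↥T) = P := by rw [ht]
    rw [Sylow.coe_subgroup_smul, Sylow.coe_ofCard] at h1
    rw [hR, ← h1]
    ext g
    constructor
    · rintro ⟨u, hu, rfl⟩
      exact ⟨_, Subgroup.smul_mem_pointwise_smul ⟨u, hR'T hu⟩ (MulAut.conj t) _
        (show (⟨u, hR'T hu⟩ : ↥T) ∈ R'.subgroupOf T from hu), rfl⟩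
    · rintro ⟨u, hu, rfl⟩
      obtain ⟨w, hw, rfl⟩ := hu
      exact ⟨w, hw, rfl⟩
  refine ⟨t * g₀, G.mul_mem t.2.1.1 hg₀, fun g => ?_, ?_, ?_⟩
  · have hboth : R.map (MulAut.conj ((t : V ≃ₗ[F] V) * g₀)).toMonoidHom = R := by
      rw [show (MulAut.conj ((t : V ≃ₗ[F] V) * g₀)).toMonoidHom =
        (MulAut.conj (t : V ≃ₗ[F] V)).toMonoidHom.comp (MulAut.conj g₀).toMonoidHom from by
          rw [map_mul]; rfl, ← Subgroup.map_map, ← hR', hmap]
    constructor
    · intro hg
      rw [← hboth]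
      exact ⟨g, hg, rfl⟩
    · intro hg
      rw [← hboth] at hg
      obtain ⟨w, hw, hwe⟩ := hg
      rwa [← (MulAut.conj ((t : V ≃ₗ[F] V) * g₀)).injective hwe]
  · show (t : V ≃ₗ[F] V) (g₀ x') ∈ F ∙ x
    rw [hgx]
    exact t.2.1.2
  · show (t : V ≃ₗ[F] V) (g₀ y') ∈ F ∙ y
    exact map_mem_line t.2.2.2 hgy

end Cfsg.Agent.H26.SingerMax
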