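import Cfsg.Agent.H26.SingerMax.Planes

/-!
A linear group doubly transitive on points containing one transvection contains them all.
-/

set_option autoImplicit false
set_option linter.unusedSectionVars false
set_option linter.style.haveILetI false

namespace Cfsg.Agent.H26.SingerMax

open Module

variable {F V : Type*} [Field F] [AddCommGroup V] [Module F V] [Finite F] [Finite V]
  {G : Subgroup (V ≃ₗ[F] V)}

/-- The transvection `v ↦ v + φ v • a` lies in the group. -/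
def HasTr (G : Subgroup (V ≃ₗ[F] V)) (a : V) (φ : Dual F V) : Prop :=
  φ a = 0 ∧ ∃ g ∈ G, ∀ v, g v = v + φ v • a

theorem HasTr.zero_dual (a : V) : HasTr G a 0 := ⟨rfl, 1, G.one_mem, fun v => by simp⟩

theorem HasTr.conj {a : V} {φ : Dual F V} (h : HasTr G a φ) {g : V ≃ₗ[F] V} (hg : g ∈ G)
    {φ' : Dual F V} (hφ : ∀ v, φ' (g v) = φ v) : HasTr G (g a) φ' := by
  obtain ⟨h0, t, ht, htv⟩ := h
  refine ⟨by rw [hφ, h0], g * t * g⁻¹, G.mul_mem (G.mul_mem hg ht) (G.inv_mem hg), fun v => ?_⟩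
  show g (t (g.symm v)) = _
  rw [htv, map_add, map_smul, g.apply_symm_apply, ← hφ, g.apply_symm_apply]

theorem HasTr.add_dual {a : V} {φ ψ : Dual F V} (h : HasTr G a φ) (h' : HasTr G a ψ) :
    HasTr G a (φ + ψ) := by
  obtain ⟨h0, t, ht, htv⟩ := h
  obtain ⟨h0', t', ht', htv'⟩ := h'
  refine ⟨by simp [h0, h0'], t * t', G.mul_mem ht ht', fun v => ?_⟩
  show t (t' v) = _
  rw [htv', htv]
  simp [h0, add_smul]
  abel

theorem HasTr.sub_vec {a b : V} {φ : Dual F V} (h : HasTr G a φ) (h' : HasTr G b φ) :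
    HasTr G (a - b) φ := by
  obtain ⟨h0, t, ht, htv⟩ := h
  obtain ⟨h0', t', ht', htv'⟩ := h'
  have hinv : ∀ v, t'.symm v = v - φ v • b := fun v => by
    rw [LinearEquiv.symm_apply_eq, htv']
    simp [h0']
  refine ⟨by simp [h0, h0'], t * t'⁻¹, G.mul_mem ht (G.inv_mem ht'), fun v => ?_⟩
  show t (t'.symm v) = _
  rw [hinv, htv]
  simp [h0', smul_sub]
  abel

theorem hasTr_smul {a : V} {φ : Dual F V} {c : F} (hc : c ≠ 0) :
    HasTr G (c • a) φ ↔ HasTr G a (c • φ) := by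
  constructor
  · rintro ⟨h0, t, ht, htv⟩
    exact ⟨by simpa [hc] using h0, t, ht, fun v => by rw [htv]; simp [smul_smul, mul_comm]⟩
  · rintro ⟨h0, t, ht, htv⟩
    exact ⟨by simpa [hc] using h0, t, ht, fun v => by rw [htv]; simp [smul_smul, mul_comm]⟩

/-- The commutator of two transvections. -/
theorem HasTr.comm {x y : V} {φ ψ : Dual F V} (h : HasTr G x φ) (h' : HasTr G y ψ) (hψ : ψ x = 0) :
    HasTr G (φ y • x) ψ := by
  obtain ⟨h0, t, ht, htv⟩ := h
  have h2 := h'.conj ht (φ' := ψ) fun v => by rw [htv]; simp [hψ]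
  have h3 := h2.sub_vec h'
  rw [htv] at h3
  simpa using h3

/-- Transfer between flags. -/
theorem TwoTrans.transfer (hS : HasScalars G) (hG : TwoTrans G) (hdim : 2 ≤ finrank F V)
    {x x' : V} (hx : x ≠ 0) (hx' : x' ≠ 0) {φ φ' : Dual F V} (hφ : φ ≠ 0) (hφ' : φ' ≠ 0)
    (h : φ x = 0) (h' : φ' x' = 0) :
    ∃ c : F, c ≠ 0 ∧ ∀ b : F, HasTr G x (b • φ) → HasTr G x' ((c * b) • φ') := by
  obtain ⟨z, hz⟩ : ∃ z, z ∉ F ∙ x := by
    by_contra hc
    push Not at hc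
    have hle := Submodule.finrank_mono (show (⊤ : Submodule F V) ≤ F ∙ x from fun v _ => hc v)
    rw [finrank_top, finrank_span_singleton hx] at hle
    omega
  obtain ⟨z', hz'⟩ : ∃ z, z ∉ F ∙ x' := by
    by_contra hc
    push Not at hc
    have hle := Submodule.finrank_mono (show (⊤ : Submodule F V) ≤ F ∙ x' from fun v _ => hc v)
    rw [finrank_top, finrank_span_singleton hx'] at hle
    omega
  obtain ⟨g, hg, hgx, -⟩ := hG x z x' z' hx hz hx' hz'
  set ψ : Dual F V := φ ∘ₗ (g.symm : V →ₗ[F] V) with hψ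
  have hψ0 : ψ ≠ 0 := fun h0 => hφ (LinearMap.ext fun v => by
    have := LinearMap.congr_fun h0 (g v)
    simpa [hψ] using this)
  have hψx : ψ x' = 0 := by simp [hψ, ← hgx, h]
  obtain ⟨k, ⟨hk, hkx⟩, hkv⟩ := hG.move_dual hS hx' hdim hψ0 hφ' (by simp [hψx, h'])
  obtain ⟨c, hc⟩ := Submodule.mem_span_singleton.1 hkx
  have hc0 : c ≠ 0 := by
    rintro rfl
    rw [zero_smul, eq_comm, map_eq_zero_iff k k.injective] at hc
    exact hx' hc
  refine ⟨c, hc0, fun b hb => ?_⟩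
  have h1 := hb.conj (g := k * g) (G.mul_mem hk hg) (φ' := b • φ') fun v => by
    show b • φ' (k (g v)) = b • φ v
    rw [hkv]
    simp [hψ]
  have h2 : (k * g) x = c • x' := by
    show k (g x) = _
    rw [hgx, hc]
  rw [h2, hasTr_smul hc0, smul_smul] at h1
  exact h1

/-- One nontrivial transvection gives all. -/
theorem TwoTrans.all_transvections (hS : HasScalars G) (hG : TwoTrans G) (hdim : 4 ≤ finrank F V)
    {a₀ : V} {φ₀ : Dual F V} (ha₀ : a₀ ≠ 0) (hφ₀ : φ₀ ≠ 0) (h₀ : HasTr G a₀ φ₀)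
    (x : V) (φ : Dual F V) (h : φ x = 0) : HasTr G x φ := by
  classical
  rcases eq_or_ne x 0 with rfl | hx
  · exact ⟨map_zero φ, 1, G.one_mem, fun v => by simp⟩
  rcases eq_or_ne φ 0 with rfl | hφ
  · exact HasTr.zero_dual x
  have h2 : 2 ≤ finrank F V := by omega
  let Λ : V → Dual F V → Set F := fun v ψ => {b | HasTr G v (b • ψ)}
  have hΛ : ∀ (v v' : V) (ψ ψ' : Dual F V), v ≠ 0 → v' ≠ 0 → ψ ≠ 0 → ψ' ≠ 0 → ψ v = 0 → ψ' v' = 0 →
      (Λ v ψ).ncard ≤ (Λ v' ψ').ncard := by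
    intro v v' ψ ψ' hv hv' hψ hψ' e e'
    obtain ⟨c, hc, hc'⟩ := hG.transfer hS h2 hv hv' hψ hψ' e e'
    exact Set.ncard_le_ncard_of_injOn (fun b => c * b) hc' ((mul_right_injective₀ hc).injOn)
      (Set.toFinite _)
  obtain ⟨b⟩ : Nonempty (Basis (Fin (finrank F V)) F V) := ⟨Module.finBasis F V⟩
  let i : Fin 4 → Fin (finrank F V) := Fin.castLE hdim
  have hi : Function.Injective i := Fin.castLE_injective hdim
  let w : Fin 4 → V := fun k => b (i k)
  let cw : Fin 4 → Dual F V := fun k => b.coord (i k)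
  have hcw : ∀ k l, cw k (w l) = if k = l then 1 else 0 := fun k l => by
    show b.coord (i k) (b (i l)) = _
    rw [Basis.coord_apply, Basis.repr_self, Finsupp.single_apply]
    by_cases hkl : k = l
    · simp [hkl]
    · rw [if_neg hkl, if_neg (fun h' => hkl (hi h').symm)]
  have hw0 : ∀ k, w k ≠ 0 := fun k => b.ne_zero _
  have hc0 : ∀ k, cw k ≠ 0 := fun k h0 => by simpa [h0] using hcw k k
  obtain ⟨d, hd, hd'⟩ : ∃ d : F, d ≠ 0 ∧ HasTr G (w 0) (d • cw 2) := by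
    obtain ⟨c, hc, hc'⟩ := hG.transfer hS h2 ha₀ (hw0 0) hφ₀ (hc0 2) h₀.1 (by simp [hcw])
    exact ⟨c, hc, by simpa using hc' 1 (by simpa using h₀)⟩
  set Λ₁ := Λ (w 0) (cw 1)
  have hΛ₁ : ∀ r : F, r * d ∈ Λ₁ := by
    intro r
    set y := w 1 + r • w 2 with hy
    have hy0 : y ≠ 0 := fun h0 => by
      have := congrArg (cw 1) h0
      simp [hy, hcw] at this
    obtain ⟨e, he, he'⟩ : ∃ e : F, e ≠ 0 ∧ HasTr G y (e • cw 3) := by
      obtain ⟨c, hc, hc'⟩ := hG.transfer hS h2 ha₀ hy0 hφ₀ (hc0 3) h₀.1 (by simp [hy, hcw])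
      exact ⟨c, hc, by simpa using hc' 1 (by simpa using h₀)⟩
    have hval : ∀ ψ : Dual F V, HasTr G (w 0) ψ → ψ y * e ∈ Λ (w 0) (cw 3) := by
      intro ψ hψ
      rcases eq_or_ne (ψ y) 0 with h0 | h0
      · show HasTr G (w 0) ((ψ y * e) • cw 3)
        rw [h0, zero_mul, zero_smul]
        exact HasTr.zero_dual _
      · have := hψ.comm he' (by simp [hcw])
        rwa [hasTr_smul h0, smul_smul] at this
    -- the values at `y` of the centre `w 0` transvections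
    let T : Set F := {s | ∃ ψ : Dual F V, HasTr G (w 0) ψ ∧ ψ y = s}
    have hT1 : Λ₁ ⊆ T := fun s hs => ⟨s • cw 1, hs, by simp [hy, hcw]⟩
    have hT2 : T.ncard ≤ Λ₁.ncard := by
      refine le_trans ?_ (hΛ (w 0) (w 0) (cw 3) (cw 1) (hw0 0) (hw0 0) (hc0 3) (hc0 1)
        (by simp [hcw]) (by simp [hcw]))
      refine Set.ncard_le_ncard_of_injOn (fun s => s * e) ?_ ((mul_left_injective₀ he).injOn)
        (Set.toFinite _)
      rintro s ⟨ψ, hψ, rfl⟩
      exact hval ψ hψ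
    have heq : Λ₁ = T := Set.eq_of_subset_of_ncard_le hT1 hT2 (Set.toFinite _)
    rw [heq]
    exact ⟨d • cw 2, hd', by simp [hy, hcw, mul_comm]⟩
  obtain ⟨c, hc, hc'⟩ := hG.transfer hS h2 (hw0 0) hx (hc0 1) hφ (by simp [hcw]) h
  have hmem : c⁻¹ ∈ Λ₁ := by simpa [mul_assoc, hd] using hΛ₁ (c⁻¹ * d⁻¹)
  have := hc' c⁻¹ hmem
  simpa [hc] using this

end Cfsg.Agent.H26.SingerMax
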